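import Cfsg.Statements.S5877
import Mathlib

set_option autoImplicit false
set_option linter.unusedSectionVars false
open Cfsg

namespace Cfsg.Agent.S5877

open Module Polynomial Finset
open scoped commutatorElement

section
variable {F M : Type*} [Field F] [AddCommGroup M] [Module F M] [FiniteDimensional F M]

theorem sum_le {ι : Type*} (S : Finset ι) (U : ι → Submodule F M) (h : ι → End F M) (T : Submodule F M) (f : End F M)
    (ν : ι → F) (hν : Set.InjOn ν S) (hh : ∀ i, Function.Injective (h i))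
    (H : ∀ i ∈ S, ∀ v ∈ U i, h i v ∈ T ∧ f (h i v) = ν i • h i v) : ∑ i ∈ S, finrank F (U i) ≤ finrank F T := by
  classical
  let Φ : (∀ i : S, U i) →ₗ[F] M := ∑ i : S, (h i).comp ((U i).subtype.comp (LinearMap.proj i))
  have hΦ : ∀ u, Φ u = ∑ i : S, h i (u i) := fun u => by simp [Φ, LinearMap.sum_apply]
  have hi : Function.Injective Φ := by
    rw [injective_iff_map_eq_zero]
    intro u hu
    have := iSupIndep_iff_finsetSum_eq_zero_imp_eq_zero _ |>.1
      (f.eigenspaces_iSupIndep.comp (f := fun i : S => ν i) fun i j e => Subtype.ext (hν i.2 j.2 e)) univ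
      (fun i => h i (u i)) (fun i _ => End.mem_eigenspace_iff.2 (H i i.2 _ (u i).2).2) (hΦ u ▸ hu)
    funext i
    exact Subtype.ext (hh i ((this i (mem_univ i)).trans (map_zero _).symm))
  rw [← sum_coe_sort S fun i => finrank F (U i), ← Module.finrank_pi_fintype, ← LinearMap.finrank_range_of_inj hi]
  refine Submodule.finrank_mono ?_
  rintro _ ⟨u, rfl⟩
  rw [hΦ]
  exact T.sum_mem fun i _ => (H i i.2 _ (u i).2).1

theorem le_sum (z : End F M) (a : ℕ → F) (m : ℕ) : ∀ W : Submodule F M, (∀ v ∈ W, z v ∈ W) →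
    (∀ v ∈ W, aeval z (∏ i ∈ range m, (X - C (a i))) v = 0) →
    finrank F W ≤ ∑ i ∈ range m, finrank F (W ⊓ z.eigenspace (a i) : Submodule F M) := by
  induction m with
  | zero =>
    intro W _ h
    rw [show W = ⊥ from eq_bot_iff.2 fun v hv => by simpa using h v hv]
    simp
  | succ m ih =>
    intro W hW h
    let t : End F M := z - a m • 1
    have ht : ∀ v, t v = z v - a m • v := fun v => rfl
    have hle : W.map t ≤ W := by
      rintro _ ⟨v, hv, rfl⟩
      exact W.sub_mem (hW v hv) (W.smul_mem _ hv)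
    have h1 := ih (W.map t) (by
      rintro _ ⟨v, hv, rfl⟩
      exact ⟨z v, hW v hv, by simp [ht]⟩) (by
      rintro _ ⟨v, hv, rfl⟩
      simpa [prod_range_succ, ht, Algebra.algebraMap_eq_smul_one] using h v hv)
    have h2 := LinearMap.finrank_range_add_finrank_ker (t.domRestrict W)
    rw [LinearMap.range_domRestrict, LinearMap.ker_domRestrict, ← Submodule.finrank_map_subtype_eq W,
      Submodule.map_comap_subtype, ← End.eigenspace_def] at h2
    rw [sum_range_succ, ← h2]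
    exact Nat.add_le_add_right (h1.trans (sum_le_sum fun i _ => Submodule.finrank_mono (inf_le_inf_right _ hle))) _

end

section
variable {K C : Type*} [Group K] [AddCommGroup C]

/-- An invariant alternating bimultiplicative form. -/
structure Bi (B : K → K → C) (σ : MulAut K) : Prop where
  ml : ∀ a b d, B (a * b) d = B a d + B b d
  sk : ∀ a b, B a b = -B b a
  iv : ∀ a b, B (σ a) (σ b) = B a b

/-- The commutator with `σ`. -/
def NN (σ : MulAut K) (x : K) : K := σ x * x⁻¹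

namespace Bi
variable {B : K → K → C} {σ : MulAut K} (h : Bi B σ)
include h

theorem mr (a b d : K) : B d (a * b) = B d a + B d b := by rw [h.sk, h.ml, h.sk a, h.sk b]; abel
theorem il (a d : K) : B a⁻¹ d = -B a d := by
  have h1 := h.ml 1 1 d
  have h2 := h.ml a⁻¹ a d
  rw [one_mul] at h1
  rw [inv_mul_cancel] at h2
  linear_combination (norm := abel) -h2 - h1
theorem nl (a d : K) : B (NN σ a) d = B (σ a) d - B a d := by rw [NN, h.ml, h.il, sub_eq_add_neg]
theorem nr (a d : K) : B d (NN σ a) = B d (σ a) - B d a := by rw [h.sk, h.nl, h.sk a, h.sk (σ a)]; abel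
theorem sl (a d : K) : B (σ a) d = B a (σ⁻¹ d) := by rw [← h.iv a]; simp
theorem nml (a b d : K) : B (NN σ (a * b)) d = B (NN σ a) d + B (NN σ b) d := by
  simp only [h.nl, map_mul, h.ml]; abel

theorem nmr (a b d : K) : B d (σ (NN σ (a * b))) = B d (σ (NN σ a)) + B d (σ (NN σ b)) := by
  rw [h.sk, h.sl, h.nml, ← h.sl, ← h.sl, h.sk d, h.sk d]; abel

theorem p2 {p : ℕ} (hp : Odd p) (hσ : σ ^ p = 1) (H : ∀ x, B (NN σ x) (σ (NN σ x)) = 0) (x w : K) :
    B (NN σ (NN σ (NN σ x))) w = 0 := by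
  have h1 : ∀ y, B (NN σ y) (σ (NN σ x)) = B (σ (NN σ y)) (NN σ x) := fun y => by
    have e := H (y * x)
    rw [h.nml, h.nmr, h.nmr, H, H, h.sk (NN σ x)] at e
    linear_combination (norm := abel) e
  set a := NN σ x
  have h2 : ∀ w, B (σ (σ (NN σ a))) w = B (NN σ a) w := fun w => by
    have e := h1 (σ⁻¹ (σ⁻¹ w))
    rw [h.sl (NN σ _), h.nl, h.nl, h.sk _ (σ a), h.sk _ (σ a), h.sk _ (σ⁻¹ a), h.sk _ (σ⁻¹ a)] at e
    rw [h.sl, h.sl, h.nl a, h.nl a]
    have e1 := h.iv (σ⁻¹ a) (σ⁻¹ (σ⁻¹ w))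
    have e2 := h.iv a (σ⁻¹ w)
    have e3 := h.iv (σ⁻¹ a) (σ⁻¹ w)
    have e4 := h.iv a (σ⁻¹ (σ⁻¹ w))
    have e5 := h.sl a w
    simp only [MulAut.apply_inv_self] at e e1 e2 e3 e4
    linear_combination (norm := abel) e + e4 + e3 - e1 - e5
  obtain ⟨k, rfl⟩ := hp
  have h3 : ∀ (j : ℕ) w, B ((σ ^ (2 * j)) (NN σ a)) w = B (NN σ a) w := fun j => by
    induction j with
    | zero => simp
    | succ j ih =>
      intro w
      rw [show 2 * (j + 1) = 1 + 1 + 2 * j by ring, pow_add, pow_add, pow_one, MulAut.mul_apply, MulAut.mul_apply,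
        h.sl, h.sl, ih, ← h.sl, ← h.sl, h2]
  have h4 := h3 (k + 1) w
  rw [show 2 * (k + 1) = 2 * k + 1 + 1 by ring, pow_succ, hσ, one_mul] at h4
  rw [h.nl, h4, sub_self]

theorem p3 {p r : ℕ} (hp : p.Coprime r) (hσ : σ ^ p = 1) (hr : ∀ a b, r • B a b = 0) {u : K}
    (H : ∀ w, B (NN σ (NN σ u)) w = 0) (w : K) : B (NN σ u) w = 0 := by
  have h1 : ∀ (k : ℕ) w, B ((σ ^ k) u) w = B u w + k • B (NN σ u) w := fun k => by
    induction k with
    | zero => simp
    | succ k ih =>
      intro w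
      have e := H w
      rw [h.nl, sub_eq_zero] at e
      rw [pow_succ', MulAut.mul_apply, h.sl, ih, ← h.sl, ← h.sl, e, succ_nsmul, h.nl u]; abel
  have h2 := h1 p w
  rw [hσ, MulAut.one_apply, left_eq_add] at h2
  exact AddMonoid.addOrderOf_eq_one_iff.1 (Nat.eq_one_of_dvd_coprimes hp (addOrderOf_dvd_of_nsmul_eq_zero h2)
    (addOrderOf_dvd_of_nsmul_eq_zero (hr _ _)))

theorem p4 {r : ℕ} (ho : Odd r) (hr : ∀ a b, r • B a b = 0) (H : ∀ x w, B (NN σ (NN σ x)) w = 0)
    (H' : ∀ x, B (NN σ x) x = 0) (x w : K) : B (NN σ x) w = 0 := by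
  have h1 : ∀ x w, B (NN σ x) w = B x (NN σ w) := fun x w => by
    have e := H' (x * w)
    rw [h.nml, h.mr, h.mr, H', H', h.sk (NN σ w)] at e
    linear_combination (norm := abel) e
  have h2 := h1 x (NN σ w)
  rw [h.sk x, H, h.nr, h.nl x (σ w), h.iv] at h2
  have h3 := h1 x w
  rw [h.nr] at h3
  have h4 : 2 • B (NN σ x) w = 0 := by linear_combination (norm := abel) h3 - h2
  exact AddMonoid.addOrderOf_eq_one_iff.1 (Nat.eq_one_of_dvd_coprimes (Nat.coprime_two_left.2 ho)
    (addOrderOf_dvd_of_nsmul_eq_zero h4) (addOrderOf_dvd_of_nsmul_eq_zero (hr _ _)))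

end Bi
end

section
variable {F M K : Type*} [Field F] [AddCommGroup M] [Module F M] [FiniteDimensional F M] [Group K]

/-- The setting: `g` normalizes the absolutely irreducible group `K` of symplectic type. -/
structure Cx (ρ : K →* End F M) (g : End F M) (σ : MulAut K) (r : ℕ) (β : K → K → F) : Prop where
  hr : r.Prime
  cm : ∀ a b, ρ a * ρ b = β a b • (ρ b * ρ a)
  pw : ∀ a b, β a b ^ r = 1
  nd : ∀ u : End F M, (∀ x, u * ρ x = ρ x * u) → ∃ s : F, u = s • 1
  nm : ∀ x, ρ x * g = g * ρ (σ x)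
  ns : ¬ ∃ s : F, g = s • 1
  inj : Function.Injective g

namespace Cx
variable [Nontrivial M] {ρ : K →* End F M} {g : End F M} {σ : MulAut K} {r : ℕ} {β : K → K → F} (h : Cx ρ g σ r β)

theorem injρ (x : K) : Function.Injective (ρ x) := fun u v e => by
  have := congrArg (ρ x⁻¹) e
  rwa [← End.mul_apply, ← End.mul_apply, ← map_mul, inv_mul_cancel, map_one] at this

theorem uq {a b : F} {u : End F M} (hu : Function.Injective u) (e : a • u = b • u) : a = b := by
  obtain ⟨v, hv⟩ := exists_ne (0 : M)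
  exact smul_left_injective F (fun e => hv (hu (e.trans (map_zero u).symm))) (LinearMap.congr_fun e v)

include h

theorem ne (a b : K) : β a b ≠ 0 := fun e => by
  have := h.pw a b
  rw [e, zero_pow h.hr.ne_zero] at this
  exact zero_ne_one this

/-- The commutator form. -/
noncomputable def B (a b : K) : Additive Fˣ := Additive.ofMul (Units.mk0 _ (h.ne a b))

theorem B_zero {a b : K} : h.B a b = 0 ↔ β a b = 1 := by simp [B, Units.ext_iff]

theorem bi : Bi h.B σ where
  ml a b d := by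
    refine congrArg Additive.ofMul (Units.ext (uq (u := ρ (d * (a * b))) (injρ _) ?_))
    change β _ _ • _ = (β _ _ * β _ _) • _
    rw [map_mul, ← h.cm, map_mul, mul_assoc, h.cm b, mul_smul_comm, ← mul_assoc, h.cm a d, smul_mul_assoc, smul_smul,
      mul_comm (β b d), mul_assoc]
  sk a b := by
    rw [eq_neg_iff_add_eq_zero]
    refine congrArg Additive.ofMul (Units.ext (uq (u := ρ (a * b)) (injρ _) ?_))
    change (β _ _ * β _ _) • _ = (1 : F) • _
    rw [map_mul, one_smul, mul_smul, ← h.cm, ← h.cm]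
  iv a b := by
    refine congrArg Additive.ofMul (Units.ext (uq (u := g * ρ (σ b * σ a)) (h.inj.comp (injρ _)) ?_))
    change β _ _ • _ = β _ _ • _
    rw [← mul_smul_comm, map_mul, ← h.cm, ← mul_assoc, ← h.nm, mul_assoc, ← h.nm, ← mul_assoc, h.cm, ← mul_assoc,
      ← h.nm, mul_assoc _ g, ← h.nm, smul_mul_assoc, mul_assoc]

theorem rB (a b : K) : r • h.B a b = 0 := congrArg Additive.ofMul (Units.ext (h.pw a b))

theorem sc {u : K} (hu : ∀ w, h.B u w = 0) : ∃ s : F, ρ u = s • 1 :=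
  h.nd _ fun x => by rw [h.cm, h.B_zero.1 (hu x), one_smul]

theorem prim {a b : K} (hu : h.B a b ≠ 0) : IsPrimitiveRoot (β a b) r := by
  have := Fact.mk h.hr
  exact orderOf_eq_prime (h.pw a b) (fun e => hu (h.B_zero.2 e)) ▸ IsPrimitiveRoot.orderOf _

theorem shift (y x : K) {μ : F} {v : M} (hv : ρ y v = μ • v) (j : ℕ) :
    ρ y (ρ (x ^ j) v) = (β y x ^ j * μ) • ρ (x ^ j) v := by
  induction j with
  | zero => simpa using hv
  | succ j ih =>
    rw [pow_succ', map_mul, End.mul_apply, ← End.mul_apply, h.cm, LinearMap.smul_apply, End.mul_apply, ih, map_smul,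
      smul_smul, pow_succ', mul_assoc]

theorem fix_le {y x : K} (hu : h.B y x ≠ 0) : r * finrank F ((ρ y).eigenspace 1) ≤ finrank F M := by
  have := sum_le (range r) (fun _ => (ρ y).eigenspace 1) (fun j => ρ (x ^ j)) ⊤ (ρ y) (fun j => β y x ^ j * 1)
    (fun i hi j hj e => (h.prim hu).pow_inj (mem_range.1 hi) (mem_range.1 hj) (by simpa using e)) (fun _ => injρ _)
    fun j _ v hv => ⟨trivial, h.shift y x (End.mem_eigenspace_iff.1 hv) j⟩
  simpa using this

theorem dvd {y x : K} (hu : h.B y x ≠ 0) : r ∣ finrank F M := by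
  have := congrArg LinearMap.det (h.cm y x)
  rw [LinearMap.det_smul, map_mul, map_mul, mul_comm (LinearMap.det (ρ x))] at this
  have h0 : ∀ z, LinearMap.det (ρ z) ≠ 0 := fun z => ((Group.isUnit z).map ρ).map LinearMap.det |>.ne_zero
  exact (h.prim hu).dvd_of_pow_eq_one _ (mul_right_cancel₀ (mul_ne_zero (h0 y) (h0 x)) (by rw [← this, one_mul]))

theorem fx {c : F} {x : K} {v : M} (h1 : g v = c • v) (h2 : g (ρ x⁻¹ v) = c • ρ x⁻¹ v) : ρ (NN σ x) v = v := by
  apply h.inj
  rw [NN, map_mul, End.mul_apply, ← End.mul_apply g, ← h.nm, End.mul_apply, h2, map_smul, ← End.mul_apply, ← map_mul,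
    mul_inv_cancel, map_one, h1, End.one_apply]

theorem fx' {c : F} {y : K} {v : M} (h1 : g v = c • v) (h2 : ρ y v = v) : ρ (σ y) v = v := by
  apply h.inj
  rw [← End.mul_apply g, ← h.nm, End.mul_apply, h1, map_smul, h2]

theorem inter (c : F) (x : K) : ∃ U : Submodule F M, 2 * finrank F (g.eigenspace c) ≤ finrank F M + finrank F U ∧
    ∀ v ∈ U, g v = c • v ∧ ρ (NN σ x) v = v := by
  refine ⟨g.eigenspace c ⊓ (g.eigenspace c).map (ρ x), ?_, ?_⟩
  · have e := Submodule.finrank_sup_add_finrank_inf_eq (g.eigenspace c) ((g.eigenspace c).map (ρ x))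
    have := Submodule.finrank_le (g.eigenspace c ⊔ (g.eigenspace c).map (ρ x))
    rw [← (Submodule.equivMapOfInjective _ (injρ x) _).finrank_eq] at e
    omega
  · rintro _ ⟨h1, u, hu, rfl⟩
    refine ⟨End.mem_eigenspace_iff.1 h1, h.fx (End.mem_eigenspace_iff.1 h1) ?_⟩
    rw [← End.mul_apply (ρ x⁻¹), ← map_mul, inv_mul_cancel, map_one]
    exact End.mem_eigenspace_iff.1 hu

variable {c : F} (hw : finrank F M < 2 * finrank F (g.eigenspace c))
include hw

theorem vec (x : K) : ∃ v, v ≠ 0 ∧ g v = c • v ∧ ρ (NN σ x) v = v := by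
  obtain ⟨U, h1, h2⟩ := h.inter c x
  obtain ⟨v, hv, h0⟩ := U.exists_mem_ne_zero_of_ne_bot (by rintro rfl; simp at h1; omega)
  exact ⟨v, h0, h2 v hv⟩

omit hw in
theorem one {u : K} {v : M} (h0 : v ≠ 0) (hv : ρ u v = v) (hu : ∀ w, h.B u w = 0) : ρ u = 1 := by
  obtain ⟨s, hs⟩ := h.sc hu
  rw [hs, show s = 1 from smul_left_injective F h0 (by simpa [hs] using hv), one_smul]

theorem comm {x : K} (hx : ∀ w, h.B (NN σ x) w = 0) : g * ρ x = ρ x * g := by
  obtain ⟨v, h0, -, h2⟩ := h.vec hw x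
  have := h.one h0 h2 hx
  rw [h.nm, show σ x = NN σ x * x by simp [NN], map_mul, this, one_mul]

theorem ex : ∃ x w, h.B (NN σ x) w ≠ 0 := by
  by_contra! hn
  exact h.ns (h.nd g fun x => h.comm hw (hn x))

theorem partA : r * (2 * finrank F (g.eigenspace c)) ≤ r * finrank F M + finrank F M ∧ r ∣ finrank F M := by
  obtain ⟨x, w, hx⟩ := h.ex hw
  obtain ⟨U, h1, h2⟩ := h.inter c x
  have h3 : finrank F U ≤ finrank F ((ρ (NN σ x)).eigenspace 1) :=
    Submodule.finrank_mono fun v hv => End.mem_eigenspace_iff.2 (by rw [(h2 v hv).2, one_smul])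
  have := h.fix_le hx
  exact ⟨by nlinarith, h.dvd hx⟩

theorem h2 (x : K) : h.B (NN σ x) (σ (NN σ x)) = 0 := by
  obtain ⟨v, h0, h1, h2⟩ := h.vec hw x
  have := LinearMap.congr_fun (h.cm (NN σ x) (σ (NN σ x))) v
  simp only [End.mul_apply, LinearMap.smul_apply, h2, h.fx' h1 h2] at this
  exact h.B_zero.2 (smul_left_injective F h0 (this.symm.trans (one_smul F v).symm))

omit hw in
theorem dec {z : K} {v : M} (h0 : v ≠ 0) (hv : ρ z v = v) (hz : g * ρ z = ρ z * g) {ζ : F} (hζ : IsPrimitiveRoot ζ r) :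
    finrank F (g.eigenspace c) ≤ ∑ i ∈ range r, finrank F (g.eigenspace c ⊓ (ρ z).eigenspace (ζ ^ i * 1) : Submodule F M) := by
  have h1 : ρ (z ^ r) = 1 := h.one h0 (by
    rw [map_pow, End.pow_apply]; exact Function.iterate_fixed hv r) fun w => by
    have : ∀ j : ℕ, h.B (z ^ j) w = j • h.B z w := fun j => by
      induction j with
      | zero => simpa using h.bi.ml 1 1 w
      | succ j ih => rw [pow_succ, h.bi.ml, ih, succ_nsmul]
    rw [this, h.rB]
  refine le_sum (ρ z) _ r _ (fun u hu => End.mem_eigenspace_iff.2 ?_) fun u _ => ?_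
  · rw [← End.mul_apply, hz, End.mul_apply, End.mem_eigenspace_iff.1 hu, map_smul]
  · rw [← X_pow_sub_C_eq_prod hζ h.hr.pos (one_pow r), map_sub, map_pow, aeval_X, ← map_pow, h1]; simp

theorem cne : c ≠ 0 := by
  rintro rfl
  obtain ⟨v, h0, h1, -⟩ := h.vec hw 1
  exact h0 (h.inj (by simpa using h1))

omit hw in
theorem step {x : K} {c μ : F} {u : M} (hμ : μ ≠ 0) (h1 : g u = c • u) (h2 : ρ (NN σ x) (ρ x u) = μ • ρ x u) :
    g (ρ x u) = (c * μ⁻¹) • ρ x u := by
  have := LinearMap.congr_fun (h.nm x) u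
  rw [show σ x = NN σ x * x by simp [NN], map_mul, End.mul_apply, End.mul_apply, End.mul_apply, h1, h2, map_smul,
    map_smul] at this
  rw [mul_comm, mul_smul, this, inv_smul_smul₀ hμ]

theorem caseII {x w : K} (h3 : ∀ w, h.B (NN σ (NN σ (NN σ x))) w = 0) (hx : h.B (NN σ (NN σ x)) w ≠ 0) :
    r * finrank F (g.eigenspace c) ≤ 2 * finrank F M := by
  obtain ⟨v, h0, h1, h2⟩ := h.vec hw x
  have e := h.h2 hw x
  set y := NN σ x
  set z := NN σ y with hz
  have hzv : ρ z v = v := by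
    rw [hz, NN, map_mul, End.mul_apply, show ρ y⁻¹ v = v from injρ y (by
      rw [← End.mul_apply, ← map_mul, mul_inv_cancel, map_one, h2, End.one_apply]), h.fx' h1 h2]
  have hζ := h.prim hx
  have hzy : β z y = 1 := h.B_zero.1 (by
    rw [h.bi.nl, h.bi.sk, e, h.B_zero.2 (uq (injρ (y * y)) (by rw [map_mul, ← h.cm, one_smul]))]; simp)
  have d := h.dec (c := c) h0 hzv (h.comm hw h3) hζ
  have k1 : ∀ i ∈ range r, r * finrank F (g.eigenspace c ⊓ (ρ z).eigenspace (β z w ^ i * 1) : Submodule F M) ≤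
      finrank F ((ρ z).eigenspace (β z w ^ i * 1)) + if i = 0 then finrank F M else 0 := fun i hi => by
    split_ifs with hi0
    · subst hi0
      rw [pow_zero, one_mul]
      exact le_add_left ((Nat.mul_le_mul_left r (Submodule.finrank_mono inf_le_right)).trans (h.fix_le hx))
    have hμ : IsPrimitiveRoot (β z w ^ i * 1)⁻¹ r := by
      rw [mul_one]
      exact (hζ.pow_of_coprime i ((Nat.coprime_of_lt_prime hi0 (mem_range.1 hi) h.hr).symm)).inv
    have := sum_le (range r) (fun _ => g.eigenspace c ⊓ (ρ z).eigenspace (β z w ^ i * 1)) (fun j => ρ (y ^ j))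
      ((ρ z).eigenspace (β z w ^ i * 1)) g (fun j => c * (β z w ^ i * 1)⁻¹ ^ j)
      (fun i hi j hj e => hμ.pow_inj (mem_range.1 hi) (mem_range.1 hj) (mul_left_cancel₀ (h.cne hw) e))
      (fun _ => injρ _) fun j _ u hu => by
        have s := fun j => h.shift z y (End.mem_eigenspace_iff.1 hu.2) j
        simp only [hzy, one_pow, one_mul] at s
        refine ⟨End.mem_eigenspace_iff.2 (s j), ?_⟩
        clear * - s hu h hζ
        induction j with
        | zero => simpa using End.mem_eigenspace_iff.1 hu.1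
        | succ j ih =>
          have s' := s (j + 1)
          rw [pow_succ', map_mul, End.mul_apply] at s' ⊢
          rw [h.step (mul_ne_zero (pow_ne_zero _ (h.ne _ _)) one_ne_zero) ih s', pow_succ, mul_assoc]
    simpa using this
  have k2 := sum_le (range r) (fun i => (ρ z).eigenspace (β z w ^ i * 1)) (fun _ => 1) ⊤ (ρ z) (fun i => β z w ^ i * 1)
    (fun i hi j hj e => hζ.pow_inj (mem_range.1 hi) (mem_range.1 hj) (by simpa using e))
    (fun _ => Function.injective_id) fun j _ v hv => ⟨trivial, End.mem_eigenspace_iff.1 hv⟩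
  have k3 := sum_le_sum k1
  rw [sum_add_distrib, sum_ite_eq', if_pos (mem_range.2 h.hr.pos), ← mul_sum] at k3
  rw [finrank_top] at k2
  have := Nat.mul_le_mul_left r d
  omega

theorem caseI {x : K} (h3 : ∀ w, h.B (NN σ (NN σ x)) w = 0) (hx : h.B (NN σ x) x ≠ 0) :
    r * finrank F (g.eigenspace c) ≤ 2 * finrank F M := by
  obtain ⟨v, h0, h1, h2⟩ := h.vec hw x
  set y := NN σ x
  have hζ := h.prim hx
  set ζ := β y x with hζd
  have hz : ζ ≠ 0 := h.ne _ _
  have d := h.dec (c := c) h0 h2 (h.comm hw h3) hζ.inv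
  let ν : ℕ → F := fun s => c * ∏ i ∈ range s, (ζ ^ (i + 1) * (ζ⁻¹ ^ s * 1))⁻¹
  have hν : ∀ s : ℕ, ν s ^ 2 = c ^ 2 * ζ ^ ((s : ℤ) * (s - 1)) := fun s => by
    have : ∀ s : ℕ, (∏ i ∈ range s, ζ ^ (i + 1)) ^ 2 = ζ ^ (s * (s + 1)) := fun s => by
      induction s with
      | zero => simp
      | succ s ih => rw [prod_range_succ, mul_pow, ih, ← pow_mul, ← pow_add]; congr 1; ring
    simp only [ν, mul_one, mul_inv, prod_mul_distrib, prod_inv_distrib, prod_const, card_range, mul_pow, inv_pow, this,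
      inv_inv]
    rw [← pow_mul, ← pow_mul, ← zpow_natCast ζ, ← zpow_natCast ζ, ← zpow_neg, ← zpow_add₀ hz]
    congr 2; push_cast; ring
  have key : ∀ S ⊆ range r, (∀ s ∈ S, ∀ t ∈ S, s + t = 1 ∨ s + t = r + 1 → s = t) →
      ∑ s ∈ S, finrank F (g.eigenspace c ⊓ (ρ y).eigenspace (ζ⁻¹ ^ s * 1) : Submodule F M) ≤
        finrank F ((ρ y).eigenspace 1) := fun S hS hS' => by
    refine sum_le S _ (fun s => ρ (x ^ s)) _ g ν (fun s hs t ht e => ?_) (fun _ => injρ _) fun s _ u hu => ⟨?_, ?_⟩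
    · have e1 : ζ ^ ((s : ℤ) * (s - 1)) = ζ ^ ((t : ℤ) * (t - 1)) :=
        mul_left_cancel₀ (pow_ne_zero 2 (h.cne hw)) (by rw [← hν, ← hν, e])
      have e2 : (r : ℤ) ∣ ((s : ℤ) - t) * (s + t - 1) := (hζ.zpow_eq_one_iff_dvd _).1 (by
        rw [show ((s : ℤ) - t) * (s + t - 1) = s * (s - 1) - t * (t - 1) by ring, zpow_sub₀ hz, e1,
          div_self (zpow_ne_zero _ hz)])
      have b1 := mem_range.1 (hS hs)
      have b2 := mem_range.1 (hS ht)
      have b3 := h.hr.two_le
      rcases (Nat.prime_iff_prime_int.1 h.hr).dvd_or_dvd e2 with e3 | e3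
      · have := Int.eq_zero_of_abs_lt_dvd e3 (abs_lt.2 ⟨by omega, by omega⟩)
        omega
      · refine hS' s hs t ht ?_
        by_cases hlt : s + t ≤ r
        · have := Int.eq_zero_of_abs_lt_dvd e3 (abs_lt.2 ⟨by omega, by omega⟩)
          omega
        · have := Int.eq_zero_of_abs_lt_dvd (dvd_sub e3 dvd_rfl) (abs_lt.2 ⟨by omega, by omega⟩)
          omega
    · have := h.shift y x (End.mem_eigenspace_iff.1 hu.2) s
      rw [← hζd, mul_one, ← mul_pow, mul_inv_cancel₀ hz, one_pow] at this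
      exact End.mem_eigenspace_iff.2 this
    · have : ∀ j : ℕ, g (ρ (x ^ j) u) = (c * ∏ i ∈ range j, (ζ ^ (i + 1) * (ζ⁻¹ ^ s * 1))⁻¹) • ρ (x ^ j) u := fun j => by
        induction j with
        | zero => simpa using End.mem_eigenspace_iff.1 hu.1
        | succ j ih =>
          have s' := h.shift y x (End.mem_eigenspace_iff.1 hu.2) (j + 1)
          rw [pow_succ' x, map_mul, End.mul_apply] at s' ⊢
          rw [h.step (by simp [hz, h.ne]) ih s', prod_range_succ, mul_assoc]
      exact this s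
  have k1 := key _ (filter_subset (fun s => 1 ≤ s ∧ 2 * s ≤ r + 1) _) fun s hs t ht => by
    simp only [mem_filter, mem_range] at hs ht; omega
  have k2 := key _ (filter_subset (fun s => ¬ (1 ≤ s ∧ 2 * s ≤ r + 1)) _) fun s hs t ht => by
    simp only [mem_filter, mem_range] at hs ht; omega
  rw [← sum_filter_add_sum_filter_not _ fun s => 1 ≤ s ∧ 2 * s ≤ r + 1] at d
  have := h.fix_le hx
  nlinarith

theorem partB {p : ℕ} (hp : p.Prime) (ho : Odd p) (hσ : σ ^ p = 1) (hpr : p = r → 4 ≤ r) : False := by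
  have h3 := h.bi.p2 ho hσ (h.h2 hw)
  obtain ⟨x, w, hx⟩ := h.ex hw
  by_cases e : p = r
  swap
  · have hc := (Nat.coprime_primes hp h.hr).2 e
    exact hx (h.bi.p3 hc hσ h.rB (h.bi.p3 hc hσ h.rB (h3 x)) w)
  have h4 := hpr e
  have : r * finrank F (g.eigenspace c) ≤ 2 * finrank F M := by
    by_cases h5 : ∀ x w, h.B (NN σ (NN σ x)) w = 0
    · by_cases h6 : ∀ x, h.B (NN σ x) x = 0
      · exact absurd (h.bi.p4 (e ▸ ho) h.rB h5 h6 x w) hx
      · obtain ⟨x, h6⟩ := not_forall.1 h6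
        exact h.caseI hw (h5 x) h6
    · push Not at h5
      obtain ⟨x, w, h5⟩ := h5
      exact h.caseII hw (h3 x) h5
  nlinarith

end Cx
end

/-- Eigenspaces of elements normalising an absolutely irreducible extraspecial group. Let F be a finite field, r a prime, and R ≤ GL_n(F) an absolutely irreducible extraspecial r-group (an r-group whose centre equals its derived subgroup and has order r) of exponent r or 4. Let g ∈ GL_n(F) normalise the product of R with the scalar matrices, have prime order ϖ and not be scalar, and let W be the eigenspace of g for any c ∈ F (W may be the zero subspace). Then dim W ≤ 3n/4 if ϖ = 2, dim W ≤ 2n/3 if ϖ = 3, and dim W ≤ n/2 if ϖ > 3; moreover if ϖ = 3 and 3 does not divide n then dim W ≤ n/2. -/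
theorem result {F : Type*} [Field F] [Fintype F] {n r ϖ : ℕ} (R : Subgroup (Matrix.GeneralLinearGroup (Fin n) F)) (hr : r.Prime) (hR : IsPGroup r R) (hZ : Nat.card (Subgroup.center R) = r) (hext : commutator R = Subgroup.center R) (hexp : Monoid.exponent R = r ∨ Monoid.exponent R = 4) (hirr : Cfsg.Geo.ActsAbsolutelyIrreducibly (Cfsg.Geo.matrixSet R)) (g : Matrix.GeneralLinearGroup (Fin n) F) (hg : g ∈ Cfsg.Geo.subgroupNormalizer (R ⊔ Cfsg.Geo.scalars (Fin n) F)) (hϖ : ϖ.Prime) (hord : orderOf g = ϖ) (hns : g ∉ Cfsg.Geo.scalars (Fin n) F) (c : F) :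
    (ϖ = 2 → 4 * Module.finrank F (Module.End.eigenspace (Matrix.toLin' (g : Matrix (Fin n) (Fin n) F)) c) ≤ 3 * n) ∧
    (ϖ = 3 → 3 * Module.finrank F (Module.End.eigenspace (Matrix.toLin' (g : Matrix (Fin n) (Fin n) F)) c) ≤ 2 * n) ∧
    (3 < ϖ → 2 * Module.finrank F (Module.End.eigenspace (Matrix.toLin' (g : Matrix (Fin n) (Fin n) F)) c) ≤ n) ∧
    (ϖ = 3 → ¬ 3 ∣ n → 2 * Module.finrank F (Module.End.eigenspace (Matrix.toLin' (g : Matrix (Fin n) (Fin n) F)) c) ≤ n) := by
  classical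
  have hn : finrank F (Fin n → F) = n := by simp
  set w := finrank F (End.eigenspace (Matrix.toLin' (g : Matrix (Fin n) (Fin n) F)) c) with hwd
  by_cases hw : 2 * w ≤ n
  · exact ⟨fun _ => by omega, fun _ => by omega, fun _ => hw, fun _ _ => hw⟩
  have hn0 : 0 < n := by
    have : w ≤ finrank F (Fin n → F) := Submodule.finrank_le _
    omega
  have : Nonempty (Fin n) := ⟨⟨0, hn0⟩⟩
  set K := R ⊔ Geo.scalars (Fin n) F
  let τ : Matrix.GeneralLinearGroup (Fin n) F →* End F (Fin n → F) :=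
    (Matrix.toLinAlgEquiv' (R := F) (n := Fin n)).toMulEquiv.toMonoidHom.comp (Units.coeHom _)
  have hτ : ∀ x, τ x = Matrix.toLin' (x : Matrix (Fin n) (Fin n) F) := fun x => rfl
  have hsc : ∀ x ∈ Geo.scalars (Fin n) F, ∃ s : F, τ x = s • 1 := fun x hx => by
    obtain ⟨s, hs⟩ := (Geo.mem_scalars_iff x).1 hx
    exact ⟨s, by rw [hτ, hs, map_smul, Matrix.toLin'_one]; rfl⟩
  have hnd : ∀ u : End F (Fin n → F), (∀ x ∈ R, u * τ x = τ x * u) → ∃ s : F, u = s • 1 := fun u hu => by
    obtain ⟨u, rfl⟩ := Matrix.toLin'.surjective u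
    obtain ⟨s, hs⟩ := hirr.2 u (by
      rintro _ ⟨x, hx, rfl⟩
      apply Matrix.toLin'.injective
      rw [Matrix.toLin'_mul, Matrix.toLin'_mul]
      exact hu x hx)
    exact ⟨s, by rw [hs, map_smul, Matrix.toLin'_one]; rfl⟩
  have : (Geo.scalars (Fin n) F).Normal := ⟨fun x hx y => by
    obtain ⟨s, hs⟩ := (Geo.mem_scalars_iff x).1 hx
    exact (Geo.mem_scalars_iff _).2 ⟨s, by simp [hs]⟩⟩
  have hcm : ∀ a b : K, ∃ s : F, s ^ r = 1 ∧ τ a * τ b = s • (τ b * τ a) := fun a b => by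
    obtain ⟨a, ha, s, hs, e1⟩ := Subgroup.mem_sup_of_normal_right.1 a.2
    obtain ⟨b, hb, t, ht, e2⟩ := Subgroup.mem_sup_of_normal_right.1 b.2
    obtain ⟨s, hs⟩ := hsc s hs
    obtain ⟨t, ht⟩ := hsc t ht
    have hz : ⁅(⟨a, ha⟩ : R), (⟨b, hb⟩ : R)⁆ ∈ Subgroup.center R :=
      hext ▸ Subgroup.commutator_mem_commutator (Subgroup.mem_top _) (Subgroup.mem_top _)
    obtain ⟨z, e⟩ := hnd (τ ⁅a, b⁆) fun x hx => by
      rw [← map_mul, ← map_mul]
      exact congrArg τ (congrArg Subtype.val (Subgroup.mem_center_iff.1 hz ⟨x, hx⟩)).symm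
    refine ⟨z, ?_, ?_⟩
    · have h1 : ⁅a, b⁆ ^ r = 1 := congrArg (·.1.1) (hZ ▸ pow_card_eq_one' (x := (⟨_, hz⟩ : Subgroup.center R)))
      have h2 := congrArg τ h1
      rw [map_pow, e, _root_.smul_pow, one_pow, map_one] at h2
      exact Cx.uq Function.injective_id (h2.trans (one_smul F _).symm)
    · have : τ a * τ b = z • (τ b * τ a) := by
        rw [← map_mul, ← map_mul, show a * b = ⁅a, b⁆ * (b * a) by simp [commutatorElement_def, mul_assoc], map_mul, e,
          smul_mul_assoc, one_mul]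
      simp only [← e1, ← e2, map_mul, hs, ht, mul_smul_comm, smul_mul_assoc, mul_one, this, smul_smul]
      congr 1; ring
  choose β h1 h2 using hcm
  let γ : Subgroup.normalizer (K : Set (Matrix.GeneralLinearGroup (Fin n) F)) := ⟨g, hg⟩
  have h : Cx (τ.comp K.subtype) (τ g) (K.normalizerMonoidHom γ⁻¹) r β :=
    { hr := hr
      cm := h2
      pw := h1
      nd := fun u hu => hnd u fun x hx => hu ⟨x, Subgroup.mem_sup_left hx⟩
      nm := fun x => by
        change τ x * τ g = τ g * τ (g⁻¹ * x * g⁻¹⁻¹)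
        rw [← map_mul, ← map_mul]; congr 1; group
      ns := fun ⟨s, hs⟩ => hns ((Geo.mem_scalars_iff g).2 (by
        have e : (g : Matrix (Fin n) (Fin n) F) = s • 1 := Matrix.toLin'.injective (by
          rw [map_smul, Matrix.toLin'_one]; exact hs)
        refine ⟨Units.mk0 s ?_, e⟩
        rintro rfl
        exact g.ne_zero (by simpa using e)))
      inj := Cx.injρ (ρ := τ) g }
  have hw' : finrank F (Fin n → F) < 2 * finrank F ((τ g).eigenspace c) := by rw [hn]; exact not_le.1 hw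
  obtain ⟨a1, a2⟩ := h.partA hw'
  have hσ : K.normalizerMonoidHom γ⁻¹ ^ ϖ = 1 := by
    rw [← map_pow, inv_pow, show γ ^ ϖ = 1 from Subtype.ext (hord ▸ pow_orderOf_eq_one g), inv_one, map_one]
  have hB := fun ho => h.partB hw' hϖ ho hσ
  rw [hn] at a1 a2
  change r * (2 * w) ≤ _ at a1
  have h2r := hr.two_le
  refine ⟨fun _ => by nlinarith, fun e => ?_, fun e => (hB (hϖ.odd_of_ne_two (by omega)) (by omega)).elim,
    fun e e' => (hB (hϖ.odd_of_ne_two (by omega)) fun e2 => (e' (e ▸ e2 ▸ a2)).elim).elim⟩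
  by_cases e2 : ϖ = r
  · rw [← e2, e] at a1; omega
  · exact (hB (hϖ.odd_of_ne_two (by omega)) fun e3 => (e2 e3).elim).elim

end Cfsg.Agent.S5877
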