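import Cfsg.Statements.S5883
import Cfsg.Agent.Lib.Comp.Fi23.Mx4
import Cfsg.Agent.S0144
-- import your own Cfsg.Agent.* helpers here

set_option autoImplicit false
open Cfsg

namespace Cfsg.Agent.S5883

open Cfsg.Lib.Comp Cfsg.Lib.Comp.Fi23 Subgroup

/-- The constant 10 in the statement that H⁽¹⁰⁾ is perfect for every maximal subgroup H of a finite almost simple group cannot be lowered to 9: there exist a finite almost simple group G (with a non-abelian simple normal subgroup of trivial centralizer) and a maximal subgroup H of G whose ninth derived subgroup H⁽⁹⁾ is not perfect, i.e. H⁽¹⁰⁾ ≠ H⁽⁹⁾. (A solvable maximal subgroup of derived length 10 in the Fischer group Fi₂₃ is such an example.) -/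
theorem result :
    ∃ (G : Type) (_ : Group G) (_ : Finite G) (S H : Subgroup G), S.Normal ∧ IsSimpleGroup S ∧ ¬ IsMulCommutative S ∧
      Subgroup.centralizer (S : Set G) = ⊥ ∧ IsCoatom H ∧ derivedSeries H 10 ≠ derivedSeries H 9 := by
  obtain ⟨e⟩ := m_iso
  have := simple
  have hs := e.symm.isSimpleGroup
  have := mn_ok.finite mL
  have hc : Nat.card (cl (gp mn) mL) = 4089470473293004800 := (Nat.card_congr e.toEquiv).symm.trans card
  have hz : center (cl (gp mn) mL) = ⊥ := center_eq_bot (by rw [hc]; norm_num)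
  have hle : cl (gp mn) mH ≤ cl (gp mn) mL := cl_mono (sub_of_subB (by decide +kernel))
  have hH := (Nat.card_congr (subgroupOfEquivOfLe hle).toEquiv).trans m_card
  refine ⟨cl (gp mn) mL, inferInstance, this, ⊤, (cl (gp mn) mH).subgroupOf _, inferInstance,
    topEquiv.isSimpleGroup, fun h => ?_, by rw [coe_top, centralizer_univ, hz], ⟨fun h => ?_, fun K hK => ?_⟩,
    derived_ne (S0144.result 2 3 11 13 Nat.prime_two Nat.prime_three hH) (m_der (ψ := (cl (gp mn) mL).subtype.comp
      (Subgroup.subtype _)) ?_)⟩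
  · refine bot_ne_top (hz.symm.trans (eq_top_iff.2 fun x _ => mem_center_iff.2 fun y => ?_))
    exact congrArg Subtype.val (h.1.1 ⟨y, trivial⟩ ⟨x, trivial⟩)
  · rw [h, card_top, hc] at hH
    exact absurd hH (by norm_num)
  · rcases m_max (K := K.map (Subgroup.subtype _)) (fun x hx => ⟨⟨x, hle hx⟩, hK.le hx, rfl⟩) (map_subtype_le K) with h | h
    · exact absurd (fun x hx => h.le ⟨x, hx, rfl⟩) hK.not_ge
    · exact eq_top_iff.2 fun x _ => by
        obtain ⟨y, hy, e⟩ := h.ge x.2
        exact Subtype.ext e ▸ hy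
  · rw [MonoidHom.range_comp, range_subtype, subgroupOf_map_subtype, inf_eq_left.2 hle]

end Cfsg.Agent.S5883
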