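import Cfsg.Statements.S5885


set_option autoImplicit false
open Cfsg

namespace Cfsg.Agent.S5885

open Subgroup MulAction Equiv
open scoped Pointwise

lemma coat {G : Type*} [Group G] {H M S : Subgroup G} (h : IsCoatom (H.subgroupOf M)) (h1 : H ≤ S) (h2 : S ≤ M)
    (h3 : S ≠ M) : S ≤ H := fun x hx => by
  rcases (h.le_iff (x := S.subgroupOf M)).mp (fun y hy => h1 hy) with e | e
  · exact (h3 (le_antisymm h2 (subgroupOf_eq_top.mp e))).elim
  · exact (show (⟨x, h2 hx⟩ : M) ∈ H.subgroupOf M from e ▸ hx)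

/-- Let n be an odd positive integer such that every primitive permutation group of degree n contains the alternating group (so the symmetric and alternating groups are the only primitive groups of degree n). Let G be a finite group, M a maximal subgroup of G of index n, and H a maximal subgroup of M. Then H is a second maximal subgroup of G: H is maximal in every maximal subgroup K of G containing H. -/
theorem result {G : Type*} [Group G]
    [Finite G] (n : ℕ) (hodd : Odd n)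
    (hA : ∀ P : Subgroup (Equiv.Perm (Fin n)), MulAction.IsPreprimitive P (Fin n) → alternatingGroup (Fin n) ≤ P)
    (M : Subgroup G) (hM : IsCoatom M) (hn : M.index = n) (H : Subgroup G) (hHM : H ≤ M)
    (hmax : IsCoatom (H.subgroupOf M)) (K : Subgroup G) (hK : IsCoatom K) (hHK : H ≤ K) :
    IsCoatom (H.subgroupOf K) := by
  classical
  by_cases hKM : K = M
  · exact hKM ▸ hmax
  haveI : Nontrivial (G ⧸ M) := Finite.one_lt_card_iff_nontrivial.mp (one_lt_index_of_ne_top hM.1)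
  set a : G ⧸ M := ((1 : G) : G ⧸ M)
  have hst : stabilizer G a = M := stabilizer_quotient M
  have ms : ∀ {g : G}, g • a = a ↔ g ∈ M := fun {g} => by rw [← mem_stabilizer_iff, hst]
  haveI : IsPreprimitive G (G ⧸ M) := (isCoatom_stabilizer_iff_preprimitive G a).mp (hst.symm ▸ hM)
  haveI := Fintype.ofFinite (G ⧸ M)
  obtain ⟨e⟩ : Nonempty ((G ⧸ M) ≃ Fin n) := ⟨Finite.equivFinOfCardEq hn⟩
  let φ : G →* Perm (Fin n) := e.permCongrHom.toMonoidHom.comp (toPermHom G (G ⧸ M))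
  have hP := hA φ.range (IsPreprimitive.of_surjective (φ := φ.rangeRestrict)
    (f := ⟨e, fun g x => by
      change _ = e (g • e.symm (e x)); simp⟩) e.surjective)
  have key : ∀ x y z : G ⧸ M, x ≠ y → x ≠ z → y ≠ z →
      ∃ g : G, g • x = y ∧ g • z = x ∧ ∀ w, w ≠ x → w ≠ y → w ≠ z → g • w = w := fun x y z h1 h2 h3 => by
    obtain ⟨g, hg⟩ := hP (x := e.permCongr (swap x z * swap x y)) (by simp [Perm.mem_alternatingGroup, h1, h2])
    have hg' : toPerm g = swap x z * swap x y := e.permCongr.injective hg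
    have h4 : ∀ w, g • w = swap x z (swap x y w) := fun w => congrArg (fun σ : Perm _ => σ w) hg'
    refine ⟨g, ?_, ?_, fun w a b c => ?_⟩
    · rw [h4, swap_apply_left, swap_apply_of_ne_of_ne h1.symm h3]
    · rw [h4, swap_apply_of_ne_of_ne h2.symm h3.symm, swap_apply_right]
    · rw [h4, swap_apply_of_ne_of_ne a b, swap_apply_of_ne_of_ne a c]
  have hMK : ¬ M ≤ K := fun h => (hM.le_iff.mp h).elim hK.1 hKM
  have hI : K ⊓ M ≤ H := coat hmax (le_inf hHK hHM) inf_le_right fun h => hMK (h ▸ inf_le_left)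
  refine ⟨fun h => (hK.le_iff.mp ((subgroupOf_eq_top.mp h).trans hHM)).elim hM.1 (Ne.symm hKM), fun L hL => ?_⟩
  by_contra hLt
  obtain ⟨k1, hk1, hk1'⟩ := SetLike.exists_of_lt hL
  obtain ⟨k, -, hk⟩ := SetLike.exists_of_lt (lt_top_iff_ne_top.mpr hLt)
  set B : Set (G ⧸ M) := {x | ∃ y ∈ L, (y : G) • a = x}
  have hB : ∀ y : K, (y : G) • a ∈ B ↔ y ∈ L := fun y => ⟨fun ⟨x, hx, e⟩ => by
    have : y⁻¹ * x ∈ L := hL.le (hI (mem_inf.mpr ⟨(y⁻¹ * x).2, ms.mp (by
      change ((y : G)⁻¹ * x) • a = a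
      rw [mul_smul, e, inv_smul_smul])⟩))
    simpa using (mul_mem_cancel_right hx).mp this, fun h => ⟨y, h, rfl⟩⟩
  have ha : a ∈ B := ⟨1, one_mem _, one_smul _ _⟩
  have hb : (k1 : G) • a ∈ B := (hB _).mpr hk1
  have hba : (k1 : G) • a ≠ a := fun h => hk1' (hI (mem_inf.mpr ⟨k1.2, ms.mp h⟩))
  have hc : ∀ y ∈ B, (k : G) • y ∉ B := by
    rintro _ ⟨y, hy, rfl⟩ h
    rw [← mul_smul, ← coe_mul, hB] at h
    exact hk ((mul_mem_cancel_right hy).mp h)
  have hcc : (k : G) • a ≠ (k : G) • (k1 : G) • a := fun h => hba ((smul_left_cancel_iff _).mp h).symm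
  have hS : stabilizer G B ⊓ M ≤ H := by
    refine coat hmax (fun h hh => mem_inf.mpr ⟨?_, hHM hh⟩) inf_le_right fun h => ?_
    · refine (mem_stabilizer_set' B.toFinite).mpr ?_
      rintro _ ⟨y, hy, rfl⟩
      exact ⟨⟨h, hHK hh⟩ * y, mul_mem (hL.le hh) hy, mul_smul _ _ _⟩
    · obtain ⟨g, g1, -, g3⟩ := key _ _ _ (ne_of_mem_of_not_mem hb (hc _ ha)) (ne_of_mem_of_not_mem hb (hc _ hb)) hcc
      have := (h.ge (ms.mp (g3 a hba.symm (ne_of_mem_of_not_mem ha (hc _ ha)) (ne_of_mem_of_not_mem ha (hc _ hb))))).1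
      exact hc _ ha (g1 ▸ (mem_stabilizer_set' B.toFinite).mp this hb)
  obtain ⟨d, hd⟩ : ∃ d, d ∉ B ∪ (k : G) • B := by
    by_contra h
    push Not at h
    have h1 := Set.ncard_union_eq (s := B) (t := (k : G) • B) (Set.disjoint_right.mpr (by
      rintro _ ⟨y, hy, rfl⟩; exact hc y hy))
    rw [Set.eq_univ_of_forall h, Set.ncard_univ, ← index_eq_card, hn, Set.ncard_smul_set] at h1
    exact Nat.not_even_iff_odd.mpr hodd ⟨_, h1⟩
  have hd1 : ∀ y ∈ B, (k : G) • y ≠ d := fun y hy h => hd (Or.inr ⟨y, hy, h⟩)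
  obtain ⟨g, g1, g2, g3⟩ := key _ _ _ (hd1 a ha) hcc (hd1 _ hb).symm
  have g4 : ∀ y ∈ B, g • y = y := fun y hy => g3 y (ne_of_mem_of_not_mem hy (hc _ ha))
    (fun h => hd (Or.inl (h ▸ hy))) (ne_of_mem_of_not_mem hy (hc _ hb))
  have g5 : g ∈ K := hHK (hS (mem_inf.mpr ⟨(mem_stabilizer_set' B.toFinite).mpr fun y hy => (g4 y hy).symm ▸ hy,
    ms.mp (g4 a ha)⟩))
  have g6 : k⁻¹ * ⟨g, g5⟩ * k * k1 ∈ L := (hB _).mp (by
    simp only [coe_mul, mul_smul, coe_inv, g2, inv_smul_smul]; exact ha)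
  refine hd1 _ ((hB _).mpr ((mul_mem_cancel_right hk1).mp g6)) ?_
  simp only [coe_mul, mul_smul, coe_inv, smul_inv_smul, g1]

end Cfsg.Agent.S5885
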