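import Cfsg.Statements.S5887
import Cfsg.Agent.Lib.Max.C3

set_option autoImplicit false
open Cfsg

namespace Cfsg.Agent.S5887

open Cfsg.Lib.Forms Cfsg.Lib.Forms.Form Module



/-- Let F be a finite field, n a positive integer and r a composite number (r > 1, not prime) that divides n with r < n. Let K be a subalgebra of the algebra of n × n matrices over F which is a field of degree r over F (commutative, every non-zero element invertible, of dimension r over F). Then the normaliser N of K in GL_n(F) (a group of type ΓL_{n/r}(F_{q^r})) is not a maximal subgroup of GL_n(F), and N ∩ SL_n(F) is not a maximal subgroup of SL_n(F): both lie properly inside the normaliser of an intermediate subfield of prime degree over F. -/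
theorem result {F : Type*} [Field F]
    [Fintype F] (n r : ℕ) (hr1 : 1 < r) (hrp : ¬ r.Prime) (hrn : r ∣ n) (hlt : r < n)
    (K : Subalgebra F (Matrix (Fin n) (Fin n) F)) (hK : Cfsg.Geo.IsFieldSubalgebra r K) :
    ¬ IsCoatom (Cfsg.Geo.subalgebraNormalizer K) ∧
      ¬ Cfsg.Geo.IsMaximalIn (Cfsg.Geo.specialLinear (Fin n) F)
        (Cfsg.Geo.subalgebraNormalizer K ⊓ Cfsg.Geo.specialLinear (Fin n) F) := by
  have : NeZero n := ⟨by omega⟩
  obtain ⟨E, _, _, _, _, _, _, e, h1, h2, -, -, -, h3⟩ := exists_field hK
  have : Finite E := Module.finite_of_finite F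
  rw [Fintype.card_fin] at h2
  have h4 : 2 ≤ finrank E (Fin n → F) := by
    by_contra h
    have : finrank E (Fin n → F) ≤ 1 := by omega
    nlinarith
  obtain ⟨Y, y1, y2, y3⟩ := C3.exists_between (F := F) (h1 ▸ hr1) (h1 ▸ hrp) h4
  refine ⟨fun h => y3 ?_, fun h => ?_⟩
  · have := h.2 (Y.map (ofLin F (Fin n))) (lt_of_le_of_ne (fun g hg => by
      rw [← ofLin_glEquiv g] at hg ⊢
      exact ⟨_, y1 (h3.le hg), rfl⟩) fun h5 => y2 fun g hg => h3.le (h5.ge ⟨g, hg.2, rfl⟩))
    intro g _
    simpa using mem_map_ofLin.1 (this.ge (Subgroup.mem_top (ofLin F (Fin n) g)))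
  · obtain ⟨M, h5, h6⟩ := exists_between_map ofLin_injective specialLinear_eq h3 Y
      (inf_le_right.trans y1) y2 y3
    rcases h.2 M h5.le h6.le with h | h
    · exact h5.ne' h
    · exact h6.ne h

end Cfsg.Agent.S5887
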