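import Cfsg.Statements.S5894
import Cfsg.Agent.Lib.Max.Wr

set_option autoImplicit false
open Cfsg

namespace Cfsg.Agent.S5894

open Cfsg.Lib.Forms Equiv MulAction Pointwise



/-- For every m ≥ 2 the symmetric group on 2m letters has a maximal subgroup M of index 2m together with a maximal subgroup H of M that is not second maximal: some maximal subgroup K of the symmetric group contains H without H being maximal in K. (One may take M the stabiliser of a letter, H ≅ S_m × S_{m−1} inside it, and K ≅ S_m ≀ S₂ the stabiliser of a partition into two m-sets, with H < S_m × S_m < K.) So the prime-index hypothesis in the second-maximality criterion cannot be relaxed to any even index ≥ 4. -/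
theorem result (m : ℕ) (hm : 2 ≤ m) :
    ∃ M H K : Subgroup (Equiv.Perm (Fin (2 * m))), IsCoatom M ∧ M.index = 2 * m ∧ H ≤ M ∧ IsCoatom (H.subgroupOf M) ∧
      IsCoatom K ∧ H ≤ K ∧ ¬ IsCoatom (H.subgroupOf K) := by
  classical
  haveI : NeZero (2 * m) := ⟨by omega⟩
  haveI : Nontrivial (Fin (2 * m)) := Fin.nontrivial_iff_two_le.2 (by omega)
  let f : Fin (2 * m) → Prop := fun x => x.1 < m
  let s : Set {x : Fin (2 * m) // x ≠ 0} := {x | x.1.1 < m}
  let φ : Perm {x : Fin (2 * m) // x ≠ 0} →* Perm (Fin (2 * m)) := Perm.ofSubtype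
  have hφ : Function.Injective φ := Perm.ofSubtype_injective
  let a : Fin (2 * m) := ⟨1, by omega⟩
  let b : Fin (2 * m) := ⟨m, by omega⟩
  have ha : a ≠ 0 := by simp [a, Fin.ext_iff]
  have hb : b ≠ 0 := by simp [b, Fin.ext_iff]; omega
  have hr : φ.range = stabilizer (Perm (Fin (2 * m))) (0 : Fin (2 * m)) := by
    ext g
    rw [mem_stabilizer_iff, Perm.smul_def]
    constructor
    · rintro ⟨k, rfl⟩
      exact Perm.ofSubtype_apply_of_not_mem _ (by simp)
    · intro hg
      have h1 : ∀ x, g x ≠ 0 ↔ x ≠ 0 := fun x => by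
        conv_lhs => rw [← hg]
        exact g.injective.ne_iff
      exact ⟨g.subtypePerm h1, Perm.ofSubtype_subtypePerm h1 fun x hx e => hx (by rw [e, hg])⟩
  have hs : s.ncard = m - 1 := by
    rw [← Set.ncard_image_of_injective _ (f := fun x : {x : Fin (2 * m) // x ≠ 0} => x.1.1)
      (Fin.val_injective.comp Subtype.val_injective)]
    have : (fun x : {x : Fin (2 * m) // x ≠ 0} => x.1.1) '' s = (Finset.Ico 1 m : Set ℕ) := by
      ext k
      simp only [Finset.coe_Ico, Set.mem_Ico]
      constructor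
      · rintro ⟨⟨x, hx⟩, h, rfl⟩
        exact ⟨Nat.pos_of_ne_zero fun e => hx (Fin.ext e), h⟩
      · rintro ⟨h1, h2⟩
        exact ⟨⟨⟨k, by omega⟩, by simp [Fin.ext_iff]; omega⟩, h2, rfl⟩
    rw [this, Set.ncard_coe_finset, Nat.card_Ico]
  have hH := Perm.isCoatom_stabilizer (s := s) ⟨⟨a, ha⟩, show 1 < m by omega⟩ ⟨⟨b, hb⟩, show ¬ m < m by omega⟩
    (by rw [hs, Nat.card_eq_fintype_card, Fintype.card_subtype_compl]; simp; omega)
  have hmem : ∀ g, g ∈ (stabilizer (Perm {x : Fin (2 * m) // x ≠ 0}) s).map φ → g 0 = 0 ∧ ∀ x, f (g x) ↔ f x := by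
    rintro _ ⟨k, hk, rfl⟩
    have h0 : φ k 0 = 0 := Perm.ofSubtype_apply_of_not_mem _ (by simp)
    refine ⟨h0, fun x => ?_⟩
    by_cases hx : x = 0
    · rw [hx, h0]
    · rw [show φ k x = k ⟨x, hx⟩ from Perm.ofSubtype_apply_of_mem k hx]
      change k • (⟨x, hx⟩ : {x : Fin (2 * m) // x ≠ 0}) ∈ s ↔ ⟨x, hx⟩ ∈ s
      conv_lhs => rw [← mem_stabilizer_iff.1 hk]
      exact Set.smul_mem_smul_set_iff
  let Y : Subgroup (Perm (Fin (2 * m))) :=
    { carrier := {g | ∀ x, f (g x) ↔ f x}
      one_mem' := fun _ => Iff.rfl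
      mul_mem' := fun {a b} ha hb x => (ha _).trans (hb x)
      inv_mem' := fun {a} ha x => by simpa using (ha (a⁻¹ x)).symm }
  have hYW : Y ≤ Wr.W f := fun g hg x y => by simp only [eq_iff_iff, hg x, hg y]
  have hW : Wr.W f ≠ ⊤ := fun h => by
    have := (h ▸ Subgroup.mem_top (swap a b) : _ ∈ Wr.W f) a 0
    rw [swap_apply_left, swap_apply_of_ne_of_ne ha.symm hb.symm] at this
    simp [f, a, b] at this; omega
  obtain ⟨K, hK, hle⟩ := (eq_top_or_exists_le_coatom (Wr.W f)).resolve_left hW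
  have hHY : (stabilizer (Perm {x : Fin (2 * m) // x ≠ 0}) s).map φ ≤ Y := fun g hg => (hmem g hg).2
  refine ⟨φ.range, (stabilizer _ s).map φ, K, ?_, ?_, Subgroup.map_le_range _ _, ?_, hK,
    hHY.trans (hYW.trans hle), fun hc => ?_⟩
  · rw [hr, isCoatom_stabilizer_iff_preprimitive]; infer_instance
  · rw [hr, index_stabilizer_of_transitive]; simp
  · have : ((stabilizer _ s).map φ).subgroupOf φ.range =
        (stabilizer _ s).comap (MonoidHom.ofInjective hφ).symm.toMonoidHom := by
      ext ⟨_, l, rfl⟩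
      rw [Subgroup.mem_subgroupOf, Subgroup.mem_map_iff_mem hφ, Subgroup.mem_comap]
      have : (MonoidHom.ofInjective hφ).symm ⟨_, l, rfl⟩ = l := by
        rw [MulEquiv.symm_apply_eq]; rfl
      exact iff_of_eq (congrArg (· ∈ stabilizer _ s) this.symm)
    rw [this]
    exact Subgroup.isCoatom_comap_of_surjective (MulEquiv.surjective _) hH
  · have h1 : swap 0 a ∈ Y := fun x => by
      rw [swap_apply_def]; split_ifs <;> simp_all [f, a] <;> omega
    have h2 : Fin.revPerm ∈ Wr.W f := fun x y => by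
      have := x.2; have := y.2
      simp only [f, eq_iff_iff, Fin.revPerm_apply, Fin.val_rev]; omega
    have := hc.2 (Y.subgroupOf K) (lt_of_le_of_ne (Subgroup.subgroupOf_mono _ hHY) fun e => ?_)
    · have h3 := (this ▸ Subgroup.mem_top (⟨_, hle h2⟩ : K) : (⟨_, hle h2⟩ : K) ∈ Y.subgroupOf K) 0
      simp [f, Fin.val_rev] at h3; omega
    · have h3 : (⟨_, hle (hYW h1)⟩ : K) ∈ Y.subgroupOf K := h1
      rw [← e] at h3
      have := (hmem _ h3).1
      simp [ha] at this

end Cfsg.Agent.S5894
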