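import Cfsg.Statements.S5895


set_option autoImplicit false
open Cfsg

namespace Cfsg.Agent.S5895





/-- For every prime p and every d ≥ 2 there is a finite group G with a maximal subgroup M of index p^d and a maximal subgroup H of M that is not second maximal in G: some maximal subgroup K of G contains H without H being maximal in K. (One may take G the affine group V ⋊ GL(V) of V = 𝔽_p^d, M = GL(V), H the stabiliser in M of a line W of V, and K = V ⋊ H, with H < W ⋊ H < K.) So the prime-index hypothesis in the second-maximality criterion cannot be relaxed to prime-power index. -/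
theorem result (p d : ℕ) (hp : p.Prime)
    (hd : 2 ≤ d) :
    ∃ (G : Type) (_ : Group G) (_ : Finite G) (M H K : Subgroup G), IsCoatom M ∧ M.index = p ^ d ∧ H ≤ M ∧
      IsCoatom (H.subgroupOf M) ∧ IsCoatom K ∧ H ≤ K ∧ ¬ IsCoatom (H.subgroupOf K) := by
  haveI := Fact.mk hp
  let K := GaloisField p d
  let N := Multiplicative K
  have hK : Nat.card K = p ^ d := GaloisField.card p d (by omega)
  let Irr : Subgroup (MulAut N) → Prop := fun L =>
    ∀ U : Subgroup N, (∀ α ∈ L, ∀ u ∈ U, α u ∈ U) → U = ⊥ ∨ U = ⊤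
  have htop : Irr ⊤ := by
    intro U hU
    refine or_iff_not_imp_left.2 fun hb => ?_
    obtain ⟨⟨u, hu⟩, hu1⟩ := (Subgroup.ne_bot_iff_exists_ne_one).1 hb
    have hu0 : u.toAdd ≠ 0 := fun e => hu1 (Subtype.ext e)
    rw [eq_top_iff]
    intro w _
    by_cases hw : w.toAdd = 0
    · exact (show w = 1 from hw) ▸ U.one_mem
    have := hU (AddEquiv.toMultiplicative (DistribMulAction.toAddEquiv K
      (Units.mk0 (w.toAdd / u.toAdd) (div_ne_zero hw hu0)))) (Subgroup.mem_top _) u hu
    convert this using 1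
    change w = Multiplicative.ofAdd ((w.toAdd / u.toAdd) * u.toAdd)
    rw [div_mul_cancel₀ _ hu0]; rfl
  obtain ⟨L, -, hL⟩ := exists_minimal_le_of_wellFoundedLT Irr ⊤ htop
  have hLb : L ≠ ⊥ := by
    rintro rfl
    have hc : Nat.card (Subgroup.zpowers (Multiplicative.ofAdd (1 : K))) = p := by
      rw [Nat.card_zpowers, orderOf_ofAdd_eq_addOrderOf]
      exact CharP.eq K (CharP.addOrderOf_one K) inferInstance
    rcases hL.1 (Subgroup.zpowers (Multiplicative.ofAdd (1 : K))) (fun α hα u hu => by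
      rw [Subgroup.mem_bot.1 hα]; exact hu) with h | h
    · rw [h, Subgroup.card_bot] at hc; exact hp.one_lt.ne hc
    · rw [h, Subgroup.card_top] at hc
      have h2 : p ^ d = p ^ 1 := by rw [pow_one, ← hK]; exact hc
      have := Nat.pow_right_injective hp.two_le h2
      omega
  haveI : Nontrivial L := (Subgroup.nontrivial_iff_ne_bot L).2 hLb
  obtain ⟨H, hH, -⟩ := (eq_top_or_exists_le_coatom (⊥ : Subgroup L)).resolve_left bot_ne_top
  have hred : ¬ Irr (H.map L.subtype) := fun h => hH.1 (by
    have := hL.2 h (Subgroup.map_subtype_le _)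
    rw [eq_top_iff]
    intro x _
    obtain ⟨y, hy, e⟩ := this x.2
    exact (Subtype.ext e : y = x) ▸ hy)
  simp only [Irr, not_forall, not_or] at hred
  obtain ⟨U, hU, hUb, hUt⟩ := hred
  let G := N ⋊[L.subtype] L
  let M : Subgroup G := (SemidirectProduct.inr : L →* G).range
  have hMm : ∀ x : G, x ∈ M ↔ x.left = 1 := fun x =>
    ⟨by rintro ⟨l, rfl⟩; rfl, fun h => ⟨x.right, by ext <;> simp [h]⟩⟩
  haveI : Finite G := Finite.of_equiv _ SemidirectProduct.equivProd.symm
  let K' : Subgroup G := H.comap SemidirectProduct.rightHom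
  refine ⟨G, inferInstance, inferInstance, M, H.map SemidirectProduct.inr, K', ⟨?_, ?_⟩, ?_,
    Subgroup.map_le_range _ _, ?_, Subgroup.isCoatom_comap_of_surjective SemidirectProduct.rightHom_surjective hH,
    ?_, ?_⟩
  · intro h
    have := (hMm (SemidirectProduct.inl (Multiplicative.ofAdd (1 : K)))).1 (h ▸ Subgroup.mem_top _)
    exact one_ne_zero (α := K) this
  · intro Y hY
    obtain ⟨y, hy, hyM⟩ := SetLike.exists_of_lt hY
    have h1 : ∀ x : G, x ∈ Y ↔ SemidirectProduct.inl x.left ∈ Y := fun x => by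
      conv_lhs => rw [← SemidirectProduct.inl_left_mul_inr_right x]
      exact Y.mul_mem_cancel_right (hY.le ⟨_, rfl⟩)
    rcases hL.1 (Y.comap SemidirectProduct.inl) (fun α hα u hu => by
      have := SemidirectProduct.inl_aut (φ := L.subtype) ⟨α, hα⟩ u
      change SemidirectProduct.inl (L.subtype ⟨α, hα⟩ u) ∈ Y
      rw [this]
      exact Y.mul_mem (Y.mul_mem (hY.le ⟨_, rfl⟩) hu) (hY.le ⟨_, rfl⟩)) with h | h
    · exact (hyM ((hMm y).2 (Subgroup.mem_bot.1 (h ▸ ((h1 y).1 hy : y.left ∈ Y.comap _))))).elim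
    · rw [eq_top_iff]
      exact fun x _ => (h1 x).2 (h ▸ Subgroup.mem_top x.left : x.left ∈ Y.comap _)
  · have h1 := M.index_mul_card
    have h2 : Nat.card M = Nat.card L :=
      (Nat.card_congr (MonoidHom.ofInjective SemidirectProduct.inr_injective).toEquiv).symm
    rw [h2, SemidirectProduct.card] at h1
    exact (Nat.eq_of_mul_eq_mul_right Nat.card_pos h1).trans hK
  · have : (H.map SemidirectProduct.inr).subgroupOf M =
        H.comap (MonoidHom.ofInjective (f := (SemidirectProduct.inr : L →* G))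
          SemidirectProduct.inr_injective).symm.toMonoidHom := by
      ext ⟨_, l, rfl⟩
      rw [Subgroup.mem_subgroupOf, Subgroup.mem_map_iff_mem SemidirectProduct.inr_injective,
        Subgroup.mem_comap]
      have : (MonoidHom.ofInjective (f := (SemidirectProduct.inr : L →* G))
          SemidirectProduct.inr_injective).symm ⟨_, l, rfl⟩ = l := by
        rw [MulEquiv.symm_apply_eq]; rfl
      exact iff_of_eq (congrArg (· ∈ H) this.symm)
    rw [this]
    exact Subgroup.isCoatom_comap_of_surjective (MulEquiv.surjective _) hH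
  · rintro _ ⟨l, hl, rfl⟩
    exact hl
  · intro hc
    let Y : Subgroup G :=
      { carrier := {x | x.left ∈ U ∧ x.right ∈ H}
        one_mem' := ⟨U.one_mem, H.one_mem⟩
        mul_mem' := fun {a b} ha hb => ⟨U.mul_mem ha.1 (hU _ ⟨_, ha.2, rfl⟩ _ hb.1), H.mul_mem ha.2 hb.2⟩
        inv_mem' := fun {a} ha => ⟨hU _ ⟨_, H.inv_mem ha.2, rfl⟩ _ (U.inv_mem ha.1), H.inv_mem ha.2⟩ }
    have hi : ∀ u : N, (SemidirectProduct.inl u : G) ∈ K' := fun u => by simp [K']
    have := hc.2 (Y.subgroupOf K') (lt_of_le_of_ne (Subgroup.subgroupOf_mono _ (by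
      rintro _ ⟨l, hl, rfl⟩; exact ⟨U.one_mem, hl⟩)) fun e => hUb ?_)
    · apply hUt
      rw [eq_top_iff]
      intro u _
      exact (this ▸ Subgroup.mem_top (⟨_, hi u⟩ : K') : (⟨_, hi u⟩ : K') ∈ Y.subgroupOf K').1
    · rw [eq_bot_iff]
      intro u hu
      have : (⟨_, hi u⟩ : K') ∈ Y.subgroupOf K' := ⟨hu, H.one_mem⟩
      rw [← e] at this
      obtain ⟨l, -, hl⟩ := this
      exact (congrArg SemidirectProduct.left hl).symm

end Cfsg.Agent.S5895
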