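import Cfsg.Statements.S5896
import Cfsg.Agent.Lib.Hall.FC5
import Cfsg.Agent.Lib.Hall.MinNormal

set_option autoImplicit false
open Cfsg

namespace Cfsg.Agent.S5896

open RegularWreathProduct

section
variable {X Q : Type} [Group X] [Group Q]

theorem ds_of_injective {A B : Type*} [Group A] [Group B] (f : A →* B) (hf : Function.Injective f) {d : ℕ}
    (h : derivedSeries B d = ⊥) : derivedSeries A d = ⊥ := by
  have := map_derivedSeries_le_derivedSeries f d
  rw [h, le_bot_iff, Subgroup.map_eq_bot_iff_of_injective _ hf] at this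
  exact this

theorem ds_of_surjective {A B : Type*} [Group A] [Group B] (f : A →* B) (hf : Function.Surjective f) {d : ℕ}
    (h : derivedSeries A d = ⊥) : derivedSeries B d = ⊥ := by
  rw [← map_derivedSeries_eq hf, h, Subgroup.map_bot]

/-- evaluation on the base group -/
def ev (N : Subgroup (X ≀ᵣ Q)) (hN : ∀ x ∈ N, x.right = 1) : N →* X where
  toFun x := x.1.left 1
  map_one' := rfl
  map_mul' a b := by simp [hN a.1 a.2]

theorem ev_surj (N : Subgroup (X ≀ᵣ Q)) (hN : ∀ x ∈ N, x.right = 1) {q : Q} (hq : q ≠ 1)
    (h : ∀ w : X ≀ᵣ Q, w.right = 1 → w * inl q * w⁻¹ * (inl q)⁻¹ ∈ N) : Function.Surjective (ev N hN) := by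
  classical
  intro x
  refine ⟨⟨_, h ⟨Pi.mulSingle 1 x, 1⟩ rfl⟩, ?_⟩
  simp [ev, Pi.mulSingle_eq_of_ne (inv_ne_one.2 hq)]

theorem solvable_base [Finite Q] [Group.IsSolvable X] (N : Subgroup (X ≀ᵣ Q)) (hN : ∀ x ∈ N, x.right = 1) :
    Group.IsSolvable N := by
  let f : N →* (Q → X) :=
    { toFun := fun x => x.1.left
      map_one' := rfl
      map_mul' := fun a b => by ext; simp [hN a.1 a.2] }
  have hf : Function.Injective f := fun a b e =>
    Subtype.ext (RegularWreathProduct.ext e ((hN _ a.2).trans (hN _ b.2).symm))
  obtain ⟨n, hn⟩ := (inferInstance : Group.IsSolvable X).solvable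
  refine ⟨⟨n, ds_of_injective f hf ?_⟩⟩
  rw [eq_bot_iff]
  intro y hy
  rw [Subgroup.mem_bot]
  ext q
  have := map_derivedSeries_le_derivedSeries (Pi.evalMonoidHom (fun _ : Q => X) q) n ⟨y, hy, rfl⟩
  rw [hn, Subgroup.mem_bot] at this
  exact this
end

theorem ds_succ {A : Type*} [Group A] {d : ℕ} (h : derivedSeries A (d + 1) = ⊥) :
    derivedSeries (commutator A) d = ⊥ := by
  have : ∀ n, (derivedSeries (commutator A) n).map (commutator A).subtype ≤ derivedSeries A (n + 1) := by
    intro n
    induction n with
    | zero => exact Subgroup.map_subtype_le _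
    | succ n ih =>
      rw [derivedSeries_succ, derivedSeries_succ A (n + 1), Subgroup.map_commutator]
      exact Subgroup.commutator_mono ih ih
  have h2 := this d
  rwa [h, le_bot_iff, Subgroup.map_eq_bot_iff_of_injective _ (Subgroup.subtype_injective _)] at h2

theorem exists_solvable (d : ℕ) : ∃ (X : Type) (_ : Group X) (_ : Finite X), Group.IsSolvable X ∧
    derivedSeries X d ≠ ⊥ := by
  induction d with
  | zero => exact ⟨Multiplicative (ZMod 2), inferInstance, inferInstance, inferInstance, top_ne_bot⟩
  | succ d ih =>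
    obtain ⟨X, _, _, hX, hd⟩ := ih
    refine ⟨X ≀ᵣ Multiplicative (ZMod 2), inferInstance, inferInstance, ?_, fun h => hd ?_⟩
    · haveI := solvable_base (X := X) (Q := Multiplicative (ZMod 2)) rightHom.ker (fun x hx => hx)
      exact solvable_of_ker_le_range rightHom.ker.subtype rightHom (by rw [Subgroup.range_subtype])
    · have hN : ∀ x ∈ commutator (X ≀ᵣ Multiplicative (ZMod 2)), x.right = 1 := fun x hx =>
        Abelianization.commutator_subset_ker rightHom hx
      exact ds_of_surjective _ (ev_surj _ hN (q := Multiplicative.ofAdd 1) (by decide) fun w _ =>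
        Subgroup.commutator_mem_commutator (Subgroup.mem_top _) (Subgroup.mem_top _)) (ds_succ h)

/-- Finite perfect groups have solvable maximal subgroups of unbounded derived length: for every d there is a finite perfect group G (equal to its commutator subgroup) with a solvable maximal subgroup H whose derived length exceeds d, i.e. the d-th term of the derived series of H is non-trivial. (Take the derived subgroup of a wreath product S ≀ A₅ with S solvable of large derived length, and H the preimage of a maximal subgroup of A₅.) -/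
theorem result (d : ℕ) :
    ∃ (G : Type) (_ : Group G) (_ : Finite G) (H : Subgroup G), commutator G = ⊤ ∧ IsCoatom H ∧ Group.IsSolvable H ∧
      derivedSeries H d ≠ ⊥ := by
  obtain ⟨X, _, _, hX, hd⟩ := exists_solvable d
  let Q := alternatingGroup (Fin 5)
  let G : Subgroup (X ≀ᵣ Q) := Subgroup.normalClosure (Set.range inl)
  have hQ : commutator Q = ⊤ := by
    rcases (inferInstance : (commutator Q).Normal).eq_bot_or_eq_top with h | h
    · exfalso
      rw [commutator_eq_bot_iff_center_eq_top, alternatingGroup.center_eq_bot (by simp)] at h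
      exact bot_ne_top h
    · exact h
  let π : G →* Q := rightHom.comp G.subtype
  have hπ : Function.Surjective π := fun q => ⟨⟨inl q, Subgroup.subset_normalClosure ⟨q, rfl⟩⟩, rfl⟩
  obtain ⟨M, hM, -⟩ := (eq_top_or_exists_le_coatom (⊥ : Subgroup Q)).resolve_left bot_ne_top
  refine ⟨G, inferInstance, inferInstance, M.comap π, ?_, Subgroup.isCoatom_comap_of_surjective hπ hM, ?_,
    fun h => hd ?_⟩
  · have : G ≤ ⁅G, G⁆ := by
      apply Subgroup.normalClosure_le_normal
      rintro _ ⟨q, rfl⟩
      have h1 : (commutator Q).map (inl : Q →* X ≀ᵣ Q) ≤ ⁅G, G⁆ := by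
        rw [commutator_def, Subgroup.map_commutator]
        have : (⊤ : Subgroup Q).map (inl : Q →* X ≀ᵣ Q) ≤ G := by
          rintro _ ⟨q, -, rfl⟩; exact Subgroup.subset_normalClosure ⟨q, rfl⟩
        exact Subgroup.commutator_mono this this
      exact h1 ⟨q, hQ ▸ Subgroup.mem_top q, rfl⟩
    apply Subgroup.map_injective G.subtype_injective
    rw [commutator_def, Subgroup.map_commutator, ← MonoidHom.range_eq_map, Subgroup.range_subtype]
    exact le_antisymm (Subgroup.commutator_le_left _ _) this
  · haveI : Group.IsSolvable M := Cfsg.Lib.Hall.solvable_of_card_lt_sixty _ M rfl (by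
      have := Cfsg.Lib.Hall.card_lt_of_ne_top hM.1
      rwa [show Nat.card Q = 60 by
        rw [nat_card_alternatingGroup]; simp [Nat.factorial]] at this)
    let f : M.comap π →* M := (π.comp (M.comap π).subtype).codRestrict M fun x => x.2
    let ι : M.comap π →* X ≀ᵣ Q := G.subtype.comp (M.comap π).subtype
    have hι : Function.Injective ι := G.subtype_injective.comp (Subgroup.subtype_injective _)
    haveI := solvable_base (X := X) (f.ker.map ι) (by
      rintro _ ⟨x, hx, rfl⟩
      exact congrArg Subtype.val hx)
    haveI : Group.IsSolvable f.ker := solvable_of_solvable_injective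
      (f := (f.ker.equivMapOfInjective ι hι).toMonoidHom) (MulEquiv.injective _)
    exact solvable_of_ker_le_range f.ker.subtype f (by rw [Subgroup.range_subtype])
  · let N : Subgroup (X ≀ᵣ Q) := G ⊓ rightHom.ker
    have hN : ∀ x ∈ N, x.right = 1 := fun x hx => hx.2
    obtain ⟨q, hq⟩ := exists_ne (1 : Q)
    have hs := ev_surj N hN hq fun w hw => ⟨G.mul_mem ((inferInstance : G.Normal).conj_mem _
      (Subgroup.subset_normalClosure ⟨q, rfl⟩) w) (G.inv_mem (Subgroup.subset_normalClosure ⟨q, rfl⟩)),
      by simp [MonoidHom.mem_ker, hw]⟩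
    let j : N →* M.comap π :=
      { toFun := fun x => ⟨⟨x.1, x.2.1⟩, by
          change x.1.right ∈ M
          rw [hN _ x.2]; exact M.one_mem⟩
        map_one' := rfl
        map_mul' := fun _ _ => rfl }
    exact ds_of_surjective _ hs (ds_of_injective j (fun a b e =>
      Subtype.ext (congrArg (fun x : M.comap π => x.1.1) e)) h)

end Cfsg.Agent.S5896
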