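import Cfsg.Statements.S5902
import Cfsg.Agent.S5901

set_option autoImplicit false
open Cfsg

namespace Cfsg.Agent.S5902



theorem conj_compl {G : Type*} [Group G] (H C : Subgroup G) (g : G)
    (h1 : H.map (MulAut.conj g).toMonoidHom ⊔ C = ⊤) (h2 : H.map (MulAut.conj g).toMonoidHom ⊓ C = ⊥) :
    ∃ C : Subgroup G, H ⊔ C = ⊤ ∧ H ⊓ C = ⊥ := by
  have hs : Function.Surjective (MulAut.conj g).toMonoidHom := (MulAut.conj g).surjective
  have hi : Function.Injective (MulAut.conj g).toMonoidHom := (MulAut.conj g).injective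
  refine ⟨C.comap (MulAut.conj g).toMonoidHom, ?_, ?_⟩
  · apply Subgroup.map_injective hi
    rw [Subgroup.map_sup, Subgroup.map_comap_eq_self_of_surjective hs, h1,
      Subgroup.map_top_of_surjective _ hs]
  · apply Subgroup.map_injective hi
    rw [Subgroup.map_inf _ _ _ hi, Subgroup.map_comap_eq_self_of_surjective hs, h2, Subgroup.map_bot]

theorem quot_compl {G : Type*} [Group G] (N : Subgroup G) [N.Normal]
    (h : ∀ H : Subgroup G, N ≤ H → ¬ H ≤ N → ∃ C : Subgroup G, H ⊔ C = ⊤ ∧ H ⊓ C = ⊥) :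
    ComplementedLattice (Subgroup (G ⧸ N)) := by
  refine ⟨fun H => ?_⟩
  by_cases hH : H = ⊥
  · exact ⟨⊤, hH ▸ isCompl_bot_top⟩
  have hs := QuotientGroup.mk'_surjective N
  obtain ⟨C, h1, h2⟩ := h (H.comap (QuotientGroup.mk' N)) (fun x hx => by
    rw [Subgroup.mem_comap, QuotientGroup.mk'_apply, (QuotientGroup.eq_one_iff x).2 hx]; exact H.one_mem)
    (fun hle => hH (by
      rw [eq_bot_iff]
      intro x hx
      obtain ⟨y, rfl⟩ := hs x
      exact (QuotientGroup.eq_one_iff y).2 (hle hx)))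
  refine ⟨C.map (QuotientGroup.mk' N), ?_, ?_⟩
  · rw [disjoint_iff, eq_bot_iff]
    rintro x ⟨hx, y, hy, rfl⟩
    have : y ∈ H.comap (QuotientGroup.mk' N) ⊓ C := ⟨hx, hy⟩
    rw [h2, Subgroup.mem_bot] at this
    simp [this]
  · rw [codisjoint_iff, ← Subgroup.map_comap_eq_self_of_surjective hs H, ← Subgroup.map_sup, h1,
      Subgroup.map_top_of_surjective _ hs]

/-- Let G be a finite group, X a subgroup whose own subgroup lattice is complemented, and suppose X lies in exactly one maximal subgroup M of G. Then every subgroup H of G not contained in the normal core of M has a complement in the subgroup lattice of G (some C with H ⊔ C = G and H ⊓ C = 1); in particular the subgroup lattice of G modulo the normal core of M is complemented. -/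
theorem result {G : Type*} [Group G] [Finite G] (X M : Subgroup G)
    (hK : ComplementedLattice (Subgroup X))
    (hM : IsCoatom M) (hXM : X ≤ M) (huniq : ∀ M' : Subgroup G, IsCoatom M' → X ≤ M' → M' = M) :
    (∀ H : Subgroup G, ¬ H ≤ M.normalCore → ∃ C : Subgroup G, H ⊔ C = ⊤ ∧ H ⊓ C = ⊥) ∧
    ComplementedLattice (Subgroup (G ⧸ M.normalCore)) := by
  have h1 : ∀ H : Subgroup G, ¬ H ≤ M.normalCore → ∃ C : Subgroup G, H ⊔ C = ⊤ ∧ H ⊓ C = ⊥ := by
    intro H hH
    obtain ⟨x, hx, hxM⟩ := SetLike.not_le_iff_exists.1 hH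
    have : ∃ g : G, g * x * g⁻¹ ∉ M := by
      by_contra! h
      exact hxM h
    obtain ⟨g, hg⟩ := this
    obtain ⟨C, h1, h2⟩ := S5901.result ⊥ X M bot_le (fun h => hM.1 (top_le_iff.1 (h ▸ hXM)))
      (fun Y _ hY => by
        obtain ⟨C, hC⟩ := exists_isCompl (Y.subgroupOf X)
        refine ⟨C.map X.subtype, bot_le, Subgroup.map_subtype_le _, ?_, ?_⟩
        · rw [← Subgroup.map_subgroupOf_eq_of_le hY, ← Subgroup.map_sup, hC.sup_eq_top,
            ← MonoidHom.range_eq_map, Subgroup.range_subtype]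
        · rw [← Subgroup.map_subgroupOf_eq_of_le hY, ← Subgroup.map_inf _ _ _ X.subtype_injective,
            hC.inf_eq_bot, Subgroup.map_bot])
      hM hXM huniq (H.map (MulAut.conj g).toMonoidHom) (fun h => hg (h ⟨x, hx, rfl⟩)) (inf_bot_eq _)
    exact conj_compl H C g h1 h2
  exact ⟨h1, quot_compl _ fun H _ hH => h1 H hH⟩

end Cfsg.Agent.S5902
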