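import Cfsg.Statements.S5903
import Cfsg.Agent.S5901
import Cfsg.Agent.S5902

set_option autoImplicit false
open Cfsg

namespace Cfsg.Agent.S5903





/-- Let G be a finite simple group, X a subgroup lying in exactly one maximal subgroup M of G, and N a subgroup of prime order with N ≤ X that is central in M. If the subgroup lattice of X/N is complemented, then the subgroup lattice of G is complemented. -/
theorem result {G : Type*} [Group G] [Finite G] [IsSimpleGroup G] (X M N : Subgroup G)
    (hM : IsCoatom M) (hXM : X ≤ M) (huniq : ∀ M' : Subgroup G, IsCoatom M' → X ≤ M' → M' = M)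
    (hNX : N ≤ X) (hN : (Nat.card N).Prime) (hcen : ∀ n ∈ N, ∀ m ∈ M, m * n = n * m)
    [(N.subgroupOf X).Normal] (hK : ComplementedLattice (Subgroup (X ⧸ N.subgroupOf X))) :
    ComplementedLattice (Subgroup G) := by
  refine ⟨fun H => ?_⟩
  by_cases hb : H = ⊥
  · exact ⟨⊤, hb ▸ isCompl_bot_top⟩
  by_cases ht : H = ⊤
  · exact ⟨⊥, ht ▸ isCompl_top_bot⟩
  haveI := Fact.mk hN
  have hNb : N ≠ ⊥ := fun h => by rw [h, Subgroup.card_bot] at hN; exact Nat.not_prime_one hN
  have key : ∃ g : G, ¬ H.map (MulAut.conj g).toMonoidHom ≤ M ∧ ¬ N ≤ H.map (MulAut.conj g).toMonoidHom := by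
    by_contra! h
    -- every conjugate of N lies in H or centralises H
    let D : Set G := {x | ∃ g : G, ∃ n ∈ N, x = g⁻¹ * n * g}
    have hD : ∀ g : G, (∀ n ∈ N, g⁻¹ * n * g ∈ H) ∨ (∀ n ∈ N, ∀ y ∈ H, y * (g⁻¹ * n * g) = (g⁻¹ * n * g) * y) := by
      intro g
      by_cases h1 : H.map (MulAut.conj g).toMonoidHom ≤ M
      · right
        intro n hn y hy
        have := hcen n hn _ (h1 ⟨y, hy, rfl⟩)
        simp only [MulEquiv.toMonoidHom_eq_coe, MonoidHom.coe_coe, MulAut.conj_apply] at this
        calc y * (g⁻¹ * n * g) = g⁻¹ * (g * y * g⁻¹ * n) * g := by group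
          _ = _ := by rw [this]; group
      · left
        intro n hn
        obtain ⟨y, hy, rfl⟩ := h g h1 hn
        simpa [mul_assoc] using hy
    have hDn : (Subgroup.closure D).Normal := ⟨fun x hx g => by
      induction hx using Subgroup.closure_induction with
      | mem x hx =>
        obtain ⟨k, n, hn, rfl⟩ := hx
        exact Subgroup.subset_closure ⟨k * g⁻¹, n, hn, by group⟩
      | one => simp
      | mul a b _ _ ha hb =>
        have := Subgroup.mul_mem _ ha hb
        convert this using 1; group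
      | inv a _ ha =>
        have := Subgroup.inv_mem _ ha
        convert this using 1; group⟩
    have hDt : Subgroup.closure D = ⊤ := hDn.eq_bot_or_eq_top.resolve_left fun h => hNb (by
      rw [eq_bot_iff, ← h]
      exact fun n hn => Subgroup.subset_closure ⟨1, n, hn, by simp⟩)
    have hHn : H.Normal := by
      rw [← Subgroup.normalizer_eq_top_iff, eq_top_iff, ← hDt, Subgroup.closure_le]
      rintro _ ⟨g, n, hn, rfl⟩
      rcases hD g with h | h
      · exact Subgroup.le_normalizer (h n hn)
      · apply Subgroup.centralizer_le_normalizer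
        exact fun y hy => h n hn y hy
    exact hHn.eq_bot_or_eq_top.elim hb ht
  obtain ⟨g, h1, h2⟩ := key
  have h3 : H.map (MulAut.conj g).toMonoidHom ⊓ N = ⊥ := by
    rcases (Subgroup.eq_bot_or_eq_top_of_prime_card ((H.map (MulAut.conj g).toMonoidHom).subgroupOf N)) with h | h
    · rw [Subgroup.subgroupOf_eq_bot, disjoint_iff] at h; exact h
    · exact (h2 (Subgroup.subgroupOf_eq_top.1 h)).elim
  obtain ⟨C, hC1, hC2⟩ := S5901.result N X M hNX (fun h => hM.1 (top_le_iff.1 (h ▸ hXM)))
    (fun Y hNY hY => by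
      set π := QuotientGroup.mk' (N.subgroupOf X)
      have hs : Function.Surjective π := QuotientGroup.mk'_surjective _
      have hker : π.ker = N.subgroupOf X := QuotientGroup.ker_mk' _
      obtain ⟨C, hC⟩ := exists_isCompl ((Y.subgroupOf X).map π)
      have hYk : ((Y.subgroupOf X).map π).comap π = Y.subgroupOf X :=
        Subgroup.comap_map_eq_self (by rw [hker]; exact Subgroup.subgroupOf_mono _ hNY)
      refine ⟨(C.comap π).map X.subtype, ?_, Subgroup.map_subtype_le _, ?_, ?_⟩
      · refine (Subgroup.map_subgroupOf_eq_of_le hNX).ge.trans (Subgroup.map_mono ?_)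
        exact hker.ge.trans (Subgroup.ker_le_comap _ _)
      · rw [← Subgroup.map_subgroupOf_eq_of_le hY, ← Subgroup.map_sup, ← hYk,
          Subgroup.comap_sup_eq _ _ _ hs, hC.sup_eq_top, Subgroup.comap_top,
          ← MonoidHom.range_eq_map, Subgroup.range_subtype]
      · rw [← Subgroup.map_subgroupOf_eq_of_le hY, ← Subgroup.map_inf _ _ _ X.subtype_injective,
          ← hYk, ← Subgroup.comap_inf, hC.inf_eq_bot, MonoidHom.comap_bot, hker,
          Subgroup.map_subgroupOf_eq_of_le hNX])
    hM hXM huniq _ h1 h3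
  obtain ⟨C, h1, h2⟩ := S5902.conj_compl H C g hC1 hC2
  exact ⟨C, disjoint_iff.2 h2, codisjoint_iff.2 h1⟩

end Cfsg.Agent.S5903
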