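import Cfsg.Statements.S5904


set_option autoImplicit false
open scoped Pointwise
open Cfsg

namespace Cfsg.Agent.S5904

open MulAction Pointwise



/-- Let Ω be a finite set with more than two elements and O ⊆ Ω a subset with exactly as many elements as its complement. Then the setwise stabilizer of O in the symmetric group on Ω is not a maximal subgroup (it is properly contained in the stabilizer of the partition {O, Ω ∖ O}, which is proper). -/
theorem result {Ω : Type*} [Fintype Ω] [DecidableEq Ω] (hΩ : 2 < Fintype.card Ω)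
    (O : Set Ω) (hO : Nat.card O = Nat.card ↥Oᶜ) :
    ¬ IsCoatom (MulAction.stabilizer (Equiv.Perm Ω) O) := by
  intro hc
  classical
  have hcard : Nat.card O + Nat.card ↥Oᶜ = Fintype.card Ω := by
    rw [← Nat.card_eq_fintype_card, ← Nat.card_sum]
    exact Nat.card_congr (Equiv.Set.sumCompl O)
  have h2 : 1 < Nat.card O := by omega
  have h1 : 0 < Nat.card ↥Oᶜ := by omega
  let K : Subgroup (Equiv.Perm Ω) :=
    { carrier := {g | ∀ x y, (x ∈ O ↔ y ∈ O) ↔ (g x ∈ O ↔ g y ∈ O)}
      one_mem' := fun x y => Iff.rfl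
      mul_mem' := fun {a b} ha hb x y => (hb x y).trans (ha _ _)
      inv_mem' := fun {a} ha x y => by
        have := ha (a⁻¹ x) (a⁻¹ y)
        simpa using this.symm }
  have hle : stabilizer (Equiv.Perm Ω) O ≤ K := by
    intro g hg x y
    have h : ∀ x, g x ∈ O ↔ x ∈ O := fun x => by
      have := mem_stabilizer_iff.1 hg
      conv_lhs => rw [← this]
      exact Set.smul_mem_smul_set_iff
    rw [h, h]
  obtain ⟨e⟩ : Nonempty (O ≃ ↥Oᶜ) := Finite.card_eq.1 hO
  obtain ⟨⟨a, ha⟩, ⟨a', ha'⟩, haa⟩ := Finite.one_lt_card_iff_nontrivial.1 h2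
  obtain ⟨⟨b, hb⟩⟩ := (Nat.card_pos_iff.1 h1).1
  have haa' : a ≠ a' := fun h => haa (Subtype.ext h)
  let s : Equiv.Perm Ω := (Equiv.Set.sumCompl O).symm.trans
    (((Equiv.sumCongr e e.symm).trans (Equiv.sumComm _ _)).trans (Equiv.Set.sumCompl O))
  have hs : ∀ x, s x ∈ O ↔ x ∉ O := by
    intro x
    by_cases hx : x ∈ O
    · have : s x = e ⟨x, hx⟩ := by
        simp [s, Equiv.Set.sumCompl_symm_apply_of_mem hx]
      rw [this]
      exact ⟨fun h => ((e ⟨x, hx⟩).2 h).elim, fun h => (h hx).elim⟩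
    · have : s x = e.symm ⟨x, hx⟩ := by
        simp [s, Equiv.Set.sumCompl_symm_apply_of_notMem hx]
      rw [this]
      exact ⟨fun _ => hx, fun _ => (e.symm ⟨x, hx⟩).2⟩
  have hlt : stabilizer (Equiv.Perm Ω) O < K := by
    refine lt_of_le_of_ne hle fun h => ?_
    have hsK : s ∈ K := fun x y => by rw [hs, hs]; tauto
    rw [← h] at hsK
    have : s a ∈ O := by
      rw [← mem_stabilizer_iff.1 hsK]; exact Set.smul_mem_smul_set ha
    exact (hs a).1 this ha
  have htop := hc.2 K hlt
  have hsw : Equiv.swap a b ∈ K := htop ▸ Subgroup.mem_top _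
  have := (hsw a a').1 (by simp [ha, ha'])
  have hb' : b ∉ O := hb
  rw [Equiv.swap_apply_left, Equiv.swap_apply_of_ne_of_ne haa'.symm (fun h : a' = b => hb' (h ▸ ha'))] at this
  exact hb' (this.2 ha')

end Cfsg.Agent.S5904
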