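import Cfsg.Statements.S5908
import Cfsg.Agent.S0827

set_option autoImplicit false
open Cfsg

namespace Cfsg.Agent.S5908





/-- The subgroup lattice of PSU₃(2) (the solvable group of order 72, realised over the field with 4 elements) is not complemented: some subgroup H has no subgroup X with H ⊔ X = ⊤ and H ⊓ X = ⊥. -/
theorem result {F : Type*} [Field F] [Fintype F] (hF : Fintype.card F = 4) :
    ¬ ComplementedLattice (Subgroup (Cfsg.PSU 3 F 2)) := by
  obtain ⟨N, _, -, -, ⟨e⟩⟩ := S0827.result hF
  let π : Cfsg.PSU 3 F 2 →* QuaternionGroup 2 := e.toMonoidHom.comp (QuotientGroup.mk' N)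
  have hπ : Function.Surjective π := e.surjective.comp (QuotientGroup.mk'_surjective N)
  intro h
  obtain ⟨C, hC⟩ := exists_isCompl ((Subgroup.zpowers (QuaternionGroup.a 2)).comap π)
  have h1 : ∀ c ∈ C, π c ≠ .a 2 := fun c hc e => by
    have := Subgroup.disjoint_def.1 hC.disjoint (x := c) (by
      rw [Subgroup.mem_comap, e]; exact Subgroup.mem_zpowers _) hc
    rw [this, map_one] at e
    exact absurd e (by decide)
  have h2 : ∀ x : QuaternionGroup 2, x = 1 ∨ x = .a 2 ∨ x * x = .a 2 := by decide
  have h3 : C ≤ (Subgroup.zpowers (QuaternionGroup.a 2)).comap π := fun c hc => by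
    rcases h2 (π c) with h | h | h
    · rw [Subgroup.mem_comap, h]; exact Subgroup.one_mem _
    · exact (h1 c hc h).elim
    · exact (h1 _ (C.mul_mem hc hc) (by rw [map_mul, h])).elim
  have h4 := hC.sup_eq_top
  rw [sup_eq_left.2 h3] at h4
  obtain ⟨x, hx⟩ := hπ (.a 1)
  have : π x ∈ Subgroup.zpowers (QuaternionGroup.a 2) := by
    rw [← Subgroup.mem_comap, h4]; exact Subgroup.mem_top x
  rw [hx] at this
  have h5 := orderOf_dvd_of_mem_zpowers this
  rw [QuaternionGroup.orderOf_a_one, orderOf_eq_prime (p := 2) (by decide) (by decide)] at h5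
  omega

end Cfsg.Agent.S5908
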