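import Cfsg.Statements.S5909
import Cfsg.Agent.Lib.Max.Wr

set_option autoImplicit false
open Cfsg

namespace Cfsg.Agent.S5909

open Cfsg.Lib.Forms



/-- Let Ω be a finite set whose size is not 8, and f : Ω → Fin b a labelling with b ≥ 2 whose fibres all have the same size a ≥ 2 (a partition into b blocks of size a). Then the even permutations preserving the partition — the intersection of the imprimitive wreath product S_a ≀ S_b with the alternating group — form a maximal subgroup of the alternating group on Ω. -/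
theorem result {Ω : Type*} [Fintype Ω] [DecidableEq Ω] (h8 : Fintype.card Ω ≠ 8) (a b : ℕ) (ha : 2 ≤ a) (hb : 2 ≤ b)
    (f : Ω → Fin b) (hf : ∀ i : Fin b, Nat.card {x : Ω // f x = i} = a) :
    IsCoatom ((Subgroup.closure {g : Equiv.Perm Ω | ∀ x y : Ω, f x = f y ↔ f (g x) = f (g y)} ⊓ alternatingGroup Ω).subgroupOf (alternatingGroup Ω)) := by
  rw [Wr.closure_eq]
  refine ⟨fun h => Wr.not_alt_le ha hb f hf ((Subgroup.subgroupOf_eq_top.1 h).trans inf_le_left), fun Y hY => ?_⟩
  have := Wr.alt_le h8 ha hb f hf (X := Y.map (alternatingGroup Ω).subtype) (by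
    rw [← Subgroup.map_subgroupOf_eq_of_le (inf_le_right : Wr.W f ⊓ _ ≤ alternatingGroup Ω)]
    exact (Subgroup.map_lt_map_iff_of_injective (Subgroup.subtype_injective _)).2 hY) (Subgroup.map_subtype_le _)
  rw [eq_top_iff]
  intro x _
  obtain ⟨y, hy, e⟩ := this x.2
  exact (Subtype.ext e : y = x) ▸ hy

end Cfsg.Agent.S5909
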