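import Cfsg.Statements.S5910
import Cfsg.Agent.Lib.Max.Wr

set_option autoImplicit false
open Cfsg

namespace Cfsg.Agent.S5910

open Cfsg.Lib.Forms Equiv Equiv.Perm

abbrev T := Fin 4 × Fin 2

/-- ternary sum of the affine space -/
def op (x y z : T) : T := (Fin.ofNat 4 (x.1.1 ^^^ y.1.1 ^^^ z.1.1), x.2 + y.2 + z.2)

def Y : Subgroup (Perm T) where
  carrier := {g | ∀ x y z, g (op x y z) = op (g x) (g y) (g z)}
  one_mem' := fun _ _ _ => rfl
  mul_mem' := fun {a b} ha hb x y z => by rw [Perm.mul_apply, hb, ha]; rfl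
  inv_mem' := fun {a} ha x y z => a.injective (by rw [ha]; simp)

theorem left_mem (σ : Perm (Fin 4)) : prodCongrLeft (fun _ : Fin 2 => σ) ∈ Y := by
  induction σ using swap_induction_on with
  | one => exact Y.one_mem
  | swap_mul σ a b _ ih =>
    have : ∀ a b : Fin 4, ∀ x y z : T, (prodCongrLeft fun _ : Fin 2 => swap a b) (op x y z) =
      op ((prodCongrLeft fun _ : Fin 2 => swap a b) x) ((prodCongrLeft fun _ : Fin 2 => swap a b) y)
        ((prodCongrLeft fun _ : Fin 2 => swap a b) z) := by decide +kernel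
    exact Y.mul_mem (this a b) ih

theorem right_mem (τ : Fin 4 → Perm (Fin 2)) (h : ∏ i, sign (τ i) = 1) : prodCongrRight τ ∈ Y := by
  have h1 : ∀ s : Perm (Fin 2), (sign s = 1 ∧ ∀ j, s j = j + 0) ∨ (sign s = -1 ∧ ∀ j, s j = j + 1) := by
    decide
  have h2 : ∀ t : Fin 4 → Fin 2, t 0 + t 1 + t 2 + t 3 = 0 → ∀ x y z : T,
      ((op x y z).1, (op x y z).2 + t (op x y z).1) =
        op (x.1, x.2 + t x.1) (y.1, y.2 + t y.1) (z.1, z.2 + t z.1) := by decide +kernel
  have h3 : ∀ i, τ i 0 = 0 ∧ sign (τ i) = 1 ∨ τ i 0 = 1 ∧ sign (τ i) = -1 := fun i => by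
    rcases h1 (τ i) with h | h <;> simp [h]
  have h4 : ∀ i j, τ i j = j + τ i 0 := fun i j => by
    rcases h1 (τ i) with h | h <;> simp [h]
  intro x y z
  have := h2 (fun i => τ i 0) (by
    rw [Fin.prod_univ_four] at h
    rcases h3 0 with a | a <;> rcases h3 1 with b | b <;> rcases h3 2 with c | c <;> rcases h3 3 with d | d <;>
      simp only [a.1, b.1, c.1, d.1, a.2, b.2, c.2, d.2] at h ⊢ <;> first | rfl | exact absurd h (by decide)) x y z
  simp only [← h4] at this
  exact this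

theorem le_Y : Wr.W (Prod.fst : T → Fin 4) ⊓ alternatingGroup T ≤ Y := by
  rintro g ⟨hg, hs⟩
  have h1 : ∀ i j, (g (i, j)).1 = (g (i, 0)).1 := fun i j => (hg (i, j) (i, 0)).1 rfl
  let σ : Perm (Fin 4) := Equiv.ofBijective (fun i => (g (i, 0)).1)
    (Finite.injective_iff_bijective.1 fun i k h => (hg (i, 0) (k, 0)).2 h)
  let τ : Fin 4 → Perm (Fin 2) := fun i => Equiv.ofBijective (fun j => (g (i, j)).2)
    (Finite.injective_iff_bijective.1 fun j k h => by
      have := g.injective (Prod.ext ((h1 i j).trans (h1 i k).symm) h)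
      simpa using this)
  have e : g = prodCongrLeft (fun _ : Fin 2 => σ) * prodCongrRight τ := by
    ext ⟨i, j⟩ : 1
    exact Prod.ext (h1 i j) rfl
  rw [e] at hs ⊢
  refine Y.mul_mem (left_mem σ) (right_mem τ ?_)
  have : sign (prodCongrLeft (fun _ : Fin 2 => σ) * prodCongrRight τ) = 1 := hs
  rw [map_mul, sign_prodCongrLeft, sign_prodCongrRight, Fin.prod_univ_two, Int.units_mul_self, one_mul] at this
  exact this

/-- Let Ω be a set with 8 elements and f : Ω → Fin 4 a labelling whose four fibres all have size 2 (a partition of the 8 points into 4 pairs). Then the group of even permutations preserving this partition, (S₂ ≀ S₄) ∩ A₈, is not a maximal subgroup of the alternating group A₈ (it lies in a subgroup isomorphic to the affine group AGL₃(2)). -/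
theorem result {Ω : Type*} [Fintype Ω] [DecidableEq Ω] (h8 : Fintype.card Ω = 8)
    (f : Ω → Fin 4) (hf : ∀ i : Fin 4, Nat.card {x : Ω // f x = i} = 2) :
    ¬ IsCoatom ((Subgroup.closure {g : Equiv.Perm Ω | ∀ x y : Ω, f x = f y ↔ f (g x) = f (g y)} ⊓ alternatingGroup Ω).subgroupOf (alternatingGroup Ω)) := by
  rw [Wr.closure_eq]
  obtain ⟨e, he⟩ := Wr.exists_coord f hf
  intro hc
  let φ : Perm Ω →* Perm T := e.symm.permCongrHom.toMonoidHom
  have hφ : ∀ g x, φ g x = e.symm (g (e x)) := fun _ _ => rfl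
  have hf' : ∀ x, f x = (e.symm x).1 := fun x => by
    obtain ⟨⟨i, j⟩, rfl⟩ := e.surjective x
    simp [he]
  have hW : ∀ g, g ∈ Wr.W f ↔ φ g ∈ Wr.W (Prod.fst : T → Fin 4) := fun g =>
    ⟨fun h x y => by simpa [hf', hφ] using h (e x) (e y), fun h x y => by
      simpa [hf', hφ] using h (e.symm x) (e.symm y)⟩
  have hs : ∀ g, sign (φ g) = sign g := fun g => sign_permCongr _ _
  have hψ : ∀ k, φ (e.permCongr k) = k := fun k => by ext x : 1; simp [hφ]
  have hA : ∀ k, k ∈ alternatingGroup T → e.permCongr k ∈ alternatingGroup Ω := fun k hk =>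
    (sign_permCongr _ _).trans hk
  have := hc.2 ((Y.comap φ).subgroupOf (alternatingGroup Ω)) (lt_of_le_of_ne (Subgroup.subgroupOf_mono _
    fun g hg => le_Y ⟨(hW g).1 hg.1, (hs g).trans hg.2⟩) fun h => ?_)
  · let c : Perm T := swap (0, 0) (0, 1) * swap (0, 0) (1, 0)
    have h1 : (⟨_, hA c (Wr.sign_two (by decide) (by decide))⟩ : alternatingGroup Ω) ∈
      (Y.comap φ).subgroupOf (alternatingGroup Ω) := this ▸ Subgroup.mem_top _
    have h2 : φ (e.permCongr c) ∈ Y := h1
    rw [hψ] at h2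
    exact absurd (h2 (2, 0) (3, 0) (1, 1)) (by decide)
  · let c : Perm T := swap (0, 1) (1, 0) * swap (2, 1) (3, 0)
    have h1 : (⟨_, hA c (Wr.sign_two (by decide) (by decide))⟩ : alternatingGroup Ω) ∈
        (Y.comap φ).subgroupOf (alternatingGroup Ω) := by
      change φ (e.permCongr c) ∈ Y
      rw [hψ]
      change ∀ x y z, c (op x y z) = op (c x) (c y) (c z)
      decide +kernel
    rw [← h] at h1
    have h2 : φ (e.permCongr c) ∈ _ := (hW _).1 h1.1
    rw [hψ] at h2
    exact absurd (h2 (0, 0) (0, 1)) (by decide)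

end Cfsg.Agent.S5910
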