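import Cfsg.Statements.S5912
import Cfsg.Agent.S5911
import Cfsg.Agent.Lib.Linear.SymPres

set_option autoImplicit false
open Cfsg

namespace Cfsg.Agent.S5912

open Equiv Equiv.Perm MulAction Cfsg.Lib.Linear

variable {Ω : Type*} [Fintype Ω] [DecidableEq Ω]

theorem odd_invol (h6 : Fintype.card Ω = 6) {t : Perm Ω} (h : t ^ 2 = 1) (hs : sign t = -1) :
    t.IsSwap ∨ t.cycleType = {2, 2, 2} := by
  have h1 := cycleType_of_pow_prime_eq_one h
  have h2 := sign_of_cycleType t
  have h3 := t.sum_cycleType_le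
  generalize t.cycleType.card = k at h1 h2
  rw [h1, Multiset.sum_replicate, smul_eq_mul] at h2 h3
  rw [isSwap_iff_cycleType, h1]
  rw [hs] at h2
  have : k ≤ 3 := by omega
  interval_cases k
  · exact absurd h2 (by decide)
  · left; rfl
  · exact absurd h2 (by decide)
  · right; rfl

theorem eq_stab_of_swap (h6 : Fintype.card Ω = 6) (H : Subgroup (Perm Ω)) (hH : H.index = 6) {s : Perm Ω}
    (hs : s.IsSwap) (hsH : s ∈ H) : ∃ x : Ω, H = stabilizer (Perm Ω) x := by
  have h1 := H.index_mul_card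
  rw [Nat.card_perm, Nat.card_eq_fintype_card (α := Ω), hH, h6] at h1
  simp only [Nat.factorial] at h1
  haveI : Fact (Nat.Prime 5) := ⟨Nat.prime_five⟩
  obtain ⟨c, hc⟩ := exists_prime_orderOf_dvd_card' (G := H) 5 (by omega)
  have hcy := isCycle_of_prime_order' (σ := c.1) (by rw [Subgroup.orderOf_coe, hc]; exact Nat.prime_five)
    (by rw [Subgroup.orderOf_coe, hc, h6]; norm_num)
  have hs1 : (c.1.supportᶜ).card = 1 := by
    rw [Finset.card_compl, ← hcy.orderOf, Subgroup.orderOf_coe, hc, h6]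
  obtain ⟨x, hx⟩ := Finset.card_eq_one.1 hs1
  have hx' : ∀ y, c.1 y = y ↔ y = x := fun y => by
    rw [← Finset.mem_singleton (a := x), ← hx, Finset.mem_compl, notMem_support]
  by_cases hfix : ∀ g ∈ H, g x = x
  · exact ⟨x, S5911.eq_of_fix H (hH.trans h6.symm) x hfix⟩
  exfalso
  push Not at hfix
  obtain ⟨g, hg, hgx⟩ := hfix
  have k1 : ∀ a b, a ≠ x → b ≠ x → ∃ w ∈ H, w x = x ∧ w a = b := fun a b ha hb => by
    obtain ⟨i, hi⟩ := hcy.exists_pow_eq (fun e => ha ((hx' a).1 e)) (fun e => hb ((hx' b).1 e))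
    exact ⟨_, H.pow_mem c.2 i, pow_apply_eq_self_of_apply_eq_self ((hx' x).2 rfl) i, hi⟩
  have k2 : ∀ a b, a ≠ b → ∃ w ∈ H, w a = x ∧ w b = g x := fun a b hab => by
    obtain ⟨u, hu, hua⟩ : ∃ u ∈ H, u a = x := by
      by_cases ha : a = x
      · exact ⟨1, H.one_mem, ha⟩
      · obtain ⟨w, hw, -, h⟩ := k1 a (g x) ha hgx
        exact ⟨g⁻¹ * w, H.mul_mem (H.inv_mem hg) hw, by simp [h]⟩
    obtain ⟨w, hw, h1, h2⟩ := k1 (u b) (g x) (fun e => hab (u.injective (hua.trans e.symm))) hgx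
    exact ⟨w * u, H.mul_mem hw hu, by simp [hua, h1], h2⟩
  have := subgroup_eq_top_of_isPreprimitive_of_isSwap_mem (isPreprimitive_of_is_two_pretransitive (G := H) (by
    rw [is_two_pretransitive_iff]
    intro a b c d hab hcd
    obtain ⟨w, hw, h5, h6⟩ := k2 a b hab
    obtain ⟨w', hw', h7, h8⟩ := k2 c d hcd
    refine ⟨⟨w'⁻¹ * w, H.mul_mem (H.inv_mem hw') hw⟩, ?_, ?_⟩
    · change w'⁻¹ (w a) = c
      rw [h5, ← h7]; simp
    · change w'⁻¹ (w b) = d
      rw [h6, ← h8]; simp)) s hs hsH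
  rw [this, Subgroup.index_top] at hH
  omega

def gen : ℕ → Perm (Fin 6)
  | 0 => swap 0 1 * swap 2 3 * swap 4 5
  | 1 => swap 0 2 * swap 1 4 * swap 3 5
  | 2 => swap 0 4 * swap 1 5 * swap 2 3
  | 3 => swap 0 2 * swap 1 3 * swap 4 5
  | _ => swap 0 5 * swap 1 4 * swap 2 3

theorem coxA_gen : CoxA gen 5 where
  sq := by decide
  braid := fun i hi => by
    have : i < 4 := by omega
    interval_cases i <;> decide
  comm := fun i j h1 h2 => by
    have : i < 4 := by omega
    interval_cases j <;> interval_cases i <;> first | omega | decide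

theorem exists_outer (h6 : Fintype.card Ω = 6) :
    ∃ α : MulAut (Perm Ω), ∀ s : Perm Ω, s.IsSwap → ∀ x, α s x ≠ x := by
  obtain ⟨φ, hφ⟩ := coxA_gen.exists_hom
  have hi : Function.Injective φ := by
    rw [← MonoidHom.ker_eq_bot_iff]
    by_contra h
    have h1 : adjSwap 5 0 * adjSwap 5 1 ∈ φ.ker :=
      alternatingGroup_le_of_normal (by simp) ((Subgroup.nontrivial_iff_ne_bot _).2 h)
      (sign_swap_mul_swap (by decide) (by decide))
    rw [MonoidHom.mem_ker, map_mul, hφ, hφ] at h1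
    exact absurd h1 (by decide)
  let e : Ω ≃ Fin 6 := Fintype.equivFinOfCardEq h6
  refine ⟨(e.permCongrHom.trans (MulEquiv.ofBijective φ (Finite.injective_iff_bijective.1 hi))).trans
    e.permCongrHom.symm, ?_⟩
  rintro _ ⟨a, b, hab, rfl⟩ x h
  have h1 : φ (e.permCongr (swap a b)) (e x) = e x := by
    rw [← e.symm_apply_eq]; exact h
  have h2 : e.permCongr (swap a b) = swap (e a) (e b) := by
    ext y : 1
    obtain ⟨y, rfl⟩ := e.surjective y
    simp [e.injective.swap_apply]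
  obtain ⟨g, hg⟩ := isConj_iff.1 (isConj_swap (show (0 : Fin 5).castSucc ≠ (0 : Fin 5).succ by decide)
    (e.injective.ne hab))
  have h3 : φ (swap (0 : Fin 5).castSucc (0 : Fin 5).succ) = gen 0 := hφ 0
  rw [h2, ← hg, map_mul, map_mul, h3, map_inv, Perm.mul_apply, Perm.mul_apply, ← Perm.eq_inv_iff_eq] at h1
  exact (by decide : ∀ y, gen 0 y ≠ y) _ h1

theorem sign_aut [Nontrivial Ω] (φ : MulAut (Perm Ω)) (g : Perm Ω) : sign (φ g) = sign g := by
  have hA : (alternatingGroup Ω).comap φ.toMonoidHom = alternatingGroup Ω :=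
    Perm.eq_alternatingGroup_of_index_eq_two (by
      rw [Subgroup.index_comap_of_surjective _ φ.surjective, alternatingGroup.index_eq_two])
  have : sign (φ g) = 1 ↔ sign g = 1 := SetLike.ext_iff.1 hA g
  rcases Int.units_eq_one_or (sign (φ g)) with h | h <;> rcases Int.units_eq_one_or (sign g) with h' | h' <;>
    simp_all

theorem exists_swap_fix (h6 : Fintype.card Ω = 6) (x : Ω) : ∃ s : Perm Ω, s.IsSwap ∧ s x = x := by
  obtain ⟨k, hk, l, hl, hkl⟩ := Finset.one_lt_card.1 (show 1 < (Finset.univ.erase x).card by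
    rw [Finset.card_erase_of_mem (Finset.mem_univ _), Finset.card_univ, h6]; norm_num)
  exact ⟨_, ⟨k, l, hkl, rfl⟩, swap_apply_of_ne_of_ne (by simpa [eq_comm] using hk) (by simpa [eq_comm] using hl)⟩

theorem classify (h6 : Fintype.card Ω = 6) {α : MulAut (Perm Ω)} (hα : ∀ s : Perm Ω, s.IsSwap → ∀ x, α s x ≠ x)
    (H : Subgroup (Perm Ω)) (hH : H.index = 6) :
    ∃ x : Ω, H = stabilizer (Perm Ω) x ∨ H = (stabilizer (Perm Ω) x).map α.toMonoidHom := by
  haveI : Nontrivial Ω := Fintype.one_lt_card_iff_nontrivial.1 (by omega)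
  obtain ⟨φ, x, hφ⟩ := S5911.exists_aut (by omega) H (hH.trans h6.symm)
  obtain ⟨s, hs, hsx⟩ := exists_swap_fix h6 x
  have h1 : φ.symm s ∈ H := by rw [hφ]; simpa using hsx
  have hsq : ∀ ψ : MulAut (Perm Ω), ψ s ^ 2 = 1 ∧ sign (ψ s) = -1 := fun ψ => by
    obtain ⟨a, b, hab, rfl⟩ := hs
    exact ⟨by rw [← map_pow, sq, swap_mul_self, map_one], by rw [sign_aut, sign_swap hab]⟩
  rcases odd_invol h6 (hsq φ.symm).1 (hsq φ.symm).2 with h | h
  · obtain ⟨y, hy⟩ := eq_stab_of_swap h6 H hH h h1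
    exact ⟨y, Or.inl hy⟩
  · rcases odd_invol h6 (hsq α).1 (hsq α).2 with h' | h'
    · obtain ⟨y, hy⟩ := (exists_swap_fix h6 x).imp fun _ h => h
      have := h'.isCycle.orderOf
      have h2 : (α s).support = Finset.univ := Finset.eq_univ_of_forall fun y => mem_support.2 (hα s hs y)
      have h3 := card_support_eq_two.2 h'
      rw [h2, Finset.card_univ] at h3
      omega
    · obtain ⟨g, hg⟩ := isConj_iff.1 (isConj_iff_cycleType_eq.2 (h'.trans h.symm))
      obtain ⟨g, rfl⟩ := α.surjective g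
      obtain ⟨y, hy⟩ := eq_stab_of_swap h6 (H.comap α.toMonoidHom) (by
        rw [Subgroup.index_comap_of_surjective _ α.surjective, hH]) (s := g * s * g⁻¹) (by
          obtain ⟨a, b, hab, rfl⟩ := hs
          exact ⟨_, _, g.injective.ne hab, (swap_apply_apply _ _ _).symm⟩) (by
          rw [← hg] at h1
          simpa [Subgroup.mem_comap] using h1)
      exact ⟨y, Or.inr (by rw [← hy, Subgroup.map_comap_eq_self_of_surjective α.surjective])⟩

theorem stab_ne (h6 : Fintype.card Ω = 6) {α : MulAut (Perm Ω)} (hα : ∀ s : Perm Ω, s.IsSwap → ∀ x, α s x ≠ x)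
    (x y : Ω) : (stabilizer (Perm Ω) x).map α.toMonoidHom ≠ stabilizer (Perm Ω) y := fun h => by
  obtain ⟨s, hs, hsx⟩ := exists_swap_fix h6 x
  exact hα s hs y (h ▸ ⟨s, hsx, rfl⟩ : α s ∈ stabilizer (Perm Ω) y)

theorem map_conj_stab (g : Perm Ω) (x : Ω) :
    (stabilizer (Perm Ω) x).map (MulAut.conj g).toMonoidHom = stabilizer (Perm Ω) (g x) :=
  (stabilizer_smul_eq_stabilizer_map_conj g x).symm

/-- The symmetric group on a 6-element set Ω has exactly two conjugacy classes of subgroups of index 6: there are two non-conjugate subgroups of index 6 (a point stabilizer and a transitive subgroup isomorphic to S₅), and every subgroup of index 6 is conjugate to one of them. -/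
theorem result {Ω : Type*} [Fintype Ω] [DecidableEq Ω] (h6 : Fintype.card Ω = 6) :
    ∃ H₁ H₂ : Subgroup (Equiv.Perm Ω), H₁.index = 6 ∧ H₂.index = 6 ∧
      (¬ ∃ g : Equiv.Perm Ω, Subgroup.map (MulAut.conj g).toMonoidHom H₁ = H₂) ∧
      ∀ H : Subgroup (Equiv.Perm Ω), H.index = 6 →
        ∃ g : Equiv.Perm Ω, Subgroup.map (MulAut.conj g).toMonoidHom H₁ = H ∨ Subgroup.map (MulAut.conj g).toMonoidHom H₂ = H := by
  obtain ⟨α, hα⟩ := exists_outer h6
  obtain ⟨x⟩ : Nonempty Ω := Fintype.card_pos_iff.1 (by omega)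
  have hi : (stabilizer (Perm Ω) x).index = 6 := by
    rw [index_stabilizer_of_transitive, Nat.card_eq_fintype_card, h6]
  refine ⟨stabilizer (Perm Ω) x, (stabilizer (Perm Ω) x).map α.toMonoidHom, hi,
    (Subgroup.index_map_of_bijective (f := α.toMonoidHom) α.bijective _).trans hi, ?_, fun H hH => ?_⟩
  · rintro ⟨g, hg⟩
    exact stab_ne h6 hα x (g x) (hg.symm.trans (map_conj_stab g x))
  · obtain ⟨y, h | h⟩ := classify h6 hα H hH
    · exact ⟨swap x y, Or.inl (by rw [map_conj_stab, swap_apply_left, h])⟩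
    · refine ⟨α (swap x y), Or.inr ?_⟩
      rw [h, ← swap_apply_left x y, ← map_conj_stab, swap_apply_left, Subgroup.map_map, Subgroup.map_map]
      congr 1
      ext g : 1
      simp [← map_inv]

end Cfsg.Agent.S5912
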