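import Cfsg.Statements.S5913


set_option autoImplicit false
open Cfsg

namespace Cfsg.Agent.S5913





/-- Let S be a non-abelian simple group and n a natural number. Every normal subgroup N of the direct power S^n (functions Fin n → S) is a subproduct: there is a set T of coordinates such that N consists exactly of the elements whose coordinates outside T are trivial. In particular the minimal normal subgroups of S^n are its n factors. -/
theorem result {S : Type*} [Group S] [IsSimpleGroup S] (hS : ¬ IsMulCommutative S) (n : ℕ)
    (N : Subgroup (Fin n → S)) [N.Normal] :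
    ∃ T : Finset (Fin n), ∀ x : Fin n → S, x ∈ N ↔ ∀ i, i ∉ T → x i = 1 := by
  classical
  have hN : N.Normal := inferInstance
  have key : ∀ i, (∃ x ∈ N, x i ≠ 1) → ∀ s : S, Pi.mulSingle i s ∈ N := by
    rintro i ⟨x, hx, hxi⟩
    let A : Subgroup S := N.comap (MonoidHom.mulSingle (fun _ => S) i)
    have hA : A.Normal := hN.comap _
    rcases hA.eq_bot_or_eq_top with h | h
    · exfalso
      have hc : x i ∈ Subgroup.center S := by
        rw [Subgroup.mem_center_iff]
        intro g
        have : g * x i * g⁻¹ * (x i)⁻¹ ∈ A := by
          change Pi.mulSingle i _ ∈ N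
          have h1 := N.mul_mem (hN.conj_mem x hx (Pi.mulSingle i g)) (N.inv_mem hx)
          convert h1 using 1
          ext j
          by_cases hj : j = i
          · subst hj; simp
          · simp [Pi.mulSingle_eq_of_ne hj]
        rw [h, Subgroup.mem_bot] at this
        rw [← mul_inv_eq_one, ← this]; group
      rcases (inferInstance : (Subgroup.center S).Normal).eq_bot_or_eq_top with h' | h'
      · rw [h', Subgroup.mem_bot] at hc; exact hxi hc
      · apply hS
        exact ⟨⟨fun a b => (Subgroup.mem_center_iff.1 (h' ▸ Subgroup.mem_top b) a)⟩⟩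
    · intro s
      exact (h ▸ Subgroup.mem_top s : s ∈ A)
  refine ⟨Finset.univ.filter (fun i => ∃ x ∈ N, x i ≠ 1), fun x => ⟨fun hx i hi => ?_, fun hx => ?_⟩⟩
  · by_contra h
    exact hi (by simpa using ⟨x, hx, h⟩)
  · rw [← Finset.noncommProd_mulSingle x]
    refine Subgroup.noncommProd_mem _ _ fun i _ => ?_
    by_cases hi : ∃ x ∈ N, x i ≠ 1
    · exact key i hi _
    · rw [hx i (by simpa using hi), Pi.mulSingle_one]; exact N.one_mem

end Cfsg.Agent.S5913
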