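import Cfsg.Statements.S5941
import Cfsg.Agent.Lib.Max.L2

set_option autoImplicit false
open Cfsg

namespace Cfsg.Agent.S5941

open Cfsg.Lib.Forms Cfsg.Lib.Linear



/-- Let K and F be finite fields of odd characteristic with #F = (#K)². Then PSL_2(F) has a maximal subgroup isomorphic to PGL_2(K). -/
theorem result {F K : Type*} [Field F] [Fintype F] [Field K] [Fintype K] (q : ℕ) (hK : Fintype.card K = q) (hF : Fintype.card F = q ^ 2) (hq : Odd q) : ∃ H : Subgroup (Matrix.ProjectiveSpecialLinearGroup (Fin 2) F), IsCoatom H ∧ Nonempty (H ≃* Matrix.ProjGenLinGroup (Fin 2) K) := by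
  rw [← Nat.card_eq_fintype_card] at hK hF
  subst hK
  obtain ⟨f⟩ := nonempty_ringHom_of_card_pow hF.symm
  obtain ⟨e⟩ := L2.equiv_comap (L2.cjs 1 (L2.PG f))
  exact ⟨_, L2.coatom_sub f Nat.prime_two hF (fun h => absurd (h ▸ hq) (by decide)) 1, (L2.equiv_PG f 1).map
    (e.trans (MulEquiv.subgroupCongr (inf_eq_left.2 (L2.PG_le_LL f hF 1)))).trans⟩

end Cfsg.Agent.S5941
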