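import Cfsg.Statements.S5943
import Cfsg.Agent.Lib.Max.L2

set_option autoImplicit false
open Cfsg

namespace Cfsg.Agent.S5943

open Cfsg.Lib.Forms Cfsg.Lib.Linear



/-- Let K and F be finite fields of characteristic 2 with #K = q > 2 and #F = q^r for a prime r. Then PSL_2(F) has a maximal subgroup isomorphic to PSL_2(K) (which equals PGL_2(K) in characteristic 2). -/
theorem result {F K : Type*} [Field F] [Fintype F] [Field K] [Fintype K] (q r : ℕ) (hK : Fintype.card K = q) (hF : Fintype.card F = q ^ r) (hq : Even q) (hq2 : q ≠ 2) (hr : r.Prime) : ∃ H : Subgroup (Matrix.ProjectiveSpecialLinearGroup (Fin 2) F), IsCoatom H ∧ Nonempty (H ≃* Matrix.ProjectiveSpecialLinearGroup (Fin 2) K) := by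
  rw [← Nat.card_eq_fintype_card] at hK hF
  subst hK
  obtain ⟨f⟩ := nonempty_ringHom_of_card_pow hF.symm
  obtain ⟨e⟩ := L2.equiv_comap (L2.cjs 1 (L2.PG f))
  have h2 : (2 : K) = 0 := by_contra fun h => Nat.not_odd_iff_even.2 hq
    (Cfsg.Lib.Known.odd_card_of_two_ne_zero h)
  refine ⟨_, L2.coatom_sub f hr hF hq2 1, (L2.equiv_PS f 1).map
    (e.trans (MulEquiv.subgroupCongr ?_)).trans⟩
  rw [L2.LL_eq_top (by rw [← map_ofNat f 2, h2, map_zero]), inf_top_eq, L2.PS, pslToPGL,
    MonoidHom.range_comp, ← LL, L2.LL_eq_top h2, ← MonoidHom.range_eq_map]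

end Cfsg.Agent.S5943
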