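import Cfsg.Statements.S5945
import Cfsg.Agent.S5912

set_option autoImplicit false
open Cfsg

namespace Cfsg.Agent.S5945

open Equiv Equiv.Perm MulAction S5912

theorem stab_equiv (x : Fin 6) : Nonempty (stabilizer (Perm (Fin 6)) x ≃* Perm (Fin 5)) := by
  let φ : Perm {y : Fin 6 // y ≠ x} →* Perm (Fin 6) := Perm.ofSubtype
  have hφ : Function.Injective φ := Perm.ofSubtype_injective
  have hr : φ.range = stabilizer (Perm (Fin 6)) x := by
    ext g
    rw [mem_stabilizer_iff, Perm.smul_def]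
    constructor
    · rintro ⟨k, rfl⟩
      exact Perm.ofSubtype_apply_of_not_mem _ (by simp)
    · intro hg
      have h1 : ∀ y, g y ≠ x ↔ y ≠ x := fun y => by
        conv_lhs => rw [← hg]
        exact g.injective.ne_iff
      exact ⟨g.subtypePerm h1, Perm.ofSubtype_subtypePerm h1 fun y hx e => hx (by rw [e, hg])⟩
  let e : {y : Fin 6 // y ≠ x} ≃ Fin 5 := Fintype.equivFinOfCardEq (by simp)
  exact ⟨(MulEquiv.subgroupCongr hr.symm).trans ((MonoidHom.ofInjective hφ).symm.trans e.permCongrHom)⟩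

theorem stab_inj : Function.Injective (fun x : Fin 6 => stabilizer (Perm (Fin 6)) x) := by
  intro x y h
  by_contra hne
  obtain ⟨z, h1, h2⟩ := (by decide : ∀ x y : Fin 6, ∃ z, z ≠ x ∧ z ≠ y) x y
  have : swap y z ∈ stabilizer (Perm (Fin 6)) x := swap_apply_of_ne_of_ne hne h1.symm
  have h3 : swap y z ∈ stabilizer (Perm (Fin 6)) y := (show stabilizer (Perm (Fin 6)) x = stabilizer (Perm (Fin 6)) y from h) ▸ this
  exact h2 (by simpa using h3)

/-- The symmetric group S_6 has exactly 12 subgroups of index 6; each of them is isomorphic to S_5, and at least one of them is not the stabilizer of any point. -/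
theorem result : Nat.card {H : Subgroup (Equiv.Perm (Fin 6)) // H.index = 6} = 12 ∧ (∀ H : Subgroup (Equiv.Perm (Fin 6)), H.index = 6 → Nonempty (H ≃* Equiv.Perm (Fin 5))) ∧ ∃ H : Subgroup (Equiv.Perm (Fin 6)), H.index = 6 ∧ ∀ a : Fin 6, H ≠ MulAction.stabilizer (Equiv.Perm (Fin 6)) a := by
  have h6 : Fintype.card (Fin 6) = 6 := by simp
  obtain ⟨α, hα⟩ := exists_outer h6
  have hi : ∀ x : Fin 6, (stabilizer (Perm (Fin 6)) x).index = 6 := fun x => by
    rw [index_stabilizer_of_transitive, Nat.card_eq_fintype_card, h6]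
  have hi' : ∀ x : Fin 6, ((stabilizer (Perm (Fin 6)) x).map α.toMonoidHom).index = 6 := fun x =>
    (Subgroup.index_map_of_bijective (f := α.toMonoidHom) α.bijective _).trans (hi x)
  refine ⟨?_, fun H hH => ?_, _, hi' 0, stab_ne h6 hα 0⟩
  · let f : Fin 6 ⊕ Fin 6 → {H : Subgroup (Equiv.Perm (Fin 6)) // H.index = 6} :=
      Sum.elim (fun x => ⟨_, hi x⟩) (fun x => ⟨_, hi' x⟩)
    rw [← Nat.card_eq_of_bijective f ⟨?_, ?_⟩]
    · simp
    · rintro (x | x) (y | y) h <;> have h' := congrArg Subtype.val h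
      · rw [stab_inj h']
      · exact (stab_ne h6 hα y x h'.symm).elim
      · exact (stab_ne h6 hα x y h').elim
      · rw [stab_inj (Subgroup.map_injective (f := α.toMonoidHom) α.injective h')]
    · rintro ⟨H, hH⟩
      obtain ⟨x, rfl | rfl⟩ := classify h6 hα H hH
      exacts [⟨.inl x, rfl⟩, ⟨.inr x, rfl⟩]
  · obtain ⟨x, rfl | rfl⟩ := classify h6 hα H hH
    · exact stab_equiv x
    · exact ⟨(Subgroup.equivMapOfInjective _ _ α.injective).symm.trans (stab_equiv x).some⟩

end Cfsg.Agent.S5945
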