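import Cfsg.Statements.S5947
import Cfsg.Agent.Lib.Small.Zsigmondy

set_option autoImplicit false
open Cfsg

namespace Cfsg.Agent.S5947

open Cfsg.Lib.Small Module

theorem fix {F V : Type*} [Field F] [Fintype F] [AddCommGroup V] [Module F V] [Finite V] {r n : ℕ}
    (hn : 0 < n) (hr : IsPPD r (Fintype.card F) n) {u : V →ₗ[F] V} (hu : u ^ r = 1) :
    n ∣ finrank F V - finrank F (LinearMap.eqLocus u 1) := by
  classical
  have := Fintype.ofFinite V
  have := Fact.mk hr.1
  have h1 := (show (⇑u)^[r ^ 1] = id by rw [pow_one, ← Module.End.coe_pow, hu]; rfl)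
  have h2 := (Equiv.Perm.card_fixedPoints_modEq h1).symm
  have h3 : Fintype.card (Function.fixedPoints u) = Fintype.card (LinearMap.eqLocus u 1) := rfl
  obtain ⟨d, hd⟩ := Nat.exists_eq_add_of_le (LinearMap.eqLocus u 1).finrank_le
  rw [h3, Module.card_eq_pow_finrank (K := F), Module.card_eq_pow_finrank (K := F) (V := V), hd, pow_add] at h2
  have h0 : 1 ≤ Fintype.card F := Fintype.card_pos
  rw [hd, Nat.add_sub_cancel_left, ← hr.dvd_iff h0 hn, ← Nat.modEq_iff_dvd' (Nat.one_le_pow _ _ h0)]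
  refine Nat.ModEq.cancel_left_of_coprime ?_ (by rwa [mul_one])
  exact ((Nat.Prime.coprime_iff_not_dvd hr.1).2 (hr.not_dvd_base h0 hn)).pow_right _

theorem mersenne {p k a : ℕ} (hp : p.Prime) (hk : k ≠ 0) (h : p ^ k + 1 = 2 ^ a) : k = 1 := by
  have h1 : 2 ≤ p ^ k := hp.two_le.trans (Nat.le_self_pow hk p)
  obtain ⟨a, rfl⟩ : ∃ b, a = b + 2 := ⟨a - 2, by
    by_contra h'
    have : 2 ^ a ≤ 2 ^ 1 := Nat.pow_le_pow_right (by omega) (by omega)
    omega⟩
  have ho : Odd p := (Nat.odd_pow_iff hk).1 (Nat.odd_iff.2 (by rw [pow_add] at h; omega))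
  rcases k.even_or_odd with ⟨m, rfl⟩ | hk'
  · obtain ⟨c, hc⟩ := ho.pow (n := m)
    rw [pow_add, hc] at h
    have : 4 * (c * c + c) + 2 = 4 * 2 ^ a := by linarith [pow_add 2 a 2]
    omega
  · by_contra h2
    obtain ⟨r, hr⟩ := zsigmondy (a := p) (n := 2 * k) hp.one_lt (by omega) (by rintro ⟨rfl, -⟩; exact absurd ho (by decide))
      (by omega)
    have h3 := hr.2.1
    rw [mul_comm, pow_mul, Nat.sq_sub_sq _ 1, h, hr.1.dvd_mul] at h3
    rcases h3 with h3 | h3
    · obtain rfl := (Nat.prime_dvd_prime_iff_eq hr.1 Nat.prime_two).1 (hr.1.dvd_of_dvd_pow h3)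
      have := hr.lt hp.one_le (by omega)
      omega
    · exact hr.2.2 k (by omega) (by omega) h3

/-- Let F ⊆ K be finite fields with |F| = q and [K : F] = n ≥ 2, regard K as an n-dimensional F-vector space, and let M ≤ GL_F(K) be the Singer group of multiplications by non-zero elements of K (cyclic of order q^n − 1). Assume (n, q) ≠ (6, 2), and that it is not the case that n = 2 with q a prime such that q + 1 is a power of 2. Then every abelian subgroup of GL_F(K) of order q^n − 1 is conjugate to M. -/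
theorem result {F K : Type*} [Field F] [Fintype F] [Field K] [Fintype K] [Algebra F K] (n : ℕ) (hn : 2 ≤ n) (hdim : Module.finrank F K = n)
    (hex1 : ¬ (n = 6 ∧ Fintype.card F = 2))
    (hex2 : ¬ (n = 2 ∧ (Fintype.card F).Prime ∧ ∃ a : ℕ, Fintype.card F + 1 = 2 ^ a))
    (U : Subgroup (Module.End F K)ˣ) (hU : IsMulCommutative U) (hcard : Nat.card U = Fintype.card K - 1) :
    ∃ g : (Module.End F K)ˣ, U.map (MulAut.conj g).toMonoidHom = (Units.map ((Algebra.lmul F K : K →ₐ[F] Module.End F K) : K →* Module.End F K)).range := by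
  classical
  have hK : Fintype.card K = Fintype.card F ^ n := hdim ▸ Module.card_eq_pow_finrank
  obtain ⟨r, hr⟩ := zsigmondy (a := Fintype.card F) (n := n) Fintype.one_lt_card hn (fun h => hex1 h.symm)
    fun h => hex2 ⟨h.1, by
      obtain ⟨p, hp⟩ := CharP.exists F
      obtain ⟨k, h1, h2⟩ := FiniteField.card F p
      obtain ⟨a, ha⟩ := h.2
      rwa [h2, mersenne h1 k.ne_zero (h2 ▸ ha), pow_one], h.2⟩
  have := Fact.mk hr.1
  have : Finite (Module.End F K) := Module.finite_of_finite F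
  obtain ⟨u, hu⟩ := exists_prime_orderOf_dvd_card' (G := U) r (by rw [hcard, hK]; exact hr.2.1)
  have h1 : (u.1 : Module.End F K) ^ r = 1 := by
    rw [← Units.val_pow_eq_pow_val, ← Subgroup.coe_pow, ← hu, pow_orderOf_eq_one]; rfl
  have h2 : LinearMap.eqLocus (u.1 : Module.End F K) 1 = ⊥ := by
    have h3 := fix (by omega) hr h1
    have h4 : finrank F (LinearMap.eqLocus (u.1 : Module.End F K) 1) < finrank F K :=
      Submodule.finrank_lt fun h => hr.1.one_lt.ne' (by
        rw [← hu, show u = 1 from Subtype.ext (Units.ext (LinearMap.eqLocus_eq_top.1 h)), orderOf_one])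
    have := Nat.le_of_dvd (by omega) h3
    exact Submodule.finrank_eq_zero.1 (by omega)
  have h3 : ∀ W : Submodule F K, ∀ h : ∀ x ∈ W, (u.1 : Module.End F K) x ∈ W, W = ⊥ ∨ W = ⊤ := fun W h => by
    have h4 := fix (by omega) hr (u := (u.1 : Module.End F K).restrict h) (by
      rw [Module.End.pow_restrict]; exact LinearMap.ext fun x => Subtype.ext (by simp [h1]))
    rw [show LinearMap.eqLocus ((u.1 : Module.End F K).restrict h) 1 = ⊥ from eq_bot_iff.2 fun x hx =>
      Subtype.ext (h2.le (congrArg Subtype.val hx)), finrank_bot, Nat.sub_zero] at h4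
    rcases Nat.eq_zero_or_pos (finrank F W) with h5 | h5
    · exact .inl (Submodule.finrank_eq_zero.1 h5)
    · exact .inr (Submodule.eq_top_of_finrank_eq (W.finrank_le.antisymm (hdim ▸ Nat.le_of_dvd h5 h4)))
  let A := Algebra.adjoin F ((↑) '' (U : Set (Module.End F K)ˣ) : Set (Module.End F K))
  have hc : ∀ a ∈ ((↑) '' (U : Set (Module.End F K)ˣ) : Set (Module.End F K)), ∀ b ∈
      ((↑) '' (U : Set (Module.End F K)ˣ) : Set (Module.End F K)), a * b = b * a := by
    rintro _ ⟨a, ha, rfl⟩ _ ⟨b, hb, rfl⟩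
    exact congrArg (·.1.1) (hU.is_comm.comm ⟨a, ha⟩ ⟨b, hb⟩)
  let _ : CommRing A := Algebra.adjoinCommRingOfComm F hc
  have hm : ∀ x : U, (x.1 : Module.End F K) ∈ A := fun x => Algebra.subset_adjoin ⟨_, x.2, rfl⟩
  have h4 : ∀ a : A, ∀ x, a.1 x = 0 → a = 0 ∨ x = 0 := fun a x hx =>
    (h3 (LinearMap.ker a.1) fun y hy => by
      rw [LinearMap.mem_ker, ← Module.End.mul_apply, show a.1 * u.1 = u.1 * a.1 from
        congrArg Subtype.val (mul_comm a ⟨_, hm u⟩), Module.End.mul_apply, hy, map_zero]).symm.imp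
      (fun h => Subtype.ext (LinearMap.ker_eq_top.1 h)) fun h => h.le hx
  have : NoZeroDivisors A := ⟨fun {a b} h => (em (a = 0)).imp_right fun ha => Subtype.ext
    (LinearMap.ext fun x => (h4 a _ (LinearMap.congr_fun (congrArg Subtype.val h) x)).resolve_left ha)⟩
  have : IsDomain A := NoZeroDivisors.to_isDomain A
  let _ : Field A := (Finite.isField_of_domain A).toField
  let ev : A →ₗ[F] K := (LinearMap.applyₗ (1 : K)).comp A.val.toLinearMap
  have h5 : Function.Injective ev := (injective_iff_map_eq_zero _).2 fun a h => (h4 a 1 h).resolve_right one_ne_zero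
  let j : Option U → A := fun x => x.elim 0 fun x => ⟨_, hm x⟩
  have h6 : Function.Injective j := by
    rintro (_ | x) (_ | y) h
    · rfl
    · exact absurd (congrArg Subtype.val h).symm y.1.ne_zero
    · exact absurd (congrArg Subtype.val h) x.1.ne_zero
    · exact congrArg _ (Subtype.ext (Units.ext (congrArg Subtype.val h)))
  have h7 : Nat.card (Option U) = Nat.card K := by
    rw [Finite.card_option, hcard, Nat.card_eq_fintype_card, Nat.sub_add_cancel Fintype.card_pos]
  have h8 := (h5.comp h6).bijective_of_nat_card_le h7.ge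
  let e := LinearEquiv.ofBijective ev ⟨h5, h8.2.of_comp⟩
  obtain ⟨ψ⟩ := FiniteField.nonempty_algHom_of_finrank_dvd (F := F) (K := A) (L := K) (e.finrank_eq ▸ dvd_rfl)
  have h9 := ψ.injective.bijective_of_nat_card_le (Nat.card_congr e.toEquiv).ge
  let g := e.symm.trans (LinearEquiv.ofBijective ψ.toLinearMap h9)
  refine ⟨(LinearMap.GeneralLinearGroup.generalLinearEquiv F K).symm g, Subgroup.eq_of_le_of_card_ge ?_ ?_⟩
  · rintro _ ⟨x, hx, rfl⟩
    refine ⟨Units.mk0 (ψ ⟨_, hm ⟨x, hx⟩⟩) ((map_ne_zero ψ).2 fun h => x.ne_zero (congrArg Subtype.val h)),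
      eq_mul_inv_iff_mul_eq.2 (Units.ext (LinearMap.ext fun y => ?_))⟩
    obtain ⟨a, rfl⟩ := e.surjective y
    change ψ _ * g (e a) = g (e (⟨_, hm ⟨x, hx⟩⟩ * a))
    simp only [g, LinearEquiv.trans_apply, LinearEquiv.symm_apply_apply]
    exact (map_mul ψ _ _).symm
  · rw [Subgroup.card_map_of_injective (MulAut.conj _).injective, hcard, ← Nat.card_eq_fintype_card,
      ← Nat.card_units]
    exact Nat.card_le_card_of_surjective _ (MonoidHom.rangeRestrict_surjective _)

end Cfsg.Agent.S5947
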