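import Cfsg.Statements.S5952


set_option autoImplicit false
open Cfsg

namespace Cfsg.Agent.S5952

open Module



/-- Which dimensions of invariant subspaces a semisimple linear map has. Let `V` be a finite-dimensional vector space over a field `F` and `f` an invertible semisimple linear map of `V`. Suppose `V` is the internal direct sum of the fixed space `C_V(f)` (the eigenspace for 1) and subspaces `U_1, …, U_s`, each `f`-invariant of dimension `a ≥ 1` on which `f` acts irreducibly (no `f`-invariant subspaces other than 0 and `U_j`). Let `0 < m < dim V` and `ℓ = m mod a`. Then `f` leaves some `m`-dimensional subspace invariant if and only if `dim C_V(f) ≥ m`, or `a ≤ m` and `dim C_V(f) ≥ ℓ`. -/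
theorem result {F V : Type*} [Field F] [AddCommGroup V] [Module F V]
    [FiniteDimensional F V] (f : V →ₗ[F] V) (hf : Function.Bijective f) (hss : Module.End.IsSemisimple f)
    {s a : ℕ} (ha : 1 ≤ a) (U : Fin s → Submodule F V)
    (hUinv : ∀ j, (U j).map f ≤ U j) (hUdim : ∀ j, Module.finrank F ↥(U j) = a)
    (hUirr : ∀ j, ∀ W : Submodule F V, W ≤ U j → W.map f ≤ W → W = ⊥ ∨ W = U j)
    (hdec : DirectSum.IsInternal (fun o : Option (Fin s) => o.elim (Module.End.eigenspace f 1) U))
    (m : ℕ) (hm : 0 < m) (hmV : m < Module.finrank F V) :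
    (∃ W : Submodule F V, Module.finrank F ↥W = m ∧ W.map f ≤ W) ↔
    (m ≤ Module.finrank F ↥(Module.End.eigenspace f 1) ∨
      (a ≤ m ∧ m % a ≤ Module.finrank F ↥(Module.End.eigenspace f 1))) := by
  classical
  set C := Module.End.eigenspace f 1 with hC
  have hCm : ∀ x ∈ C, f x = x := fun x hx => by simpa using Module.End.mem_eigenspace_iff.1 hx
  have hdim : finrank F V = finrank F C + s * a := by
    rw [← (LinearEquiv.ofBijective (DirectSum.coeLinearMap _) hdec).finrank_eq, finrank_directSum,
      Fintype.sum_option]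
    change finrank F C + ∑ i, finrank F (U i) = _
    simp [hUdim]
  have hdis : ∀ (t : Finset (Fin s)) (j : Fin s), j ∉ t → Disjoint (C ⊔ t.sup U) (U j) := by
    intro t j hj
    refine (hdec.submodule_iSupIndep (some j)).symm.mono_left (sup_le ?_ (Finset.sup_le fun i hi => ?_))
    · exact le_iSup₂_of_le none (by simp) le_rfl
    · exact le_iSup₂_of_le (some i) (by rintro ⟨rfl⟩; exact hj hi) le_rfl
  have hinv : ∀ (C' : Submodule F V), C' ≤ C → ∀ t : Finset (Fin s), (C' ⊔ t.sup U).map f ≤ C' ⊔ t.sup U := by
    intro C' hC' t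
    rw [Submodule.map_sup]
    refine sup_le_sup ?_ ?_
    · rintro _ ⟨x, hx, rfl⟩
      rwa [hCm x (hC' hx)]
    · rw [Submodule.map_le_iff_le_comap]
      exact Finset.sup_le fun i hi => Submodule.map_le_iff_le_comap.1 ((hUinv i).trans (Finset.le_sup hi))
  constructor
  · rintro ⟨W, hW, hWf⟩
    have key : ∀ t : Finset (Fin s), ∃ c k, c ≤ finrank F C ∧ finrank F ↥(W ⊓ (C ⊔ t.sup U)) = c + k * a := by
      intro t
      induction t using Finset.induction_on with
      | empty => exact ⟨_, 0, Submodule.finrank_mono (inf_le_right : W ⊓ C ≤ C), by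
          rw [Finset.sup_empty, sup_bot_eq]; simp⟩
      | insert j t hj ih =>
        obtain ⟨c, k, h1, h2⟩ := ih
        set A := C ⊔ t.sup U with hA
        have e : C ⊔ (insert j t).sup U = A ⊔ U j := by rw [Finset.sup_insert, sup_comm (U j), sup_assoc]
        have hAU : (A ⊔ U j).map f ≤ A ⊔ U j := e ▸ hinv C le_rfl _
        rw [e]
        set W' := W ⊓ (A ⊔ U j)
        have e1 := Submodule.finrank_sup_add_finrank_inf_eq W' A
        have e2 : W' ⊓ A = W ⊓ A := by rw [inf_assoc, inf_eq_right.2 (le_sup_left : A ≤ A ⊔ U j)]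
        have e3 : A ⊔ (U j ⊓ (W' ⊔ A)) = W' ⊔ A := by
          rw [← sup_inf_assoc_of_le _ le_sup_right, inf_eq_right]
          exact sup_le inf_le_right le_sup_left
        have e4 := Submodule.finrank_sup_add_finrank_inf_eq A (U j ⊓ (W' ⊔ A))
        rw [e3, ((hdis t j hj).mono_right inf_le_left).eq_bot, finrank_bot] at e4
        rw [e2, h2] at e1
        rcases hUirr j (U j ⊓ (W' ⊔ A)) inf_le_left ((Submodule.map_inf_le _).trans (inf_le_inf (hUinv j) (by
          rw [Submodule.map_sup]
          exact sup_le_sup ((Submodule.map_inf_le _).trans (inf_le_inf hWf hAU)) (hinv C le_rfl t)))) with h | h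
        · rw [h, finrank_bot] at e4
          exact ⟨c, k, h1, by omega⟩
        · rw [h, hUdim] at e4
          exact ⟨c, k + 1, h1, by rw [add_mul]; omega⟩
    obtain ⟨c, k, h1, h2⟩ := key Finset.univ
    have : C ⊔ Finset.univ.sup U = ⊤ := by
      rw [eq_top_iff, ← hdec.submodule_iSup_eq_top]
      refine iSup_le fun o => ?_
      cases o with
      | none => exact le_sup_left
      | some j => exact le_sup_of_le_right (Finset.le_sup (f := U) (Finset.mem_univ j))
    rw [this, inf_top_eq, hW] at h2
    rcases k with _ | k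
    · left; omega
    · right
      refine ⟨by nlinarith, ?_⟩
      rw [h2, Nat.add_mul_mod_self_right]
      exact (Nat.mod_le _ _).trans h1
  · intro h
    have key : ∀ C' ≤ C, ∀ t : Finset (Fin s), finrank F ↥(C' ⊔ t.sup U) = finrank F C' + t.card * a := by
      intro C' hC' t
      induction t using Finset.induction_on with
      | empty => rw [Finset.sup_empty, sup_bot_eq]; simp
      | insert j t hj ih =>
        have e4 := Submodule.finrank_sup_add_finrank_inf_eq (C' ⊔ t.sup U) (U j)
        rw [((hdis t j hj).mono_left (sup_le_sup_right hC' _)).eq_bot, finrank_bot, ih, hUdim] at e4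
        rw [Finset.sup_insert, sup_comm (U j), ← sup_assoc, Finset.card_insert_of_notMem hj, add_mul]
        omega
    have : ∃ c k, c ≤ finrank F C ∧ k ≤ s ∧ m = c + k * a := by
      rcases h with h | ⟨h1, h2⟩
      · exact ⟨m, 0, h, Nat.zero_le _, by simp⟩
      · by_cases h3 : m / a ≤ s
        · exact ⟨m % a, m / a, h2, h3, by rw [mul_comm]; exact (Nat.mod_add_div m a).symm⟩
        · have : s * a ≤ m := (Nat.mul_le_mul_right a (by omega)).trans (Nat.div_mul_le_self m a)
          exact ⟨m - s * a, s, by omega, le_rfl, by omega⟩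
    obtain ⟨c, k, h1, h2, h3⟩ := this
    obtain ⟨C', hC1, hC2⟩ : ∃ C' ≤ C, finrank F C' = c := by
      obtain ⟨g, hg⟩ := exists_linearIndependent_of_le_finrank h1
      refine ⟨(Submodule.span F (Set.range g)).map C.subtype, Submodule.map_subtype_le _ _, ?_⟩
      rw [Submodule.finrank_map_subtype_eq, finrank_span_eq_card hg, Fintype.card_fin]
    obtain ⟨t, -, ht⟩ := Finset.exists_subset_card_eq (s := (Finset.univ : Finset (Fin s))) (n := k) (by simpa)
    exact ⟨_, by rw [key C' hC1 t, hC2, ht, h3], hinv C' hC1 t⟩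

end Cfsg.Agent.S5952
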