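import Cfsg.Statements.S5954
import Cfsg.Agent.Lib.Elu.Uni

set_option autoImplicit false
open scoped MatrixGroups
open Cfsg Module Cfsg.Lib.Forms Cfsg.Lib.Forms.Form Cfsg.Lib.Known Cfsg.Lib.Conj Cfsg.Lib.Elu

namespace Cfsg.Agent.S5954

/-- Elements of prime order of PSU_n(q) with no fixed nondegenerate `m`-space. Here `T = PSU_n(q)` (`n ≥ 3`, `(n, q) ≠ (3, 2)`), realised through the matrices of determinant 1 over the field `F` with `q²` elements preserving the Hermitian form `h(u, v) = Σ u_i v_i^q`; an element of `T` of prime order `r` is such a matrix `x` with `x^r` scalar and `x` not scalar. For `r ≠ p` let `i` be the multiplicative order of `q` modulo `r`, `b = i/2` for `i` even and `b = i` for `i` odd, `c = i, i/2, 2i` according as `i ≡ 0, 2 (mod 4)` or `i` odd, and write `k = n mod c`, `ℓ = m mod b`, `ℓ' = m mod c`, `n' = ⌊n/b⌋`, `m' = ⌊m/b⌋`, `s = (r−1)/b`; `(a)_r` is the `r`-part of `a`. Let `1 ≤ m < n/2` and let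 `r` be a prime dividing the number of nondegenerate `m`-spaces. Then every element of `T` of order `r` fixes a nondegenerate `m`-space if and only if one of: (i) `r = p > 2` and every partition of `n` into parts of size at most `p` contains (as a sub-multiset) a partition of `m`; (ii) `r = p = 2` and (`n` is odd or `m` is even); (iii) `r = 2 ≠ p` and (`n` is odd, or `m` is even, or `(q+1)_2 ≥ (n)_2` and `q ≡ 3 (mod 4)`); (iv) `r ≠ p`, `r > 2`, and either `i ≠ 2`, `c ≤ m` and `k ≥ ℓ'`, or `i = 2` and (`r ∣ m` or `(q+1)_r ≥ (n)_r`). -/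
theorem result {F : Type*} [Field F] [Fintype F] {p : ℕ} [Fact p.Prime] [CharP F p] {q : ℕ} (hq : Fintype.card F = q ^ 2)
    (n m : ℕ) (hn : 3 ≤ n) (hT : (n, q) ≠ (3, 2)) (hm : 1 ≤ m) (hmn : 2 * m < n)
    (r : ℕ) [Fact r.Prime]
    (hrΩ : r ∣ Nat.card {W : Submodule F (Fin n → F) // Module.finrank F ↥W = m ∧ (∀ u ∈ W, u ≠ 0 → ∃ v ∈ W, Cfsg.hermForm n F q u v ≠ 0)})
    (i b c : ℕ) (hi : i = orderOf (q : ZMod r)) (hb : b = if Even i then i / 2 else i)
    (hc : c = if i % 4 = 0 then i else if i % 4 = 2 then i / 2 else 2 * i) :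
    (∀ x : Matrix.SpecialLinearGroup (Fin n) F, x ∈ Cfsg.SU n F q →
      (∃ z : F, ((x ^ r : Matrix.SpecialLinearGroup (Fin n) F) : Matrix (Fin n) (Fin n) F) = z • (1 : Matrix (Fin n) (Fin n) F)) →
      (∀ z : F, (x : Matrix (Fin n) (Fin n) F) ≠ z • (1 : Matrix (Fin n) (Fin n) F)) →
      ∃ W : Submodule F (Fin n → F), Module.finrank F ↥W = m ∧ (∀ u ∈ W, u ≠ 0 → ∃ v ∈ W, Cfsg.hermForm n F q u v ≠ 0) ∧
        W.map (Matrix.toLin' (x : Matrix (Fin n) (Fin n) F)) ≤ W) ↔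
    ((r = p ∧ 2 < p ∧ (∀ μ : Multiset ℕ, (∀ a ∈ μ, 0 < a ∧ a ≤ p) → μ.sum = n → ∃ ν : Multiset ℕ, ν ≤ μ ∧ ν.sum = m)) ∨
     (r = p ∧ p = 2 ∧ (Odd n ∨ Even m)) ∨
     (r = 2 ∧ p ≠ 2 ∧ (Odd n ∨ Even m ∨ (padicValNat 2 n ≤ padicValNat 2 (q + 1) ∧ q % 4 = 3))) ∨
     (r ≠ p ∧ 2 < r ∧ ((i ≠ 2 ∧ c ≤ m ∧ m % c ≤ n % c) ∨ (i = 2 ∧ (r ∣ m ∨ padicValNat r n ≤ padicValNat r (q + 1)))))) := by
  have hr : r.Prime := Fact.out
  obtain ⟨σ, h⟩ := isConj_of_card hq
  have hD := stdHerm_nondeg h (Fin n)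
  have hE := stdHerm_nondeg h (Fin m)
  have hn' : finrank F (Fin n → F) = n := by simp
  have hm' : finrank F (Fin m → F) = m := by simp
  have e : ∀ W : Submodule F (Fin n → F), (finrank F W = m ∧ ∀ u ∈ W, u ≠ 0 → ∃ v ∈ W,
      hermForm n F q u v ≠ 0) ↔ ((stdHerm h (Fin n)).restrict W).Iso (stdHerm h (Fin m)) :=
    fun W => by
      have e1 : (∀ u ∈ W, u ≠ 0 → ∃ v ∈ W, hermForm n F q u v ≠ 0) ↔
          ((stdHerm h (Fin n)).restrict W).Nondeg := by
        rw [← nondeg_iff_exists]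
        simp only [hermForm_eq h]
        refine forall₃_congr fun u _ _ => exists_congr fun v => and_congr_right fun _ =>
          ⟨ne_zero_symm _, ne_zero_symm _⟩
      rw [e1]
      exact ⟨fun H => Herm.iso H.2 hE (H.1.trans hm'.symm),
        fun H => ⟨H.finrank_eq.trans hm', H.symm.nondeg hE⟩⟩
  simp only [map_le_iff_inv, ← and_assoc, e] at hrΩ
  simp only [map_le_iff_inv, ← and_assoc (a := finrank F _ = m), e]
  refine (su_iff h (P := (NDI (stdHerm h (Fin n)) · (stdHerm h (Fin m))))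
    (ndi_scalar ((cp_herm h).sub hE hD (by omega)))).trans ?_
  rcases r_cases (F := F) p hr with rfl | ⟨rfl, h1, h2⟩ | ⟨h1, h2, h3, h4, h5⟩
  · haveI := nontrivial_of_finrank_pos (R := F) (M := Fin n → F) (by omega)
    rw [su_char_nd r hD hE, hn', hm']
    rcases hr.two_le.eq_or_lt with rfl | h
    · simp [part_two_iff (show m ≤ n by omega)]
    · simp [h, h.ne']
  · simp [su_two_nd hD hE h2 hn' hm' hmn, h1, h1.symm]
  · simp only [su_odd_nd hD hE hr h3 h5 hn' hm' hm (by omega) hi hb hc hrΩ, h1, h2, h3, false_and,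
      false_or, true_and, ne_eq, not_false_iff]

end Cfsg.Agent.S5954
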