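import Cfsg.Statements.S5956
import Cfsg.Agent.Lib.Elu.Unp

set_option autoImplicit false
open scoped MatrixGroups
open Cfsg Module Cfsg.Lib.Forms Cfsg.Lib.Forms.Form Cfsg.Lib.Known Cfsg.Lib.Conj Cfsg.Lib.Elu

namespace Cfsg.Agent.S5956

/-- Elements of prime order of PSp_n(q) with no fixed nondegenerate `m`-space. Here `T = PSp_n(q)` with `n = 2d ≥ 4`, `(n, q) ≠ (4, 2)`, realised through the symplectic matrices over the field `F` with `q` elements (preserving the standard alternating form); an element of `T` of prime order `r` is such a matrix `x` with `x^r` scalar and `x` not scalar. For `r ≠ p` let `i` be the multiplicative order of `q` modulo `r`, `c = i` for `i` even and `c = 2i` for `i` odd, and write `k = n mod c`, `ℓ = m mod i`, `ℓ' = m mod c`, `n' = ⌊n/i⌋`, `m' = ⌊m/i⌋`, `t = (r−1)/i`. Let `m` be even with `2 ≤ m < n/2` and let `r` be a prime dividing the number of nondegenerate `m`-spaces. Then every element of `T`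 of order `r` fixes a nondegenerate `m`-space if and only if one of: (i) `r = p > 2` and every partition of `n` into parts of size at most `p` in which every odd part has even multiplicity contains (as a sub-multiset) a partition of `m` in which every odd part has even multiplicity; (ii) `r = p = 2` and (`n ≡ 2 (mod 4)` or `m ≡ 0 (mod 4)`); (iii) `r = 2 ≠ p`; (iv) `r ≠ p`, `r > 2`, `c ≤ m` and `k ≥ ℓ'`. -/
theorem result {F : Type*} [Field F] [Fintype F] {p : ℕ} [Fact p.Prime] [CharP F p] {q : ℕ} (hq : Fintype.card F = q)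
    (d m : ℕ) (hd : 2 ≤ d) (hT : (d, q) ≠ (2, 2)) (hm : 2 ≤ m) (hme : Even m) (hmd : m < d)
    (r : ℕ) [Fact r.Prime]
    (hrΩ : r ∣ Nat.card {W : Submodule F (Fin d ⊕ Fin d → F) // Module.finrank F ↥W = m ∧ (∀ u ∈ W, u ≠ 0 → ∃ v ∈ W, Cfsg.sympForm d F u v ≠ 0)})
    (i c : ℕ) (hi : i = orderOf (q : ZMod r)) (hc : c = if Even i then i else 2 * i) :
    (∀ x : ↥(Matrix.symplecticGroup (Fin d) F),
      (∃ z : F, ((x ^ r : ↥(Matrix.symplecticGroup (Fin d) F)) : Matrix (Fin d ⊕ Fin d) (Fin d ⊕ Fin d) F) = z • (1 : Matrix (Fin d ⊕ Fin d) (Fin d ⊕ Fin d) F)) →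
      (∀ z : F, (x : Matrix (Fin d ⊕ Fin d) (Fin d ⊕ Fin d) F) ≠ z • (1 : Matrix (Fin d ⊕ Fin d) (Fin d ⊕ Fin d) F)) →
      ∃ W : Submodule F (Fin d ⊕ Fin d → F), Module.finrank F ↥W = m ∧ (∀ u ∈ W, u ≠ 0 → ∃ v ∈ W, Cfsg.sympForm d F u v ≠ 0) ∧
        W.map (Matrix.toLin' (x : Matrix (Fin d ⊕ Fin d) (Fin d ⊕ Fin d) F)) ≤ W) ↔
    ((r = p ∧ 2 < p ∧ (∀ μ : Multiset ℕ, (∀ a ∈ μ, 0 < a ∧ a ≤ p) → (∀ a : ℕ, Odd a → Even (μ.count a)) → μ.sum = 2 * d →
        ∃ ν : Multiset ℕ, ν ≤ μ ∧ ν.sum = m ∧ ∀ a : ℕ, Odd a → Even (ν.count a))) ∨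
     (r = p ∧ p = 2 ∧ ((2 * d) % 4 = 2 ∨ m % 4 = 0)) ∨
     (r = 2 ∧ p ≠ 2) ∨
     (r ≠ p ∧ 2 < r ∧ c ≤ m ∧ m % c ≤ (2 * d) % c)) := by
  subst hq
  have hr : r.Prime := Fact.out
  have hD := fSymp_nondeg (F := F) d
  have hn := finrank_plus (F := F) d
  have hE := fSymp_nondeg (F := F) (m / 2)
  have hm0 := finrank_plus (F := F) (m / 2)
  have := Nat.even_iff.1 hme
  have hm' := hm0.trans (show _ = m by omega)
  have e : ∀ W : Submodule F (Fin d ⊕ Fin d → F), (finrank F W = m ∧ ∀ u ∈ W, u ≠ 0 → ∃ v ∈ W,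
      (fSymp F d).B u v ≠ 0) ↔ ((fSymp F d).restrict W).Iso (fSymp F (m / 2)) := fun W => by
    rw [nondeg_iff_exists]
    exact ⟨fun H => Symp.iso H.2 hE (H.1.trans hm'.symm),
      fun H => ⟨H.finrank_eq.trans hm', H.symm.nondeg hE⟩⟩
  simp only [← fSymp_B, map_le_iff_inv, ← and_assoc (a := finrank F _ = m), e,
    ← Nat.card_eq_fintype_card] at hrΩ hi ⊢
  refine (sp_iff (P := (NDI (fSymp F d) · (fSymp F (m / 2))))
    (ndi_scalar (cp_alt.sub hE hD (by omega)))).trans ?_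
  have := nontrivial_of_finrank_pos (hn ▸ (by omega : 0 < 2 * d))
  rcases r_cases (F := F) p hr with rfl | ⟨rfl, h1, h2⟩ | ⟨h1, h2, h3, h4, h5⟩
  · rcases hr.eq_two_or_odd' with rfl | h
    · rw [alt_ch2_nd CharTwo.two_eq_zero hD hE hn hm0 (by omega)]
      simp only [Nat.even_iff, Nat.odd_iff, true_and, lt_irrefl, false_and, and_false,
        or_false, false_or, ne_eq, not_true]
      omega
    · have h1 : r ≠ 2 := by rintro rfl; exact absurd h (by decide)
      have h2 : (2 : F) ≠ 0 := Ring.two_ne_zero ((ringChar.eq F r).symm ▸ h1)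
      rw [allE_odd hD h (fun _ h => h) (fun _ h _ => h) fun _ c h => h.smul c,
        alt_unip_nd r h2 hD hE, hn, hm']
      simp [h1, lt_of_le_of_ne hr.two_le h1.symm]
  · simp [alt_two_nd h2 hD hE (by omega), h1]
  · rw [allE_odd hD h4 (fun _ h => h) (fun _ h _ => h) fun _ c h => h.smul c,
      alt_nd hD hE hr h3 h5 hn hm' (by omega) (by omega) hrΩ]
    simp [h1, h2, h3, hc, hi, io]

end Cfsg.Agent.S5956
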