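import Cfsg.Statements.S5963
import Cfsg.Agent.Lib.Elu.Pp

set_option autoImplicit false
open scoped MatrixGroups
open Cfsg Module Cfsg.Lib.Forms Cfsg.Lib.Forms.Form Cfsg.Lib.Known Cfsg.Lib.Conj Cfsg.Lib.Elu

namespace Cfsg.Agent.S5963

/-- Derangements of odd prime order of PSp_n(q), q odd, on pairs of complementary totally isotropic subspaces. Here `T = PSp_n(q)`, `n = 2d ≥ 4`, `q` odd, realised through the symplectic matrices over the field `F` with `q` elements; Ω is the set of unordered pairs `{U, W}` of complementary totally isotropic `d`-spaces (`F^n = U ⊕ W`), whose stabilizers are the subgroups of type GL_d(q).2 (maximal except in some small cases; maximality is not assumed); an element of `T` of prime order `r` (a symplectic matrix `x` with `x^r` scalar, `x` not scalar) fixes such a pair when it fixes or interchanges `U` and `W`. For every odd prime `r ≠ p` dividing the number of such pairs, some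 element of `T` of order `r` fixes no such pair (the action is never `r`-elusive for odd `r ≠ p`). -/
theorem result {F : Type*} [Field F] [Fintype F] {p : ℕ} [Fact p.Prime] [CharP F p] {q : ℕ} (hq : Fintype.card F = q)
    (d : ℕ) (hd : 2 ≤ d) (hT : (d, q) ≠ (2, 2)) (hodd : Odd q)
    (r : ℕ) [Fact r.Prime] (hr2 : r ≠ 2) (hrp : r ≠ p) (hΩ : r ∣ Nat.card {P : Submodule F (Fin d ⊕ Fin d → F) × Submodule F (Fin d ⊕ Fin d → F) // IsCompl P.1 P.2 ∧ (∀ u ∈ P.1, ∀ v ∈ P.1, Cfsg.sympForm d F u v = 0) ∧ (∀ u ∈ P.2, ∀ v ∈ P.2, Cfsg.sympForm d F u v = 0)} / 2) :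
    ∃ x : ↥(Matrix.symplecticGroup (Fin d) F),
      (∃ z : F, ((x ^ r : ↥(Matrix.symplecticGroup (Fin d) F)) : Matrix (Fin d ⊕ Fin d) (Fin d ⊕ Fin d) F) = z • (1 : Matrix (Fin d ⊕ Fin d) (Fin d ⊕ Fin d) F)) ∧
      (∀ z : F, (x : Matrix (Fin d ⊕ Fin d) (Fin d ⊕ Fin d) F) ≠ z • (1 : Matrix (Fin d ⊕ Fin d) (Fin d ⊕ Fin d) F)) ∧
      ¬ (∃ U W : Submodule F (Fin d ⊕ Fin d → F), IsCompl U W ∧ (∀ u ∈ U, ∀ v ∈ U, Cfsg.sympForm d F u v = 0) ∧ (∀ u ∈ W, ∀ v ∈ W, Cfsg.sympForm d F u v = 0) ∧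
        ((U.map (Matrix.toLin' (x : Matrix (Fin d ⊕ Fin d) (Fin d ⊕ Fin d) F)) = U ∧ W.map (Matrix.toLin' (x : Matrix (Fin d ⊕ Fin d) (Fin d ⊕ Fin d) F)) = W) ∨
         (U.map (Matrix.toLin' (x : Matrix (Fin d ⊕ Fin d) (Fin d ⊕ Fin d) F)) = W ∧ W.map (Matrix.toLin' (x : Matrix (Fin d ⊕ Fin d) (Fin d ⊕ Fin d) F)) = U))) := by
  have hD := fSymp_nondeg (F := F) d
  have hn := finrank_plus (F := F) d
  have e : ∀ U, (∀ u ∈ U, ∀ v ∈ U, sympForm d F u v = 0) ↔ (fSymp F d).IsTS U := fun U => by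
    simpa only [fSymp_B] using (⟨Symp.isTS, (·.2)⟩ : _ ↔ (fSymp F d).IsTS U)
  simp only [e] at hΩ ⊢
  have h1 := card_modEq_fix (fun s : Submodule F _ × Submodule F _ => IsCompl s.1 s.2 ∧
    (fSymp F d).IsTS s.1 ∧ (fSymp F d).IsTS s.2) Prod.swap (fun s h => ⟨h.1.symm, h.2.2, h.2.1⟩)
    Nat.prime_two (k := 1) fun _ _ => rfl
  have : IsEmpty {s : Submodule F _ × Submodule F _ // (IsCompl s.1 s.2 ∧ (fSymp F d).IsTS s.1 ∧
      (fSymp F d).IsTS s.2) ∧ s.swap = s} := ⟨fun ⟨s, ⟨h2, h3, h4⟩, h5⟩ => by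
    have := two_mul_finrank hD h2 h3 h4
    rw [disjoint_self.1 (congrArg Prod.fst h5 ▸ h2.disjoint : Disjoint s.1 s.1), finrank_bot] at this
    omega⟩
  rw [@Nat.card_of_isEmpty _ this] at h1
  have := alt_pp_odd hD hn Fact.out hr2 (cast_ne_zero_of_ne Fact.out hrp)
    (hΩ.trans (Nat.div_dvd_of_dvd (Nat.modEq_zero_iff_dvd.1 h1)))
  rw [← sp_iff (pp_scalar hD (Symp.hasTS hD hn.ge) hn)] at this
  push Not at this
  obtain ⟨x, h2, h3, h4⟩ := this
  exact ⟨x, h2, h3, mt (pp_iff hD (coe_spEquiv x ▸ isUnit_of_isIsometry hD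
    (spEquiv F d x).2.B_map)).2 h4⟩

end Cfsg.Agent.S5963
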