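import Cfsg.Statements.S5971
import Cfsg.Agent.Lib.Elu.C3

set_option autoImplicit false
open scoped MatrixGroups
open Cfsg Module Cfsg.Lib.Forms Cfsg.Lib.Forms.Form Cfsg.Lib.Known Cfsg.Lib.Conj Cfsg.Lib.Elu

namespace Cfsg.Agent.S5971

/-- Elements of order 3 of PSL_3(q) and the normalizer of a Singer cycle. Here `T = PSL_n(F)` for a field `F` with `q = p^f` elements (`n ≥ 2`, `(n, q) ≠ (2, 2), (2, 3)`), `k` is a prime dividing `n`, `K` is a subalgebra of the `n × n` matrices that is a field of degree `k` over `F` (an extension-field structure F_{q^k} on `F^n`), and `H` is the subgroup of matrices of determinant 1 normalizing `K` — a subgroup of type GL_{n/k}(q^k) (maximal except in some small cases; maximality is not assumed); Ω is the set of cosets of `H` in `T`, so an element of `T` of prime order `r` (a matrix `x` of determinant 1 with `x^r` scalar, `x` not scalar) fixes a point of Ω when some conjugate of `x` by a matrix of determinant 1 normalizes `K`. Take `n = k = 3` and suppose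 3 divides the index of `H`. Then every element of `T` of order 3 is conjugate in `T` into `H` if and only if `q ≡ 4, 7` or `8 (mod 9)`. -/
theorem result {F : Type*} [Field F] [Fintype F] {p : ℕ} [Fact p.Prime] [CharP F p] {q : ℕ} (hq : Fintype.card F = q)
    (n : ℕ) (hn : n = 3) (k : ℕ) (hk : k.Prime) (hkn : k ∣ n) (K : Subalgebra F (Matrix (Fin n) (Fin n) F)) (hK : Cfsg.Geo.IsFieldSubalgebra k K) (hk3 : k = 3) (hΩ : 3 ∣ ((Cfsg.Geo.subalgebraNormalizer K).comap (Matrix.SpecialLinearGroup.toGL : Matrix.SpecialLinearGroup (Fin n) F →* GL (Fin n) F)).index) :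
    (∀ x : Matrix.SpecialLinearGroup (Fin n) F,
      (∃ z : F, ((x ^ 3 : Matrix.SpecialLinearGroup (Fin n) F) : Matrix (Fin n) (Fin n) F) = z • (1 : Matrix (Fin n) (Fin n) F)) →
      (∀ z : F, (x : Matrix (Fin n) (Fin n) F) ≠ z • (1 : Matrix (Fin n) (Fin n) F)) →
      ∃ P : Matrix.SpecialLinearGroup (Fin n) F, P⁻¹ * x * P ∈ ((Cfsg.Geo.subalgebraNormalizer K).comap (Matrix.SpecialLinearGroup.toGL : Matrix.SpecialLinearGroup (Fin n) F →* GL (Fin n) F))) ↔
    (q % 9 = 4 ∨ q % 9 = 7 ∨ q % 9 = 8) := by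
  subst hk3 hn hq
  obtain ⟨E, _, _, _, _, _, _, e, h1, -, -, -, -, h3⟩ := exists_field hK
  have : Finite E := Module.finite_of_finite F
  rw [slc_iff (inM_nk h3) sc_nk, lin_nk_three p h1 (by simp) fun h => ?_, Nat.card_eq_fintype_card]
  obtain ⟨φ, h0, h5, h6⟩ := exists_frob (V := Fin 3 → F) h1 (by decide)
  obtain ⟨g, h4, rfl⟩ := (inM_nk h3).ge φ h0
  have h7 : orderOf (⟨g, h4⟩ : Geo.subalgebraNormalizer K) = 3 := orderOf_eq_prime
    (Subtype.ext (Units.ext (Matrix.toLin'.injective (by simpa [End.one_eq_id] using h5)))) fun e => by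
      have := h6 1 one_ne_zero
      rw [show g = 1 from congrArg Subtype.val e, show eig _ _ = ⊤ by ext; simp [mem_eig]] at this
      simp at this
  have : (Geo.specialLinear (Fin 3) F).Normal := MonoidHom.normal_ker _
  rw [index_comap_toGL] at hΩ
  have h8 := mul_dvd_mul (h7 ▸ orderOf_dvd_natCard _) (hΩ.trans relIndex_dvd_index)
  rw [Subgroup.card_mul_index, Lib.Linear.card_GL', ← ZMod.natCast_eq_zero_iff] at h8
  have h9 : ∀ j, ((Nat.card F ^ j - 1 : ℕ) : ZMod 9) = (Nat.card F % 9 : ℕ) ^ j - 1 := fun j => by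
    rw [Nat.cast_sub (Nat.one_le_pow _ _ Nat.card_pos), ZMod.natCast_mod]; simp
  simp only [Fintype.card_fin, Finset.prod_range_succ, Finset.prod_range_zero, Nat.cast_mul, Nat.cast_pow,
    h9] at h8
  rw [← ZMod.natCast_mod (Nat.card F) 9] at h8
  by_contra e
  obtain e | e : Nat.card F % 9 = 2 ∨ Nat.card F % 9 = 5 := by omega
  all_goals simp only [Nat.mod_mod, e] at h8; revert h8; decide

end Cfsg.Agent.S5971
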