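import Cfsg.Statements.S5972
import Cfsg.Agent.Lib.Elu.Two

set_option autoImplicit false
open scoped MatrixGroups
open Cfsg Module Cfsg.Lib.Forms Cfsg.Lib.Forms.Form Cfsg.Lib.Known Cfsg.Lib.Conj Cfsg.Lib.Elu

namespace Cfsg.Agent.S5972

/-- Elements of prime order of Ω_n(q), n = 2d+1 ≥ 7, q odd, with no fixed totally singular `m`-space. Here `T = Ω_n(q)` is realised as the commutator subgroup of the isometry group of the quadratic form `x₀² + Σ xᵢyᵢ` over the field `F` with `q` elements (it has trivial centre, so its elements of prime order `r` are used directly); let `1 ≤ m ≤ d` and let `r` be a prime dividing the number of totally singular `m`-spaces. For `r ≠ p` let `i` be the multiplicative order of `q` modulo `r`, `c = i` for `i` even and `c = 2i` for `i` odd, and write `k = n mod c`, `ℓ = m mod i`, `n' = ⌊n/i⌋`, `m' = ⌊m/i⌋`, `t = (r−1)/i`. Then every element of `T` of order `r` fixes some totally singular `m`-space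 if and only if either (i) `r = 2` and (`m < (n−1)/2` or `q ≡ 1 (mod 4)`); or (ii) `r ≠ p` is odd, `i ≤ m`, `k > 2ℓ`, and (`i` is odd or `n' − 2m' ≥ t`). -/
theorem result {F : Type*} [Field F] [Fintype F] {p : ℕ} [Fact p.Prime] [CharP F p] {q : ℕ} (hq : Fintype.card F = q) (hqodd : Odd q)
    (d m : ℕ) (hd : 3 ≤ d) (hm : 1 ≤ m) (hmd : m ≤ d)
    (r : ℕ) [Fact r.Prime]
    (hrΩ : r ∣ Nat.card {W : Submodule F (Unit ⊕ (Fin d ⊕ Fin d) → F) // Module.finrank F ↥W = m ∧ (∀ w ∈ W, Cfsg.quadFormOdd d F w = 0)})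
    (i c : ℕ) (hi : i = orderOf (q : ZMod r)) (hc : c = if Even i then i else 2 * i) :
    (∀ x : GL (Unit ⊕ (Fin d ⊕ Fin d)) F, x ∈ Cfsg.Geo.omegaGL (Cfsg.quadFormOdd d F) → orderOf x = r →
      ∃ W : Submodule F (Unit ⊕ (Fin d ⊕ Fin d) → F), Module.finrank F ↥W = m ∧ (∀ w ∈ W, Cfsg.quadFormOdd d F w = 0) ∧
        W.map (Matrix.toLin' (x : Matrix (Unit ⊕ (Fin d ⊕ Fin d)) (Unit ⊕ (Fin d ⊕ Fin d)) F)) ≤ W) ↔
    ((r = 2 ∧ (m < d ∨ q % 4 = 1)) ∨
     (r ≠ p ∧ 2 < r ∧ i ≤ m ∧ 2 * (m % i) < (2 * d + 1) % c ∧ (Odd i ∨ (r - 1) / i + 2 * (m / i) ≤ (2 * d + 1) / i))) := by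
  have h0 := two_ne_zero_of_odd_card hq hqodd
  subst hq
  have hr : r.Prime := Fact.out
  have hD := fOdd_nondeg h0 d
  have hn := finrank_odd (F := F) d
  have e : ∀ W : Submodule F (Unit ⊕ (Fin d ⊕ Fin d) → F),
      (∀ u ∈ W, quadFormOdd d F u = 0) ↔ (fOdd F d).IsTS W :=
    fun W => ⟨fun h => isTS_quad h, fun h => h.1⟩
  simp only [map_le_iff_inv, ← Nat.card_eq_fintype_card, e] at *
  refine (om_ord_iff (P := (TSI (fOdd F d) · m)) fOdd_Q hr (tsi_of_smul (c := 1) (by simp)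
    (Quad.hasTS_pred hD (by omega)))).trans ?_
  rcases r_cases (F := F) p hr with rfl | ⟨rfl, h1, h2⟩ | ⟨h1, h2, h3, h4, h5⟩
  · exact absurd hrΩ (not_char_dvd_TS (sg_quad r) hD (by omega))
  · simp [quad_two_odd_ts h2 hD hn hm hmd]
  · rw [om_all_odd hD (by omega) h4, quad_odd_ts hD hn hr h3 h5 hmd hrΩ, hc, hi]
    simp [h1, h2, h3, io]

end Cfsg.Agent.S5972
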