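import Cfsg.Statements.S5974
import Cfsg.Agent.Lib.Elu.Ch2

set_option autoImplicit false
open scoped MatrixGroups
open Cfsg Module Cfsg.Lib.Forms Cfsg.Lib.Forms.Form Cfsg.Lib.Known Cfsg.Lib.Conj Cfsg.Lib.Elu

namespace Cfsg.Agent.S5974

/-- Elements of prime order of PΩ⁺_n(q), n = 2d ≥ 8, with no fixed nondegenerate hyperbolic `m`-space. Here `T = PΩ⁺_n(q)` is realised through `Ω⁺_n(q)`, the commutator subgroup of the isometry group of `Q = Σ xᵢyᵢ` over the field `F` with `q` elements; an element of `T` of prime order `r` is an element `x` of `Ω⁺_n(q)` with `x^r` scalar and `x` not scalar. A hyperbolic `m`-space is a subspace `W` of even dimension `m` on which the polar form of `Q` is nondegenerate and which contains a totally singular subspace of dimension `m/2`. Let `m` be even with `2 ≤ m < n/2`, and let `r` be a prime dividing the number of hyperbolic `m`-spaces, with `r = 2` or `r ≠ p`. For `r ≠ p` let `i` be the multiplicative order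 of `q` modulo `r`, `c = i` for `i` even and `c = 2i` for `i` odd, and write `k = n mod c`, `ℓ' = m mod c`. Then every element of `T` of order `r` fixes some hyperbolic `m`-space if and only if one of: (i) `r = 2` and (`n ≡ 2 (mod 4)`, or `m ≡ 0 (mod 4)`, or `q ≡ 1 (mod 4)`); (ii) `r ≠ p` odd, `i` odd, `c ≤ m` and `k ≥ ℓ'`; (iii) `r ≠ p` odd, `i` even, and either `k = 0` and (`n/i` odd, or `ℓ' = 0` and `m/i` even), or `i ≤ m` and (`k > ℓ' > 0`, or `k = ℓ' > 0` and `(n + m − 2k)/i` even, or `k > ℓ' = 0` and `m/i` even). -/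
theorem result {F : Type*} [Field F] [Fintype F] {p : ℕ} [Fact p.Prime] [CharP F p] {q : ℕ} (hq : Fintype.card F = q)
    (d m : ℕ) (hd : 4 ≤ d) (hm : 2 ≤ m) (hme : Even m) (hmd : m < d)
    (r : ℕ) [Fact r.Prime] (hr : r = 2 ∨ r ≠ p)
    (hrΩ : r ∣ Nat.card {W : Submodule F (Fin d ⊕ Fin d → F) // (Module.finrank F ↥W = m ∧ (∀ u ∈ W, u ≠ 0 → ∃ v ∈ W, QuadraticMap.polar (Cfsg.quadFormPlus d F) u v ≠ 0) ∧
          ∃ U : Submodule F (Fin d ⊕ Fin d → F), U ≤ W ∧ 2 * Module.finrank F ↥U = m ∧ ∀ u ∈ U, Cfsg.quadFormPlus d F u = 0)})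
    (i c : ℕ) (hi : i = orderOf (q : ZMod r)) (hc : c = if Even i then i else 2 * i) :
    (∀ x : GL (Fin d ⊕ Fin d) F, x ∈ Cfsg.Geo.omegaGL (Cfsg.quadFormPlus d F) →
      (∃ z : F, ((x ^ r : GL (Fin d ⊕ Fin d) F) : Matrix (Fin d ⊕ Fin d) (Fin d ⊕ Fin d) F) = z • (1 : Matrix (Fin d ⊕ Fin d) (Fin d ⊕ Fin d) F)) →
      (∀ z : F, (x : Matrix (Fin d ⊕ Fin d) (Fin d ⊕ Fin d) F) ≠ z • (1 : Matrix (Fin d ⊕ Fin d) (Fin d ⊕ Fin d) F)) →
      ∃ W : Submodule F (Fin d ⊕ Fin d → F), (Module.finrank F ↥W = m ∧ (∀ u ∈ W, u ≠ 0 → ∃ v ∈ W, QuadraticMap.polar (Cfsg.quadFormPlus d F) u v ≠ 0) ∧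
          ∃ U : Submodule F (Fin d ⊕ Fin d → F), U ≤ W ∧ 2 * Module.finrank F ↥U = m ∧ ∀ u ∈ U, Cfsg.quadFormPlus d F u = 0) ∧
        W.map (Matrix.toLin' (x : Matrix (Fin d ⊕ Fin d) (Fin d ⊕ Fin d) F)) ≤ W) ↔
    ((r = 2 ∧ ((2 * d) % 4 = 2 ∨ m % 4 = 0 ∨ q % 4 = 1)) ∨
     (r ≠ p ∧ 2 < r ∧ Odd i ∧ c ≤ m ∧ m % c ≤ (2 * d) % c) ∨
     (r ≠ p ∧ 2 < r ∧ Even i ∧
       (((2 * d) % c = 0 ∧ (Odd ((2 * d) / i) ∨ (m % c = 0 ∧ Even (m / i)))) ∨
        (i ≤ m ∧ ((m % c < (2 * d) % c ∧ 0 < m % c) ∨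
                  ((2 * d) % c = m % c ∧ 0 < m % c ∧ Even ((2 * d + m - 2 * ((2 * d) % c)) / i)) ∨
                  (0 < (2 * d) % c ∧ m % c = 0 ∧ Even (m / i))))))) := by
  subst hq
  have hr' : r.Prime := Fact.out
  have hD := fPlus_nondeg (F := F) d
  have hn := finrank_plus (F := F) d
  obtain ⟨E, hE, hQ, e⟩ := quad_model (fPlus F d) (by omega) hme True
  simp only [iff_true] at e
  have e' : ∀ W : Submodule F (Fin d ⊕ Fin d → F), (finrank F W = m ∧ (∀ u ∈ W, u ≠ 0 → ∃ v ∈ W,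
      QuadraticMap.polar (fPlus F d).Q u v ≠ 0) ∧ ∃ U ≤ W, 2 * finrank F U = m ∧
        ∀ u ∈ U, (fPlus F d).Q u = 0) ↔ ((fPlus F d).restrict W).Iso E := fun W => by
    rw [← e, nondegOn_iff, ← nondeg_iff_exists]
    refine and_congr_right fun h => and_congr (by simp only [quad_B_eq, QuadraticMap.polar]) ?_
    simp only [Geo.IsPlusTypeOn, h, and_comm (a := _ = m)]
    rfl
  have hm' : finrank F (Fin m → F) = m := by simp
  simp only [← fPlus_Q, e', map_le_iff_inv, ← Nat.card_eq_fintype_card] at hrΩ hi ⊢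
  refine (om_iff (P := (NDI (fPlus F d) · E)) rfl
    (ndi_scalar (cp_quad.sub hE hD (by omega)))).trans ?_
  have hP := iff_true_intro (fPlus_hasTS (F := F) d)
  have := Nat.even_iff.1 hme
  rcases r_cases (F := F) p hr' with rfl | ⟨rfl, h1, h2⟩ | ⟨h1, h2, h3, h4, h5⟩
  · obtain rfl : r = 2 := by tauto
    have := char_dvd_card (F := F) 2
    rw [quad_ch2_nd CharTwo.two_eq_zero hD hE hn (e := m / 2) (by omega) (by omega) (by omega)
      (by omega) hP hQ]
    simp only [Nat.even_iff, Nat.odd_iff, true_iff, true_and, lt_irrefl, false_and, and_false,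
      or_false, imp_self]
    omega
  · have := Nat.odd_iff.1 (odd_card_iff.2 h2)
    simp only [quad_two_nd h2 hD hE hn hm' (by omega) hP hQ (by omega), Ex, Nat.even_iff, true_iff,
      true_and, lt_irrefl, false_and, and_false, or_false]
    omega
  · rw [om_allE_odd hD (by omega) h4 fun _ c h => h.smul c]
    refine quad_nd2 hD hE hr' h3 h5 hn hm' (Or.inr hme) (P := True)
      (by rwa [Nat.mul_div_cancel_left _ two_pos]) hQ hi.symm hc (by omega) (by omega) hrΩ
      fun h6 Y h7 h8 => ?_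
    obtain ⟨b, rfl⟩ := prop_nat Y
    have h9 := c_facts hc (2 * d)
    have h10 := c_facts hc m
    have h11 := fun h => div_add_of_mod (n := 2 * d) (m := m) h h6
    rcases Nat.mod_two_eq_zero_or_one i with h | h
    · obtain rfl : i = c := by omega
      simp only [Nat.even_iff, Nat.odd_iff, true_iff, h1, h2, h3, ne_eq, not_false_iff, true_and,
        false_and, false_or, h, zero_ne_one] at h8 ⊢
      clear hc h1 hr
      omega
    · simp only [Nat.even_iff, Nat.odd_iff, true_iff, h1, h2, h3, ne_eq, not_false_iff, true_and,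
        false_and, false_or, h, one_ne_zero, true_or, or_false, not_true, and_false, iff_self,
        implies_true, and_true] at h8 ⊢
      omega

end Cfsg.Agent.S5974
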