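import Cfsg.Statements.S5976
import Cfsg.Agent.Lib.Elu.C3

set_option autoImplicit false
open scoped MatrixGroups
open Cfsg Module Cfsg.Lib.Forms Cfsg.Lib.Forms.Form Cfsg.Lib.Known Cfsg.Lib.Conj Cfsg.Lib.Elu

namespace Cfsg.Agent.S5976

/-- Elements of prime order of PSp_n(q), q odd, and the subgroups of type GU_{n/2}(q). Here `T = PSp_{2d}(F)` for a field `F` with `q` elements, `q` odd, `d ≥ 2`, realised through the matrices preserving the standard alternating form `f`; `K` is a subalgebra of the `2d × 2d` matrices that is a field of degree 2 over `F`, closed under taking adjoints for `f` but not consisting of self-adjoint elements (so `F^{2d}` becomes a `d`-dimensional space over `K ≅ F_{q²}` on which `f` is the trace of a multiple of a non-degenerate hermitian form); `H` is the subgroup of `T` normalizing `K` — the symplectic maps that are `K`-linear or `K`-semilinear, a subgroup of type GU_d(q) (maximality is not assumed). Ω is the set of cosets of `H` in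 `T`, so an element of `T` of prime order `r` (`x ∈ T` with `x^r` scalar, `x` not scalar) fixes a point of Ω exactly when some `T`-conjugate of `x` normalizes `K`. Let `r` be a prime dividing the index of `H`. Then every element of `T` of order `r` fixes a point of Ω if and only if `r = 2`. -/
theorem result {F : Type*} [Field F] [Fintype F] {p : ℕ} [Fact p.Prime] [CharP F p] {q : ℕ} (hq : Fintype.card F = q)
    (hodd : Odd q) (d : ℕ) (hd : 2 ≤ d)
    (K : Subalgebra F (Matrix (Fin d ⊕ Fin d) (Fin d ⊕ Fin d) F)) (hK : Cfsg.Geo.IsFieldSubalgebra 2 K)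
    (hKf : Cfsg.Geo.IsAdjointClosedFor (Cfsg.sympForm d F) K) (hKns : ¬ Cfsg.Geo.IsSelfAdjointFor (Cfsg.sympForm d F) K)
    (r : ℕ) [Fact r.Prime]
    (hΩ : r ∣ (Cfsg.Geo.subalgebraNormalizer K).relIndex (Cfsg.spGL d F)) :
    (∀ x ∈ Cfsg.spGL d F, (∃ z : F, ((x ^ r : GL (Fin d ⊕ Fin d) F) : Matrix (Fin d ⊕ Fin d) (Fin d ⊕ Fin d) F) = z • (1 : Matrix (Fin d ⊕ Fin d) (Fin d ⊕ Fin d) F)) →
      (∀ z : F, (x : Matrix (Fin d ⊕ Fin d) (Fin d ⊕ Fin d) F) ≠ z • (1 : Matrix (Fin d ⊕ Fin d) (Fin d ⊕ Fin d) F)) →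
      ∃ g ∈ Cfsg.spGL d F, g⁻¹ * x * g ∈ Cfsg.Geo.subalgebraNormalizer K) ↔ r = 2 := by
  subst hq
  have : NeZero d := ⟨by omega⟩
  obtain ⟨E, _, _, _, _, _, _, e, h1, -, h4, h4', h5, h3⟩ := exists_field hK
  have : Finite E := Module.finite_of_finite F
  have hD := fSymp_nondeg (F := F) d
  obtain ⟨σ, h, hσ⟩ := exists_adj (K := E) hD h1 (fun a => by
      obtain ⟨k, hk, h6⟩ := hKf _ (h4 a)
      obtain ⟨b, rfl⟩ := h4' k hk
      exact ⟨b, fun u v => by rw [h5, h5, fSymp_B, fSymp_B, h6]⟩) fun H => hKns fun k hk u v => by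
    obtain ⟨b, rfl⟩ := h4' k hk
    rw [← h5, ← h5, ← fSymp_B, ← fSymp_B, H]
  rw [← Nat.card_eq_fintype_card] at h hodd
  obtain ⟨μ, m0, m1⟩ := exists_mu h
  obtain ⟨D', hD', hB⟩ := exists_hermForm hD h hσ m0 (by simp [m1])
  have hG := spGL_eq (F := F) d
  rw [Symp.E_eq_top hD] at hG
  rw [hG, ← Subgroup.relIndex_comap] at hΩ
  rw [ic_iff hD hG (inM_nk h3) sc_nk, sp_gu p hD hD' m0 m1 hB h1 (odd_card_iff.1 hodd)
    (finrank_plus d) hd Fact.out (fun _ => (mem_comap_toGL (inM_nk h3)).2) hΩ]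

end Cfsg.Agent.S5976
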