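import Cfsg.Statements.S5980
import Cfsg.Agent.Lib.Elu.C4

set_option autoImplicit false
open scoped MatrixGroups
open Cfsg Module Cfsg.Lib.Asch Cfsg.Lib.Forms Cfsg.Lib.Forms.Form Cfsg.Lib.Known Cfsg.Lib.Conj Cfsg.Lib.Elu

namespace Cfsg.Agent.S5980

/-- Elements of prime order of PSp_n(q), q odd, and the stabilizers of tensor decompositions Sp_a(q) ⊗ O_b(q). Here `T = PSp_{2d}(F)` for a field `F` with `q` elements, `q` odd, `d ≥ 2`, realised through the matrices preserving the standard alternating form `f`; `2d = a·b` with `a` even, `b ≥ 3`, and the bijection `e` and change of basis `P` exhibit `f` as a non-zero scalar multiple of the tensor product of a non-degenerate alternating form `f₁` on `F^a` and a non-degenerate symmetric bilinear form `f₂` on `F^b`; `H` is the subgroup of `T` stabilizing this tensor decomposition (the elements of `T` in the conjugate by `P` of the group of Kronecker products) — a subgroup of type Sp_a(q) ⊗ O^ε_b(q)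 (maximality is not assumed). Ω is the set of cosets of `H` in `T`, so an element of `T` of prime order `r` (`x ∈ T` with `x^r` scalar, `x` not scalar) fixes a point of Ω exactly when some `T`-conjugate of `x` lies in `H`. Let `r` be a prime dividing the index of `H`. Then every element of `T` of order `r` fixes a point of Ω if and only if `r = 2` and `a = 2`. -/
theorem result {F : Type*} [Field F] [Fintype F] {p : ℕ} [Fact p.Prime] [CharP F p] {q : ℕ} (hq : Fintype.card F = q)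
    (hodd : Odd q) (d : ℕ) (hd : 2 ≤ d) (a b : ℕ) (hab : 2 * d = a * b) (ha : Even a) (ha2 : 2 ≤ a) (hb : 3 ≤ b)
    (e : (Fin d ⊕ Fin d) ≃ Fin a × Fin b) (P : GL (Fin d ⊕ Fin d) F)
    (f₁ : (Fin a → F) → (Fin a → F) → F) (f₂ : (Fin b → F) → (Fin b → F) → F)
    (hf₁ : Cfsg.Geo.IsSymplecticForm f₁) (hf₂ : Cfsg.Geo.IsSymmetricForm f₂)
    (hS : Cfsg.Geo.IsTensorFormStructure id (Cfsg.sympForm d F) f₁ f₂ e P)
    (r : ℕ) [Fact r.Prime]
    (hΩ : r ∣ (Cfsg.Geo.tensorProductSubgroup a b e P).relIndex (Cfsg.spGL d F)) :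
    (∀ x ∈ Cfsg.spGL d F, (∃ z : F, ((x ^ r : GL (Fin d ⊕ Fin d) F) : Matrix (Fin d ⊕ Fin d) (Fin d ⊕ Fin d) F) = z • (1 : Matrix (Fin d ⊕ Fin d) (Fin d ⊕ Fin d) F)) →
      (∀ z : F, (x : Matrix (Fin d ⊕ Fin d) (Fin d ⊕ Fin d) F) ≠ z • (1 : Matrix (Fin d ⊕ Fin d) (Fin d ⊕ Fin d) F)) →
      ∃ g ∈ Cfsg.spGL d F, g⁻¹ * x * g ∈ Cfsg.Geo.tensorProductSubgroup a b e P) ↔ (r = 2 ∧ a = 2) := by
  subst hq
  have : NeZero d := ⟨by omega⟩
  have h2 : (2 : F) ≠ 0 := odd_card_iff.1 (by rwa [Nat.card_eq_fintype_card])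
  obtain ⟨c, hc, h⟩ := ts_of (IsSymplecticForm.hm hf₁).toIsSesq (IsSymmetricForm.hm hf₂).toIsSesq hS
  obtain ⟨D₁, h3, h4⟩ := exists_form_of_symp hf₁
  obtain ⟨ω, h5, h6⟩ := exists_form_of_quad (IsSymmetricForm.quad h2 hf₂)
  obtain ⟨β, hβ⟩ : ∃ β : Form (altKind F) (Fin a → F), ∀ x y, β.B x y = c / 2 * D₁.B x y :=
    ⟨ofAlt ((c / 2) • D₁.B) fun x => by simp [Symp.B_self], fun _ _ => rfl⟩
  have h7 : β.Nondeg := fun x hx => h4 x fun y => by simpa [hβ, hc, h2] using hx y
  have hD := fSymp_nondeg (F := F) d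
  have hG := spGL_eq (F := F) d
  rw [Symp.E_eq_top hD] at hG
  rw [hG, ← Subgroup.relIndex_comap, Subgroup.relIndex_top_right] at hΩ
  rw [ic_iff hD hG (inM_ts (Ten.comap_tensor e P)) sc_ts]
  refine sp_ts p hD h7 h6 h2 (fun u w u' w' => ?_) (by simp) (by simp) ha2 hb (finrank_plus d)
    Fact.out (hΩ.trans (Subgroup.index_dvd_card _))
  rw [fSymp_B, Ten.teq_tmul, Ten.teq_tmul, h, ← polar_toQuad, show ⇑(toQuad ω) = _ from h5,
    IsSymmetricForm.polar hf₂, h3, hβ]
  field_simp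

end Cfsg.Agent.S5980
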