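import Cfsg.Statements.S5981
import Cfsg.Agent.Lib.Elu.C8

set_option autoImplicit false
open scoped MatrixGroups
open Cfsg Module Cfsg.Lib.Forms Cfsg.Lib.Forms.Form Cfsg.Lib.Known Cfsg.Lib.Conj Cfsg.Lib.Elu

namespace Cfsg.Agent.S5981

/-- Elements of prime order of PSL_n(q), q odd, and the subgroups of orthogonal type. Here `T = PSL_n(F)` for a field `F` with `q` elements, `q` odd, `n ≥ 3`; `Q` is a non-degenerate quadratic form on `F^n` (of either type when `n` is even) and `H` is the subgroup of matrices of determinant 1 that preserve `Q` up to a scalar — a subgroup of type O^ε_n(q) (maximality is not assumed); Ω is the set of cosets of `H` in `T`, so an element of `T` of prime order `r` (a matrix `x` of determinant 1 with `x^r` scalar, `x` not scalar) fixes a point of Ω exactly when some conjugate of `x` by a matrix of determinant 1 preserves `Q` up to a scalar. Let `r` be a prime dividing the index of `H`, with `(n, r) ≠ (6, 3)`. Then every element of `T` of order `r`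 fixes a point of Ω if and only if `r = 2`, or `r ∈ {3, 5}`, `n = r` and `(q − 1)_r = r` (the `r`-part of `q − 1` is exactly `r`). The case `(n, r) = (6, 3)` is not covered by this statement. -/
theorem result {F : Type*} [Field F] [Fintype F] {p : ℕ} [Fact p.Prime] [CharP F p] {q : ℕ} (hq : Fintype.card F = q)
    (hodd : Odd q) (n : ℕ) (hn : 3 ≤ n) (Q : (Fin n → F) → F) (hQ : Cfsg.Geo.IsNondegenerateQuadraticForm Q)
    (r : ℕ) [Fact r.Prime] (hgap : ¬ (n = 6 ∧ r = 3))
    (hΩ : r ∣ (Cfsg.Geo.quadSimilarityGroup Q).relIndex (Cfsg.Geo.specialLinear (Fin n) F)) :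
    (∀ x ∈ Cfsg.Geo.specialLinear (Fin n) F, (∃ z : F, ((x ^ r : GL (Fin n) F) : Matrix (Fin n) (Fin n) F) = z • (1 : Matrix (Fin n) (Fin n) F)) →
      (∀ z : F, (x : Matrix (Fin n) (Fin n) F) ≠ z • (1 : Matrix (Fin n) (Fin n) F)) →
      ∃ g ∈ Cfsg.Geo.specialLinear (Fin n) F, g⁻¹ * x * g ∈ Cfsg.Geo.quadSimilarityGroup Q) ↔
    (r = 2 ∨ ((r = 3 ∨ r = 5) ∧ n = r ∧ padicValNat r (q - 1) = 1)) := by
  have hp : r.Prime := Fact.out
  rw [← Nat.card_eq_fintype_card] at hq
  have h2 := odd_card_iff.1 (hq ▸ hodd)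
  obtain ⟨D, rfl, hD⟩ := exists_form_of_quad hQ
  have h1 := comap_quadSimilarityGroup (D := D) h2
  rw [glc_iff (inM_sm hD h1) sc_sm, quad_c8 p h2 hD (by simp) hn hp hgap fun hF => ?_, hq]
  obtain ⟨m, rfl | rfl⟩ := Nat.even_or_odd' n
  · obtain ⟨m, rfl⟩ : ∃ k, m = k + 1 := ⟨m - 1, by omega⟩
    have key : ∀ a b, Nat.card F ^ (2 * (m + 1)) - 1 = a * b → Nat.card D.isom = 2 * Nat.card F ^
        ((m + 1) * m) * a * ∏ i ∈ Finset.range m, (Nat.card F ^ (2 * (i + 1)) - 1) →
        (∃ i, 2 * i < 2 * (m + 1) ∧ r ∣ Nat.card F ^ (2 * i + 1) - 1) ∨ r ∣ b := fun a b h3 h4 => by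
      obtain ⟨i, h5, h6⟩ := dvd_isom h1 hp hF hΩ (h4.trans (mul_assoc _ _ _)) (k := m + 2)
        (f := fun i => if i = m + 1 then b else Nat.card F ^ (2 * i + 1) - 1) (by
          rw [Fintype.card_fin, prod_two_mul (Nat.card F ^ · - 1), Finset.prod_range_succ, h3,
            Finset.prod_range_succ _ (m + 1), if_pos rfl, Finset.prod_congr rfl
              (f := fun i => if i = m + 1 then b else _) fun i hi => if_neg (Finset.mem_range.1 hi).ne]
          ring)
      split_ifs at h6
      · exact .inr h6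
      · exact .inl ⟨i, by omega, h6⟩
    have e := sq_sub_one_eq (Nat.card F ^ (m + 1))
    rw [← pow_mul'] at e
    by_cases hT : D.HasTS (m + 1)
    · exact (key _ _ (e.trans (mul_comm _ _)) (Quad.card_isom_plus hD (by simp) hT)).imp_right
        fun h => ⟨_, rfl, .inl ⟨hT, h⟩⟩
    · exact (key _ _ e (Quad.card_isom_minus hD (by simp) hT)).imp_right
        fun h => ⟨_, rfl, .inr ⟨hT, h⟩⟩
  · obtain ⟨i, h5, h6⟩ := dvd_isom h1 hp hF hΩ (Quad.card_isom_odd (m := m) hD (by simp)) (k := m + 1)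
      (f := fun i => Nat.card F ^ (2 * i + 1) - 1) (by
        rw [Fintype.card_fin, Finset.prod_range_succ, prod_two_mul (Nat.card F ^ · - 1),
          Finset.prod_range_succ, mul_assoc])
    exact .inl ⟨i, by omega, h6⟩

end Cfsg.Agent.S5981
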