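import Cfsg.Statements.S5983
import Cfsg.Agent.Lib.Elu.Ch2

set_option autoImplicit false
open scoped MatrixGroups
open Cfsg Module Cfsg.Lib.Forms Cfsg.Lib.Forms.Form Cfsg.Lib.Known Cfsg.Lib.Conj Cfsg.Lib.Elu

namespace Cfsg.Agent.S5983

/-- Elements of prime order of PSp_n(q), q even, and the subgroups of orthogonal type. Here `T = Sp_{2d}(F)` for a field `F` of characteristic 2 with `q` elements (`d ≥ 2`, `(d, q) ≠ (2, 2)`), realised as the invertible matrices preserving the standard alternating form; `Q` is a non-degenerate quadratic form on `F^{2d}` whose polar form is that alternating form, and `H` is the subgroup of `T` preserving `Q` up to a scalar (equivalently preserving `Q`) — a subgroup of type O^±_{2d}(q) (maximality is not assumed); `Q` is of plus type when `F^{2d}` contains a `d`-dimensional subspace on which `Q` vanishes, of minus type otherwise. Ω is the set of cosets of `H` in `T`, so an element of `T` of prime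 order `r` (`x ∈ T` with `x^r` scalar, `x` not scalar) fixes a point of Ω exactly when some `T`-conjugate of `x` preserves `Q`. Let `r` be a prime dividing the index of `H`. Then every element of `T` of order `r` fixes a point of Ω if and only if `r = 2` and either `Q` is of plus type or `d` is odd. -/
theorem result {F : Type*} [Field F] [Fintype F] {p : ℕ} [Fact p.Prime] [CharP F p] {q : ℕ} (hq : Fintype.card F = q)
    (hp : p = 2) (d : ℕ) (hd : 2 ≤ d) (hT : (d, q) ≠ (2, 2)) (Q : (Fin d ⊕ Fin d → F) → F) (hQ : Cfsg.Geo.IsNondegenerateQuadraticForm Q)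
    (hQf : ∀ u v, QuadraticMap.polar Q u v = Cfsg.sympForm d F u v)
    (r : ℕ) [Fact r.Prime]
    (hΩ : r ∣ (Cfsg.Geo.quadSimilarityGroup Q).relIndex (Cfsg.spGL d F)) :
    (∀ x ∈ Cfsg.spGL d F, (∃ z : F, ((x ^ r : GL (Fin d ⊕ Fin d) F) : Matrix (Fin d ⊕ Fin d) (Fin d ⊕ Fin d) F) = z • (1 : Matrix (Fin d ⊕ Fin d) (Fin d ⊕ Fin d) F)) →
      (∀ z : F, (x : Matrix (Fin d ⊕ Fin d) (Fin d ⊕ Fin d) F) ≠ z • (1 : Matrix (Fin d ⊕ Fin d) (Fin d ⊕ Fin d) F)) →
      ∃ g ∈ Cfsg.spGL d F, g⁻¹ * x * g ∈ Cfsg.Geo.quadSimilarityGroup Q) ↔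
    (r = 2 ∧ (Cfsg.Geo.IsPlusTypeOn Q ⊤ ∨ Odd d)) := by
  subst hp
  have hr : r.Prime := Fact.out
  have h2 : (2 : F) = 0 := CharTwo.two_eq_zero
  obtain ⟨D, rfl, hD⟩ := exists_form_of_quad hQ
  have hn := finrank_plus (F := F) d
  have hA := fSymp_nondeg (F := F) d
  have := nontrivial_of_finrank_pos (hn ▸ (by omega : 0 < 2 * d))
  have hB : ∀ u v, D.B u v = (fSymp F d).B u v := fun u v => by
    rw [fSymp_B, ← hQf, quad_B_eq, QuadraticMap.polar]
  let H := ((Geo.quadSimilarityGroup D.Q).subgroupOf (spGL d F)).comap (spGLEquiv F d).symm.toMonoidHom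
  have hH : ∀ g, g ∈ H ↔ ∀ v, D.Q (g.1 v) = D.Q v := fun g => by
    obtain ⟨g, rfl⟩ := (spGLEquiv F d).surjective g
    have : spGLEquiv F d g ∈ H ↔ g.1 ∈ Geo.quadSimilarityGroup D.Q := by
      simp [H, Subgroup.mem_subgroupOf]
    rw [this]
    refine ⟨fun ⟨c, hc⟩ v => ?_, fun h => ⟨1, by simpa using h⟩⟩
    obtain ⟨u, hu⟩ := exists_ne (0 : Fin d ⊕ Fin d → F)
    obtain ⟨w, hw⟩ := not_forall.1 (mt (hD u) hu)
    have h1 := (spGLEquiv F d g).2.B_map u w
    rw [← hB, ← hB, quad_B_eq, ← map_add] at h1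
    simp only [spGLEquiv_apply, hc, ← mul_sub, ← quad_B_eq, mul_left_eq_self₀, hw, or_false] at h1
    simp [hc, h1]
  have hΩ' : r ∣ H.index := by
    rwa [Subgroup.index_comap_of_surjective _ (spGLEquiv F d).symm.surjective]
  have key : (∀ x ∈ spGL d F, (∃ z : F, ((x ^ r : GL (Fin d ⊕ Fin d) F) : Matrix (Fin d ⊕ Fin d) (Fin d ⊕ Fin d) F) =
      z • (1 : Matrix (Fin d ⊕ Fin d) (Fin d ⊕ Fin d) F)) → (∀ z : F, (x : Matrix (Fin d ⊕ Fin d) (Fin d ⊕ Fin d) F) ≠ z • (1 : Matrix (Fin d ⊕ Fin d) (Fin d ⊕ Fin d) F)) →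
      ∃ g ∈ spGL d F, g⁻¹ * x * g ∈ Geo.quadSimilarityGroup D.Q) ↔
      ∀ x : (fSymp F d).isom, x ^ r = 1 → ∃ g, g⁻¹ * x * g ∈ H := by
    have e : ∀ x : spGL d F, (∃ g ∈ spGL d F, g⁻¹ * x.1 * g ∈ Geo.quadSimilarityGroup D.Q) ↔
        ∃ g, g⁻¹ * spGLEquiv F d x * g ∈ H := fun x => by
      rw [(spGLEquiv F d).surjective.exists]
      simp [H, Subgroup.mem_subgroupOf]
    refine ⟨fun h x hx => ?_, fun h x hx ⟨z, hz⟩ _ => (e ⟨x, hx⟩).2 (h _ ?_)⟩
    · obtain ⟨x, rfl⟩ := (spGLEquiv F d).surjective x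
      rw [← map_pow, map_eq_one_iff _ (spGLEquiv F d).injective] at hx
      by_cases h3 : ∃ z : F, (x.1 : Matrix (Fin d ⊕ Fin d) (Fin d ⊕ Fin d) F) = z • (1 : Matrix (Fin d ⊕ Fin d) (Fin d ⊕ Fin d) F)
      · obtain ⟨z, hz⟩ := h3
        refine (e x).1 ⟨1, one_mem _, Units.mk0 (z ^ 2) fun h => ?_, fun v => by
          simp [hz, Matrix.smul_mulVec, sq, D.Q_smul]⟩
        have : Nonempty (Fin d) := ⟨⟨0, by omega⟩⟩
        simpa [hz, pow_eq_zero_iff two_ne_zero |>.1 h] using x.1.ne_zero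
      · exact (e x).1 (h x x.2 ⟨1, by simp [← Subgroup.coe_pow, hx]⟩ (not_exists.1 h3))
    · have h3 : nat _ (spGLEquiv F d ⟨x, hx⟩) ^ r = algebraMap F _ z := by
        rw [← map_pow, ← map_pow]
        exact LinearMap.ext fun v => by simp [nat_apply, hz, Matrix.smul_mulVec]
      have h4 := norm_of_pow hA (isIsometry_nat _) h3
      obtain rfl := eq_of_sq_eq_two h2 (a := z) (b := 1) (by simpa [sq] using h4)
      exact nat_injective _ (by rw [map_pow, h3, map_one, map_one])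
  rw [key, isPlusTypeOn_top hn]
  rcases r_cases (F := F) 2 hr with rfl | ⟨rfl, h1, -⟩ | ⟨h1, -, h3, h4, h5⟩
  · simp only [osp_two h2 hD hB hH hn, true_and]
  · exact absurd rfl h1
  · simp only [osp_odd h2 hD hB hH hr h5 hΩ', h3, false_and]

end Cfsg.Agent.S5983
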