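import Cfsg.Statements.S5984
import Cfsg.Agent.Lib.Elu.Pp

set_option autoImplicit false
open scoped MatrixGroups
open Cfsg Module Cfsg.Lib.Forms Cfsg.Lib.Forms.Form Cfsg.Lib.Known Cfsg.Lib.Conj Cfsg.Lib.Elu

namespace Cfsg.Agent.S5984

/-- Elements of prime order of PSU_n(q) and the stabilizers of pairs of complementary totally singular subspaces. Here `T = PSU_n(q)` is realised through `SU_n(q)`, the matrices of determinant 1 over the field `F` with `q²` elements preserving the hermitian form `Σ uᵢ vᵢ^q`, with `n ≥ 4` even; `D` is a pair of complementary subspaces of dimension `n/2` on each of which the form vanishes identically, and `H` is the subgroup of `SU_n(q)` fixing or interchanging the two members — a subgroup of type GL_{n/2}(q²).2 (maximality is not assumed). Ω is the set of cosets of `H`, so an element of `T` of prime order `r` (`x ∈ SU_n(q)` with `x^r` scalar, `x` not scalar) fixes a point of Ω exactly when some `SU_n(q)`-conjugate of `x` lies in `H`. Let `r`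 be a prime dividing the index of `H`. Then every element of `T` of order `r` fixes a point of Ω if and only if `r = 2`, `q` is odd and `(q + 1)_2 ≤ (n)_2` (2-parts). -/
theorem result {F : Type*} [Field F] [Fintype F] {p : ℕ} [Fact p.Prime] [CharP F p] {q : ℕ} (hq : Fintype.card F = q ^ 2)
    (n : ℕ) (hn : 4 ≤ n) (he : Even n) (D : Fin 2 → Submodule F (Fin n → F)) (hD : Cfsg.Geo.IsMDecomposition (n / 2) D)
    (hDs : ∀ i, Cfsg.Geo.IsTotallySingularFor (Cfsg.hermForm n F q) (D i))
    (r : ℕ) [Fact r.Prime]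
    (hΩ : r ∣ (Cfsg.Geo.decompositionStabilizer D).relIndex (Cfsg.GU n F q ⊓ Cfsg.Geo.specialLinear (Fin n) F)) :
    (∀ x ∈ Cfsg.GU n F q ⊓ Cfsg.Geo.specialLinear (Fin n) F, (∃ z : F, ((x ^ r : GL (Fin n) F) : Matrix (Fin n) (Fin n) F) = z • (1 : Matrix (Fin n) (Fin n) F)) →
      (∀ z : F, (x : Matrix (Fin n) (Fin n) F) ≠ z • (1 : Matrix (Fin n) (Fin n) F)) →
      ∃ g ∈ Cfsg.GU n F q ⊓ Cfsg.Geo.specialLinear (Fin n) F, g⁻¹ * x * g ∈ Cfsg.Geo.decompositionStabilizer D) ↔
    (r = 2 ∧ Odd q ∧ padicValNat 2 (q + 1) ≤ padicValNat 2 n) := by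
  have h := isConj_frob (Nat.card_eq_fintype_card.trans hq)
  have hV := stdHerm_nondeg h (Fin n)
  obtain ⟨m, rfl⟩ := he.two_dvd
  have h1 : finrank F (Fin (2 * m) → F) = 2 * m := by simp
  have h2 : IsCompl (D 0) (D 1) := ⟨hD.4.pairwiseDisjoint (by decide), codisjoint_iff.2
    (eq_top_iff.2 (hD.5 ▸ iSup_le (Fin.forall_fin_two.2 ⟨le_sup_left, le_sup_right⟩)))⟩
  have h3 := fun i => Herm.isTS ((rep_herm h _).ts.1 (hDs i))
  have h4 := su_eq h (n := 2 * m) (by omega)
  rw [Herm.E_eq hV (by omega)] at h4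
  rw [h4, ← Subgroup.relIndex_comap, comap_decompositionStabilizer] at hΩ
  rw [isoc_iff h4 (ker_det_iff hV)
    (fun x _ c e => e ▸ pp_scalar hV (Herm.hasTS hV h1.ge) h1 c)
    fun x _ => comap_decompositionStabilizer D ▸ su_pp_iff hV (by omega) h2 h3 x,
    su_pp p hV h1 (by omega) Fact.out fun hF => su_pp_dvd hV h1 h2 h3 Fact.out hF hΩ,
    ← odd_card_iff, h.card, Nat.odd_pow_iff two_ne_zero]

end Cfsg.Agent.S5984
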