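import Cfsg.Statements.S5985
import Cfsg.Agent.Lib.Elu.Ch2

set_option autoImplicit false
open scoped MatrixGroups
open Cfsg Module Cfsg.Lib.Forms Cfsg.Lib.Forms.Form Cfsg.Lib.Known Cfsg.Lib.Conj Cfsg.Lib.Elu

namespace Cfsg.Agent.S5985

/-- Elements of prime order of Ω⁺_n(q), q even, with no fixed nonsingular 1-space. Here `T = PΩ⁺_n(F)`, `n = 2d ≥ 8`, realised through `Ω⁺_n(q)`, the commutator subgroup of the isometry group of `Q = Σ xᵢyᵢ` over the field `F` with `q` elements; an element of `T` of prime order `r` is an element `x` of `Ω⁺_n(q)` with `x^r` scalar and `x` not scalar; `q` is even (so the centre is trivial). Let Ω be the set of 1-dimensional subspaces spanned by a vector `v` with `Q(v) ≠ 0`, and let `r` be a prime dividing their number. Then every element of `T` of order `r` fixes some nonsingular 1-space if and only if `r = 2` and `n ≡ 2 (mod 4)` (that is, `d` is odd). -/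
theorem result {F : Type*} [Field F] [Fintype F] {p : ℕ} [Fact p.Prime] [CharP F p] {q : ℕ} (hq : Fintype.card F = q)
    (hp : p = 2) (d : ℕ) (hd : 4 ≤ d) (r : ℕ) [Fact r.Prime]
    (hrΩ : r ∣ Nat.card {W : Submodule F (Fin d ⊕ Fin d → F) // Module.finrank F ↥W = 1 ∧ ∃ v ∈ W, Cfsg.quadFormPlus d F v ≠ 0}) :
    (∀ x : GL (Fin d ⊕ Fin d) F, x ∈ Cfsg.Geo.omegaGL (Cfsg.quadFormPlus d F) →
      (∃ z : F, ((x ^ r : GL (Fin d ⊕ Fin d) F) : Matrix (Fin d ⊕ Fin d) (Fin d ⊕ Fin d) F) = z • (1 : Matrix (Fin d ⊕ Fin d) (Fin d ⊕ Fin d) F)) →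
      (∀ z : F, (x : Matrix (Fin d ⊕ Fin d) (Fin d ⊕ Fin d) F) ≠ z • (1 : Matrix (Fin d ⊕ Fin d) (Fin d ⊕ Fin d) F)) →
      ∃ W : Submodule F (Fin d ⊕ Fin d → F), (Module.finrank F ↥W = 1 ∧ ∃ v ∈ W, Cfsg.quadFormPlus d F v ≠ 0) ∧ W.map (Matrix.toLin' (x : Matrix (Fin d ⊕ Fin d) (Fin d ⊕ Fin d) F)) ≤ W) ↔ (r = 2 ∧ Odd d) := by
  subst hp
  have hr : r.Prime := Fact.out
  have h2 : (2 : F) = 0 := CharTwo.two_eq_zero
  have hD := fPlus_nondeg (F := F) d
  have hn := finrank_plus (F := F) d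
  simp only [← fPlus_Q, map_le_iff_inv] at hrΩ ⊢
  haveI := nontrivial_of_finrank_pos (R := F) (M := Fin d ⊕ Fin d → F) (by omega)
  refine (om_iff (P := fun x => ∃ U, NS (fPlus F d) U ∧ Inv x U) rfl fun c => ?_).trans ?_
  · obtain ⟨v, hv⟩ := hD.exists_Q_ne_zero ⟨1, one_ne_zero⟩
    exact ⟨F ∙ v, ⟨finrank_span_singleton fun e => hv (by simp [e]), v,
      Submodule.mem_span_singleton_self v, hv⟩, inv_scalar _ _⟩
  rcases r_cases (F := F) 2 hr with rfl | ⟨rfl, h1, -⟩ | ⟨h1, -, h3, h4, h5⟩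
  · simp [ns_two h2 hD hn (by omega), fPlus_hasTS]
  · exact absurd rfl h1
  · rw [om_allE_odd hD (by omega) h4 fun _ c ⟨U, a, b⟩ => ⟨U, a, fun v hv => U.smul_mem c (b v hv)⟩]
    simp [ns_odd h2 hD hr h5 hrΩ, h3]

end Cfsg.Agent.S5985
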