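import Cfsg.Statements.S5986
import Cfsg.Agent.Lib.Elu.Ch2

set_option autoImplicit false
open scoped MatrixGroups
open Cfsg Module Cfsg.Lib.Forms Cfsg.Lib.Forms.Form Cfsg.Lib.Known Cfsg.Lib.Conj Cfsg.Lib.Elu

namespace Cfsg.Agent.S5986

/-- Elements of prime order of Ω⁻_n(q), q even, with no fixed nonsingular 1-space. Here `T = PΩ⁻_n(F)`, `n = 2d ≥ 8`, realised through `Ω⁻_n(q)`, the commutator subgroup of the isometry group of `Q = Σ_{i<d−1} xᵢyᵢ + z₁² + a z₁z₂ + b z₂²` with `z₁² + a z₁z₂ + b z₂²` anisotropic, over the field `F` with `q` elements; an element of `T` of prime order `r` is an element `x` of `Ω⁻_n(q)` with `x^r` scalar and `x` not scalar; `q` is even (so the centre is trivial). Let Ω be the set of 1-dimensional subspaces spanned by a vector `v` with `Q(v) ≠ 0`, and let `r` be a prime dividing their number. Then every element of `T` of order `r`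 fixes some nonsingular 1-space if and only if `r = 2`. -/
theorem result {F : Type*} [Field F] [Fintype F] {p : ℕ} [Fact p.Prime] [CharP F p] {q : ℕ} (hq : Fintype.card F = q)
    (hp : p = 2) (d : ℕ) (hd : 4 ≤ d) (a b : F) (hab : ∀ x y : F, x ^ 2 + a * x * y + b * y ^ 2 = 0 → x = 0 ∧ y = 0) (r : ℕ) [Fact r.Prime]
    (hrΩ : r ∣ Nat.card {W : Submodule F ((Fin (d - 1) ⊕ Fin (d - 1)) ⊕ Fin 2 → F) // Module.finrank F ↥W = 1 ∧ ∃ v ∈ W, Cfsg.quadFormMinus (d - 1) F a b v ≠ 0}) :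
    (∀ x : GL ((Fin (d - 1) ⊕ Fin (d - 1)) ⊕ Fin 2) F, x ∈ Cfsg.Geo.omegaGL (Cfsg.quadFormMinus (d - 1) F a b) →
      (∃ z : F, ((x ^ r : GL ((Fin (d - 1) ⊕ Fin (d - 1)) ⊕ Fin 2) F) : Matrix ((Fin (d - 1) ⊕ Fin (d - 1)) ⊕ Fin 2) ((Fin (d - 1) ⊕ Fin (d - 1)) ⊕ Fin 2) F) = z • (1 : Matrix ((Fin (d - 1) ⊕ Fin (d - 1)) ⊕ Fin 2) ((Fin (d - 1) ⊕ Fin (d - 1)) ⊕ Fin 2) F)) →
      (∀ z : F, (x : Matrix ((Fin (d - 1) ⊕ Fin (d - 1)) ⊕ Fin 2) ((Fin (d - 1) ⊕ Fin (d - 1)) ⊕ Fin 2) F) ≠ z • (1 : Matrix ((Fin (d - 1) ⊕ Fin (d - 1)) ⊕ Fin 2) ((Fin (d - 1) ⊕ Fin (d - 1)) ⊕ Fin 2) F)) →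
      ∃ W : Submodule F ((Fin (d - 1) ⊕ Fin (d - 1)) ⊕ Fin 2 → F), (Module.finrank F ↥W = 1 ∧ ∃ v ∈ W, Cfsg.quadFormMinus (d - 1) F a b v ≠ 0) ∧ W.map (Matrix.toLin' (x : Matrix ((Fin (d - 1) ⊕ Fin (d - 1)) ⊕ Fin 2) ((Fin (d - 1) ⊕ Fin (d - 1)) ⊕ Fin 2) F)) ≤ W) ↔ r = 2 := by
  subst hp
  have hr : r.Prime := Fact.out
  have h2 : (2 : F) = 0 := CharTwo.two_eq_zero
  have hD := fMinus_nondeg (d - 1) hab
  have hn := (finrank_minus (F := F) (d - 1)).trans (show _ = 2 * d by omega)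
  have hP := fMinus_not_hasTS (d - 1) hab
  rw [show d - 1 + 1 = d by omega] at hP
  simp only [← fMinus_Q, map_le_iff_inv] at hrΩ ⊢
  have := nontrivial_of_finrank_pos (hn ▸ (by omega : 0 < 2 * d))
  refine (om_iff (P := fun x => ∃ U, NS (fMinus (d - 1) a b) U ∧ Inv x U) rfl fun c => ?_).trans ?_
  · obtain ⟨v, hv⟩ := hD.exists_Q_ne_zero ⟨1, one_ne_zero⟩
    exact ⟨F ∙ v, ⟨finrank_span_singleton fun e => hv (by simp [e]), v,
      Submodule.mem_span_singleton_self v, hv⟩, inv_scalar _ _⟩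
  rcases r_cases (F := F) 2 hr with rfl | ⟨rfl, h1, -⟩ | ⟨h1, -, h3, h4, h5⟩
  · simp [ns_two h2 hD hn (by omega), hP]
  · exact absurd rfl h1
  · rw [om_allE_odd hD (by omega) h4 fun _ c ⟨U, a, b⟩ => ⟨U, a, fun v hv => U.smul_mem c (b v hv)⟩]
    simp [ns_odd h2 hD hr h5 hrΩ, h3]

end Cfsg.Agent.S5986
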