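import Cfsg.Statements.S5988
import Cfsg.Agent.Lib.Elu.Unp

set_option autoImplicit false
open scoped MatrixGroups
open Cfsg Module Cfsg.Lib.Forms Cfsg.Lib.Forms.Form Cfsg.Lib.Known Cfsg.Lib.Conj Cfsg.Lib.Elu

namespace Cfsg.Agent.S5988

/-- Elements of prime order of PΩ⁺_n(q) with no fixed elliptic `m`-space. Here `T = PΩ⁺_n(F)`, `n = 2d ≥ 8`, realised through `Ω⁺_n(q)`, the commutator subgroup of the isometry group of `Q = Σ xᵢyᵢ` over the field `F` with `q` elements; an element of `T` of prime order `r` is an element `x` of `Ω⁺_n(q)` with `x^r` scalar and `x` not scalar; a nondegenerate `m`-space (even `m`) is a subspace on which the polar form of `Q` is nondegenerate; it is hyperbolic if it contains an `m/2`-dimensional subspace on which `Q` vanishes, elliptic otherwise. Let `m` be even with `2 ≤ m < n/2` and let `r` be a prime dividing the number of elliptic `m`-spaces; for `r ≠ p` let `i` be the multiplicative order of `q` modulo `r`, `c = i` for `i` even and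 `c = 2i` for `i` odd, and write `k = n mod c`, `ℓ = m mod i`, `ℓ' = m mod c`, `n' = ⌊n/i⌋`, `m' = ⌊m/i⌋`, `t = (r−1)/i`. Then every element of `T` of order `r` fixes some elliptic `m`-space if and only if one of: (i) `r = 2 ≠ p` and either `n ≡ 0 (mod 4)`, `q ≡ 3 (mod 4)` and `m ≡ 2 (mod 4)`, or `n ≡ 2 (mod 4)` and `q ≢ 1 (mod 8)`; (ii) `r ≠ p` odd, `i` odd, `c ≤ m` and `k > ℓ' > 0`; (iii) `r ≠ p` odd, `i` even, and either `k = 0` and (`n/i` odd, or `ℓ' = 0` and `m/i` odd), or `i ≤ m` and (`k > ℓ' > 0`, or `k = ℓ' > 0` and `(n + m − 2k)/i` odd, or `k > ℓ' = 0` and `m/i` odd). (For `r = p` there is always an element of order `p` fixing no elliptic `m`-space.) -/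
theorem result {F : Type*} [Field F] [Fintype F] {p : ℕ} [Fact p.Prime] [CharP F p] {q : ℕ} (hq : Fintype.card F = q)
    (d m : ℕ) (hd : 4 ≤ d) (hm : 2 ≤ m) (hme : Even m) (hmd : m < d)
    (r : ℕ) [Fact r.Prime]
    (hrΩ : r ∣ Nat.card {W : Submodule F (Fin d ⊕ Fin d → F) // Module.finrank F ↥W = m ∧ Cfsg.Geo.IsNondegenerateOn (QuadraticMap.polar (Cfsg.quadFormPlus d F)) W ∧ ¬ Cfsg.Geo.IsPlusTypeOn (Cfsg.quadFormPlus d F) W})
    (i c : ℕ) (hi : i = orderOf (q : ZMod r)) (hc : c = if Even i then i else 2 * i) :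
    (∀ x : GL (Fin d ⊕ Fin d) F, x ∈ Cfsg.Geo.omegaGL (Cfsg.quadFormPlus d F) →
      (∃ z : F, ((x ^ r : GL (Fin d ⊕ Fin d) F) : Matrix (Fin d ⊕ Fin d) (Fin d ⊕ Fin d) F) = z • (1 : Matrix (Fin d ⊕ Fin d) (Fin d ⊕ Fin d) F)) →
      (∀ z : F, (x : Matrix (Fin d ⊕ Fin d) (Fin d ⊕ Fin d) F) ≠ z • (1 : Matrix (Fin d ⊕ Fin d) (Fin d ⊕ Fin d) F)) →
      ∃ W : Submodule F (Fin d ⊕ Fin d → F), (Module.finrank F ↥W = m ∧ Cfsg.Geo.IsNondegenerateOn (QuadraticMap.polar (Cfsg.quadFormPlus d F)) W ∧ ¬ Cfsg.Geo.IsPlusTypeOn (Cfsg.quadFormPlus d F) W) ∧ W.map (Matrix.toLin' (x : Matrix (Fin d ⊕ Fin d) (Fin d ⊕ Fin d) F)) ≤ W) ↔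
    ((r = 2 ∧ p ≠ 2 ∧ ((Even d ∧ q % 4 = 3 ∧ m % 4 = 2) ∨ (Odd d ∧ q % 8 ≠ 1))) ∨
     (r ≠ p ∧ 2 < r ∧ Odd i ∧ c ≤ m ∧ 0 < m % c ∧ m % c < (2 * d) % c) ∨
     (r ≠ p ∧ 2 < r ∧ Even i ∧
       (((2 * d) % c = 0 ∧ (Odd ((2 * d) / i) ∨ (m % c = 0 ∧ Odd (m / i)))) ∨
        (i ≤ m ∧ ((0 < m % c ∧ m % c < (2 * d) % c) ∨
                  (0 < m % c ∧ m % c = (2 * d) % c ∧ Odd ((2 * d + m - 2 * ((2 * d) % c)) / i)) ∨
                  (m % c = 0 ∧ 0 < (2 * d) % c ∧ Odd (m / i))))))) := by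
  subst hq
  have hr' : r.Prime := Fact.out
  have hD := fPlus_nondeg (F := F) d
  have hn := finrank_plus (F := F) d
  obtain ⟨E, hE, hQ, e⟩ := quad_model (fPlus F d) (by omega) hme False
  simp only [iff_false] at e
  have hm' : finrank F (Fin m → F) = m := by simp
  simp only [← fPlus_Q, e, map_le_iff_inv, ← Nat.card_eq_fintype_card] at hrΩ hi ⊢
  refine (om_iff (P := (NDI (fPlus F d) · E)) rfl
    (ndi_scalar (cp_quad.sub hE hD (by omega)))).trans ?_
  have hP := iff_true_intro (fPlus_hasTS (F := F) d)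
  have := Nat.even_iff.1 hme
  rcases r_cases (F := F) p hr' with rfl | ⟨rfl, h1, h2⟩ | ⟨h1, h2, h3, h4, h5⟩
  · rcases hr'.eq_two_or_odd' with rfl | h
    · simp [quad_ch2_nd CharTwo.two_eq_zero hD hE hn (e := m / 2) (by omega) (by omega) (by omega)
        (by omega) hP hQ]
    · have h1 : r ≠ 2 := by rintro rfl; exact absurd h (by decide)
      have h2 : (2 : F) ≠ 0 := Ring.two_ne_zero ((ringChar.eq F r).symm ▸ h1)
      rw [om_allE_odd hD (by omega) h fun _ c h => h.smul c]
      refine iff_of_false (fun H => ?_) (by simp [h1])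
      rcases Nat.mod_two_eq_zero_or_one d with h3 | h3
      · have := (quad_unip0 r h2 hD hE (by omega) H (by omega) (by simp [hn, hP])).2
        rw [hm'] at this
        exact hQ.1 this
      · obtain ⟨l, C, hC, i⟩ := cp_quad.compl hE hD (by omega)
        have h4 := i.finrank_eq
        rw [finrank_prod] at h4
        have h5 := Quad.hasTS_prod_iff_iff hE hC (m := m / 2) (l := d - m / 2) (by omega) (by omega)
        rw [i.hasTS_iff, show m / 2 + (d - m / 2) = d by omega, hP, hQ] at h5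
        have := quad_unip2 r h2 hD hE i H (a := 1) (b := 1) (k := d / 2) (by simp) (by simp)
          (by omega)
        rw [hm', hQ, show finrank F (Fin l → F) / 2 = d - m / 2 by omega] at this
        simp only [true_iff, false_iff] at h5
        simp only [h5, and_false, false_or] at this
        omega
  · have := Nat.odd_iff.1 (odd_card_iff.2 h2)
    simp only [quad_two_nd h2 hD hE hn hm' (by omega) hP hQ (by omega), Ex, Nat.even_iff, true_iff,
      true_and, lt_irrefl, false_and, and_false, or_false, false_iff, h1, ne_eq, not_false_iff,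
      Nat.odd_iff]
    omega
  · rw [om_allE_odd hD (by omega) h4 fun _ c h => h.smul c]
    refine quad_nd2 hD hE hr' h3 h5 hn hm' (Or.inr hme) (P := True)
      (by rwa [Nat.mul_div_cancel_left _ two_pos]) hQ hi.symm hc (by omega) (by omega) hrΩ
      fun h6 Y h7 h8 => ?_
    obtain ⟨b, rfl⟩ := prop_nat Y
    have h9 := c_facts hc (2 * d)
    have h10 := c_facts hc m
    have h11 := fun h => div_add_of_mod (n := 2 * d) (m := m) h h6
    rcases Nat.mod_two_eq_zero_or_one i with h | h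
    · obtain rfl : i = c := by omega
      simp only [Nat.even_iff, Nat.odd_iff, true_iff, false_iff, h1, h2, h3, ne_eq, not_false_iff,
        true_and, false_and, false_or, h, zero_ne_one] at h8 ⊢
      clear hc h1
      omega
    · simp only [Nat.even_iff, Nat.odd_iff, true_iff, false_iff, h1, h2, h3, ne_eq, not_false_iff,
        true_and, false_and, false_or, h, one_ne_zero, true_or, or_false, not_true, and_false,
        iff_self, implies_true, and_true, imp_false] at h8 ⊢
      omega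

end Cfsg.Agent.S5988
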