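import Cfsg.Statements.S5989
import Cfsg.Agent.Lib.Elu.Unp

set_option autoImplicit false
open scoped MatrixGroups
open Cfsg Module Cfsg.Lib.Forms Cfsg.Lib.Forms.Form Cfsg.Lib.Known Cfsg.Lib.Conj Cfsg.Lib.Elu

namespace Cfsg.Agent.S5989

/-- Elements of prime order of PΩ⁺_n(q), q odd, with no fixed nondegenerate `m`-space of odd dimension. Here `T = PΩ⁺_n(F)`, `n = 2d ≥ 8`, realised through `Ω⁺_n(q)`, the commutator subgroup of the isometry group of `Q = Σ xᵢyᵢ` over the field `F` with `q` elements; an element of `T` of prime order `r` is an element `x` of `Ω⁺_n(q)` with `x^r` scalar and `x` not scalar; `q` and `m` are odd, `1 ≤ m < n/2`. The nondegenerate `m`-spaces (subspaces on which the polar form is nondegenerate) fall into two isometry classes, each an orbit of `T`, and the two actions are equivalent; fix one such space `W₀` and let Ω be the set of nondegenerate `m`-spaces isometric to `W₀` (some linear isomorphism preserves `Q`). Let `r` be a prime dividing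 the size of Ω; for `r ≠ p` let `i` be the multiplicative order of `q` modulo `r`, `c = i` for `i` even and `c = 2i` for `i` odd, and write `k = n mod c`, `ℓ = m mod i`, `ℓ' = m mod c`, `n' = ⌊n/i⌋`, `m' = ⌊m/i⌋`, `t = (r−1)/i`. Then every element of `T` of order `r` fixes a member of Ω if and only if one of: (i) `r = 2`, `n ≡ 2 (mod 4)` and `q ≢ 1 (mod 8)`; (ii) `r ≠ p` odd, `i` odd, `c ≤ m` and `k > ℓ' > 0`; (iii) `r ≠ p` odd, `i` even, and either `k = 0` and `n/i` odd, or `i ≤ m` and `k > ℓ' > 0`. (For `r = p` there is always an element of order `p` fixing no member of Ω.) -/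
theorem result {F : Type*} [Field F] [Fintype F] {p : ℕ} [Fact p.Prime] [CharP F p] {q : ℕ} (hq : Fintype.card F = q)
    (hodd : Odd q) (d m : ℕ) (hd : 4 ≤ d) (hm : Odd m) (hmd : m < d)
    (W₀ : Submodule F (Fin d ⊕ Fin d → F)) (hW₀ : Module.finrank F ↥W₀ = m ∧ Cfsg.Geo.IsNondegenerateOn (QuadraticMap.polar (Cfsg.quadFormPlus d F)) W₀)
    (r : ℕ) [Fact r.Prime]
    (hrΩ : r ∣ Nat.card {W : Submodule F (Fin d ⊕ Fin d → F) // Module.finrank F ↥W = m ∧ Cfsg.Geo.IsNondegenerateOn (QuadraticMap.polar (Cfsg.quadFormPlus d F)) W ∧ Cfsg.Geo.AreIsometricFor (Cfsg.quadFormPlus d F) W W₀})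
    (i c : ℕ) (hi : i = orderOf (q : ZMod r)) (hc : c = if Even i then i else 2 * i) :
    (∀ x : GL (Fin d ⊕ Fin d) F, x ∈ Cfsg.Geo.omegaGL (Cfsg.quadFormPlus d F) →
      (∃ z : F, ((x ^ r : GL (Fin d ⊕ Fin d) F) : Matrix (Fin d ⊕ Fin d) (Fin d ⊕ Fin d) F) = z • (1 : Matrix (Fin d ⊕ Fin d) (Fin d ⊕ Fin d) F)) →
      (∀ z : F, (x : Matrix (Fin d ⊕ Fin d) (Fin d ⊕ Fin d) F) ≠ z • (1 : Matrix (Fin d ⊕ Fin d) (Fin d ⊕ Fin d) F)) →
      ∃ W : Submodule F (Fin d ⊕ Fin d → F), (Module.finrank F ↥W = m ∧ Cfsg.Geo.IsNondegenerateOn (QuadraticMap.polar (Cfsg.quadFormPlus d F)) W ∧ Cfsg.Geo.AreIsometricFor (Cfsg.quadFormPlus d F) W W₀) ∧ W.map (Matrix.toLin' (x : Matrix (Fin d ⊕ Fin d) (Fin d ⊕ Fin d) F)) ≤ W) ↔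
    ((r = 2 ∧ Odd d ∧ q % 8 ≠ 1) ∨
     (r ≠ p ∧ 2 < r ∧ Odd i ∧ c ≤ m ∧ 0 < m % c ∧ m % c < (2 * d) % c) ∨
     (r ≠ p ∧ 2 < r ∧ Even i ∧ (((2 * d) % c = 0 ∧ Odd ((2 * d) / i)) ∨ (i ≤ m ∧ 0 < m % c ∧ m % c < (2 * d) % c)))) := by
  have h0 := two_ne_zero_of_odd_card hq hodd
  subst hq
  have hr' : r.Prime := Fact.out
  have hD := fPlus_nondeg (F := F) d
  have hn := finrank_plus (F := F) d
  rw [← fPlus_Q] at hW₀
  have hE := (nondegOn_iff _ _).1 hW₀.2
  have hm' := hW₀.1
  simp only [← fPlus_Q, quad_model_iso _ hW₀, map_le_iff_inv, ← Nat.card_eq_fintype_card]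
    at hrΩ hi hodd ⊢
  refine (om_iff (P := (NDI (fPlus F d) · ((fPlus F d).restrict W₀))) rfl
    (ndi_scalar ⟨_, Iso.refl _⟩)).trans ?_
  have hP := iff_true_intro (fPlus_hasTS (F := F) d)
  have := Nat.odd_iff.1 hm
  have hQ := iff_true_intro (Quad.hasTS_pred hE (m := m / 2) (by omega))
  rcases r_cases (F := F) p hr' with rfl | ⟨rfl, h1, h2⟩ | ⟨h1, h2, h3, h4, h5⟩
  · have h1 : r ≠ 2 := by rintro rfl; exact h0 CharTwo.two_eq_zero
    rw [om_allE_odd hD (by omega) (hr'.odd_of_ne_two h1) fun _ c h => h.smul c]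
    refine iff_of_false (fun H => ?_) (by simp [h1])
    rcases Nat.mod_two_eq_zero_or_one d with h3 | h3
    · have := (quad_unip0 r h0 hD hE (by omega) H (by omega) (by simp [hn, hP])).1
      omega
    · obtain ⟨l, C, hC, i⟩ := cp_quad.compl hE hD (by omega)
      have := quad_unip2 r h0 hD hE i H (a := 1) (b := 1) (k := d / 2) (by simp) (by simp)
        (by omega)
      have := quad_unip2 r h0 hD hE i H (a := 3) (b := 3) (k := d / 2 - 1) (by simp) (by simp)
        (by omega)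
      omega
  · have := Nat.odd_iff.1 hodd
    simp only [quad_two_nd h2 hD hE hn hm' (by omega) hP hQ (by omega), Ex, Nat.even_iff, true_iff,
      true_and, lt_irrefl, false_and, and_false, or_false, Nat.odd_iff]
    omega
  · rw [om_allE_odd hD (by omega) h4 fun _ c h => h.smul c]
    refine quad_nd2 hD hE hr' h3 h5 hn hm' (Or.inl (even_two_mul d)) (P := True)
      (by rwa [Nat.mul_div_cancel_left _ two_pos]) hQ hi.symm hc (by omega) (by omega) hrΩ
      fun h6 Y h7 h8 => ?_
    obtain ⟨b, rfl⟩ := prop_nat Y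
    have h9 := c_facts hc (2 * d)
    have h10 := c_facts hc m
    rcases Nat.mod_two_eq_zero_or_one i with h | h
    · obtain rfl : i = c := by omega
      simp only [Nat.even_iff, Nat.odd_iff, true_iff, false_iff, h1, h2, h3, ne_eq, not_false_iff,
        true_and, false_and, false_or, h, zero_ne_one] at h8 ⊢
      clear hc h1
      omega
    · simp only [Nat.even_iff, Nat.odd_iff, true_iff, false_iff, h1, h2, h3, ne_eq, not_false_iff,
        true_and, false_and, false_or, h, one_ne_zero, true_or, or_false, not_true, and_false,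
        iff_self, implies_true, and_true, imp_false] at h8 ⊢
      omega

end Cfsg.Agent.S5989
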