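import Cfsg.Statements.S5990
import Cfsg.Agent.Lib.Elu.Ch2

set_option autoImplicit false
open scoped MatrixGroups
open Cfsg Module Cfsg.Lib.Forms Cfsg.Lib.Forms.Form Cfsg.Lib.Known Cfsg.Lib.Conj Cfsg.Lib.Elu

namespace Cfsg.Agent.S5990

/-- Elements of prime order of PΩ⁻_n(q) with no fixed elliptic `m`-space. Here `T = PΩ⁻_n(F)`, `n = 2d ≥ 8`, realised through `Ω⁻_n(q)`, the commutator subgroup of the isometry group of `Q = Σ_{i<d−1} xᵢyᵢ + z₁² + a z₁z₂ + b z₂²` with `z₁² + a z₁z₂ + b z₂²` anisotropic, over the field `F` with `q` elements; an element of `T` of prime order `r` is an element `x` of `Ω⁻_n(q)` with `x^r` scalar and `x` not scalar; a nondegenerate `m`-space (even `m`) is a subspace on which the polar form of `Q` is nondegenerate; it is hyperbolic if it contains an `m/2`-dimensional subspace on which `Q` vanishes, elliptic otherwise. Let `m` be even with `2 ≤ m ≤ n − 2` (no restriction `m < n/2`: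 fixing an elliptic `m`-space is the same as fixing its hyperbolic orthogonal complement) and let `r` be a prime dividing the number of elliptic `m`-spaces, with `r = 2` or `r ≠ p`; for `r ≠ p` let `i` be the multiplicative order of `q` modulo `r`, `c = i` for `i` even and `c = 2i` for `i` odd, and write `k = n mod c`, `ℓ = m mod i`, `ℓ' = m mod c`, `n' = ⌊n/i⌋`, `m' = ⌊m/i⌋`, `t = (r−1)/i`. Then every element of `T` of order `r` fixes some elliptic `m`-space if and only if one of: (i) `r = p = 2` and (`n ≡ 0 (mod 4)` or `m ≡ 2 (mod 4)`); (ii) `r = 2 ≠ p` and (`n ≡ 0 (mod 4)`, or `q ≢ 7 (mod 8)`, or `m ≡ 2 (mod 4)`); (iii) `r ≠ p` odd, `i` odd, and `k = 0` or (`c ≤ m` and `k ≥ ℓ' > 0`); (iv) `r ≠ p` odd, `i` even, and either `k = 0` and (`n/i` even, or `ℓ' = 0` and `m/i` odd), or `k > 0`, `i ≤ m` and (`k > ℓ' > 0`, or `ℓ' = 0` and `m/i` odd, or `k = ℓ'` and `(n + m − 2k)/i` even). (Odd `r = p` is not covered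 by this statement.) -/
theorem result {F : Type*} [Field F] [Fintype F] {p : ℕ} [Fact p.Prime] [CharP F p] {q : ℕ} (hq : Fintype.card F = q)
    (d m : ℕ) (hd : 4 ≤ d) (hm : 2 ≤ m) (hme : Even m) (hmn : m + 2 ≤ 2 * d) (a b : F) (hab : ∀ x y : F, x ^ 2 + a * x * y + b * y ^ 2 = 0 → x = 0 ∧ y = 0)
    (r : ℕ) [Fact r.Prime] (hr : r = 2 ∨ r ≠ p)
    (hrΩ : r ∣ Nat.card {W : Submodule F ((Fin (d - 1) ⊕ Fin (d - 1)) ⊕ Fin 2 → F) // Module.finrank F ↥W = m ∧ Cfsg.Geo.IsNondegenerateOn (QuadraticMap.polar (Cfsg.quadFormMinus (d - 1) F a b)) W ∧ ¬ Cfsg.Geo.IsPlusTypeOn (Cfsg.quadFormMinus (d - 1) F a b) W})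
    (i c : ℕ) (hi : i = orderOf (q : ZMod r)) (hc : c = if Even i then i else 2 * i) :
    (∀ x : GL ((Fin (d - 1) ⊕ Fin (d - 1)) ⊕ Fin 2) F, x ∈ Cfsg.Geo.omegaGL (Cfsg.quadFormMinus (d - 1) F a b) →
      (∃ z : F, ((x ^ r : GL ((Fin (d - 1) ⊕ Fin (d - 1)) ⊕ Fin 2) F) : Matrix ((Fin (d - 1) ⊕ Fin (d - 1)) ⊕ Fin 2) ((Fin (d - 1) ⊕ Fin (d - 1)) ⊕ Fin 2) F) = z • (1 : Matrix ((Fin (d - 1) ⊕ Fin (d - 1)) ⊕ Fin 2) ((Fin (d - 1) ⊕ Fin (d - 1)) ⊕ Fin 2) F)) →
      (∀ z : F, (x : Matrix ((Fin (d - 1) ⊕ Fin (d - 1)) ⊕ Fin 2) ((Fin (d - 1) ⊕ Fin (d - 1)) ⊕ Fin 2) F) ≠ z • (1 : Matrix ((Fin (d - 1) ⊕ Fin (d - 1)) ⊕ Fin 2) ((Fin (d - 1) ⊕ Fin (d - 1)) ⊕ Fin 2) F)) →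
      ∃ W : Submodule F ((Fin (d - 1) ⊕ Fin (d - 1)) ⊕ Fin 2 → F), (Module.finrank F ↥W = m ∧ Cfsg.Geo.IsNondegenerateOn (QuadraticMap.polar (Cfsg.quadFormMinus (d - 1) F a b)) W ∧ ¬ Cfsg.Geo.IsPlusTypeOn (Cfsg.quadFormMinus (d - 1) F a b) W) ∧ W.map (Matrix.toLin' (x : Matrix ((Fin (d - 1) ⊕ Fin (d - 1)) ⊕ Fin 2) ((Fin (d - 1) ⊕ Fin (d - 1)) ⊕ Fin 2) F)) ≤ W) ↔
    ((r = 2 ∧ p = 2 ∧ (Even d ∨ m % 4 = 2)) ∨
     (r = 2 ∧ p ≠ 2 ∧ (Even d ∨ q % 8 ≠ 7 ∨ m % 4 = 2)) ∨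
     (r ≠ p ∧ 2 < r ∧ Odd i ∧ ((2 * d) % c = 0 ∨ (c ≤ m ∧ 0 < m % c ∧ m % c ≤ (2 * d) % c))) ∨
     (r ≠ p ∧ 2 < r ∧ Even i ∧
       (((2 * d) % c = 0 ∧ (Even ((2 * d) / i) ∨ (m % c = 0 ∧ Odd (m / i)))) ∨
        (0 < (2 * d) % c ∧ i ≤ m ∧ ((0 < m % c ∧ m % c < (2 * d) % c) ∨ (m % c = 0 ∧ Odd (m / i)) ∨
                                    (m % c = (2 * d) % c ∧ Even ((2 * d + m - 2 * ((2 * d) % c)) / i))))))) := by
  subst hq
  have hr' : r.Prime := Fact.out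
  have hD := fMinus_nondeg (d - 1) hab
  have hn := (finrank_minus (F := F) (d - 1)).trans (show _ = 2 * d by omega)
  have hP := iff_false_intro (fMinus_not_hasTS (d - 1) hab)
  rw [show d - 1 + 1 = d by omega] at hP
  obtain ⟨E, hE, hQ, e⟩ := quad_model (fMinus (d - 1) a b) (by omega) hme False
  simp only [iff_false] at e
  have hm' : finrank F (Fin m → F) = m := by simp
  simp only [← fMinus_Q, e, map_le_iff_inv, ← Nat.card_eq_fintype_card] at hrΩ hi ⊢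
  refine (om_iff (P := (NDI (fMinus (d - 1) a b) · E)) rfl
    (ndi_scalar (cp_quad.sub hE hD (by omega)))).trans ?_
  have := Nat.even_iff.1 hme
  rcases r_cases (F := F) p hr' with rfl | ⟨rfl, h1, h2⟩ | ⟨h1, h2, h3, h4, h5⟩
  · obtain rfl : r = 2 := by tauto
    rw [quad_ch2_nd CharTwo.two_eq_zero hD hE hn (e := m / 2) (by omega) (by omega) (by omega)
      (by omega) hP hQ]
    simp only [Nat.even_iff, Nat.odd_iff, false_iff, true_and, lt_irrefl, false_and, and_false,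
      or_false, imp_self, ne_eq, not_true]
    omega
  · have := Nat.odd_iff.1 (odd_card_iff.2 h2)
    simp only [quad_two_nd h2 hD hE hn hm' (by omega) hP hQ (fun _ => ⟨hme, not_false⟩), Ex,
      Nat.even_iff, false_iff, true_and, lt_irrefl, false_and, and_false, or_false, h1, ne_eq,
      not_false_iff, false_or]
    omega
  · rw [om_allE_odd hD (by omega) h4 fun _ c h => h.smul c]
    refine quad_nd2 hD hE hr' h3 h5 hn hm' (Or.inr hme) (P := False)
      (by rwa [Nat.mul_div_cancel_left _ two_pos]) hQ hi.symm hc (by omega) (by omega) hrΩ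
      fun h6 Y h7 h8 => ?_
    obtain ⟨b, rfl⟩ := prop_nat Y
    have h9 := c_facts hc (2 * d)
    have h10 := c_facts hc m
    have h11 := fun h => div_add_of_mod (n := 2 * d) (m := m) h h6
    rcases Nat.mod_two_eq_zero_or_one i with h | h
    · obtain rfl : i = c := by omega
      simp only [Nat.even_iff, Nat.odd_iff, false_iff, h1, h2, h3, ne_eq, not_false_iff, true_and,
        false_and, false_or, h, zero_ne_one] at h8 ⊢
      clear hc h1 hr
      omega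
    · simp only [Nat.even_iff, Nat.odd_iff, false_iff, h1, h2, h3, ne_eq, not_false_iff, true_and,
        false_and, false_or, h, one_ne_zero, true_or, or_false, not_true, and_false, iff_self,
        implies_true, and_true, iff_true, imp_false] at h8 ⊢
      omega

end Cfsg.Agent.S5990
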