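import Cfsg.Statements.S5991
import Cfsg.Agent.Lib.Elu.Unp

set_option autoImplicit false
open scoped MatrixGroups
open Cfsg Module Cfsg.Lib.Forms Cfsg.Lib.Forms.Form Cfsg.Lib.Known Cfsg.Lib.Conj Cfsg.Lib.Elu

namespace Cfsg.Agent.S5991

/-- Elements of prime order of PΩ⁻_n(q), q odd, with no fixed nondegenerate `m`-space of odd dimension. Here `T = PΩ⁻_n(F)`, `n = 2d ≥ 8`, realised through `Ω⁻_n(q)`, the commutator subgroup of the isometry group of `Q = Σ_{i<d−1} xᵢyᵢ + z₁² + a z₁z₂ + b z₂²` with `z₁² + a z₁z₂ + b z₂²` anisotropic, over the field `F` with `q` elements; an element of `T` of prime order `r` is an element `x` of `Ω⁻_n(q)` with `x^r` scalar and `x` not scalar; `q` and `m` are odd, `1 ≤ m < n/2`. The nondegenerate `m`-spaces fall into two isometry classes, each an orbit of `T`, with equivalent actions; fix one such space `W₀` and let Ω be the set of nondegenerate `m`-spaces isometric to `W₀`. Let `r` be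 a prime dividing the size of Ω; for `r ≠ p` let `i` be the multiplicative order of `q` modulo `r`, `c = i` for `i` even and `c = 2i` for `i` odd, and write `k = n mod c`, `ℓ = m mod i`, `ℓ' = m mod c`, `n' = ⌊n/i⌋`, `m' = ⌊m/i⌋`, `t = (r−1)/i`. Then every element of `T` of order `r` fixes a member of Ω if and only if one of: (i) `r = 2` and (`n ≡ 0 (mod 4)` or `q ≢ 7 (mod 8)`); (ii) `r ≠ p` odd, `i` odd, and `k = 0` or (`c ≤ m` and `k > ℓ' > 0`); (iii) `r ≠ p` odd, `i` even, and either `k = 0` and `n/i` even, or `k > 0`, `i ≤ m` and `k > ℓ' > 0`. (For `r = p` there is always an element of order `p` fixing no member of Ω.) -/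
theorem result {F : Type*} [Field F] [Fintype F] {p : ℕ} [Fact p.Prime] [CharP F p] {q : ℕ} (hq : Fintype.card F = q)
    (hodd : Odd q) (d m : ℕ) (hd : 4 ≤ d) (hm : Odd m) (hmd : m < d) (a b : F) (hab : ∀ x y : F, x ^ 2 + a * x * y + b * y ^ 2 = 0 → x = 0 ∧ y = 0)
    (W₀ : Submodule F ((Fin (d - 1) ⊕ Fin (d - 1)) ⊕ Fin 2 → F)) (hW₀ : Module.finrank F ↥W₀ = m ∧ Cfsg.Geo.IsNondegenerateOn (QuadraticMap.polar (Cfsg.quadFormMinus (d - 1) F a b)) W₀)
    (r : ℕ) [Fact r.Prime]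
    (hrΩ : r ∣ Nat.card {W : Submodule F ((Fin (d - 1) ⊕ Fin (d - 1)) ⊕ Fin 2 → F) // Module.finrank F ↥W = m ∧ Cfsg.Geo.IsNondegenerateOn (QuadraticMap.polar (Cfsg.quadFormMinus (d - 1) F a b)) W ∧ Cfsg.Geo.AreIsometricFor (Cfsg.quadFormMinus (d - 1) F a b) W W₀})
    (i c : ℕ) (hi : i = orderOf (q : ZMod r)) (hc : c = if Even i then i else 2 * i) :
    (∀ x : GL ((Fin (d - 1) ⊕ Fin (d - 1)) ⊕ Fin 2) F, x ∈ Cfsg.Geo.omegaGL (Cfsg.quadFormMinus (d - 1) F a b) →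
      (∃ z : F, ((x ^ r : GL ((Fin (d - 1) ⊕ Fin (d - 1)) ⊕ Fin 2) F) : Matrix ((Fin (d - 1) ⊕ Fin (d - 1)) ⊕ Fin 2) ((Fin (d - 1) ⊕ Fin (d - 1)) ⊕ Fin 2) F) = z • (1 : Matrix ((Fin (d - 1) ⊕ Fin (d - 1)) ⊕ Fin 2) ((Fin (d - 1) ⊕ Fin (d - 1)) ⊕ Fin 2) F)) →
      (∀ z : F, (x : Matrix ((Fin (d - 1) ⊕ Fin (d - 1)) ⊕ Fin 2) ((Fin (d - 1) ⊕ Fin (d - 1)) ⊕ Fin 2) F) ≠ z • (1 : Matrix ((Fin (d - 1) ⊕ Fin (d - 1)) ⊕ Fin 2) ((Fin (d - 1) ⊕ Fin (d - 1)) ⊕ Fin 2) F)) →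
      ∃ W : Submodule F ((Fin (d - 1) ⊕ Fin (d - 1)) ⊕ Fin 2 → F), (Module.finrank F ↥W = m ∧ Cfsg.Geo.IsNondegenerateOn (QuadraticMap.polar (Cfsg.quadFormMinus (d - 1) F a b)) W ∧ Cfsg.Geo.AreIsometricFor (Cfsg.quadFormMinus (d - 1) F a b) W W₀) ∧ W.map (Matrix.toLin' (x : Matrix ((Fin (d - 1) ⊕ Fin (d - 1)) ⊕ Fin 2) ((Fin (d - 1) ⊕ Fin (d - 1)) ⊕ Fin 2) F)) ≤ W) ↔
    ((r = 2 ∧ (Even d ∨ q % 8 ≠ 7)) ∨
     (r ≠ p ∧ 2 < r ∧ Odd i ∧ ((2 * d) % c = 0 ∨ (c ≤ m ∧ 0 < m % c ∧ m % c < (2 * d) % c))) ∨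
     (r ≠ p ∧ 2 < r ∧ Even i ∧ (((2 * d) % c = 0 ∧ Even ((2 * d) / i)) ∨ (0 < (2 * d) % c ∧ i ≤ m ∧ 0 < m % c ∧ m % c < (2 * d) % c)))) := by
  have h0 := two_ne_zero_of_odd_card hq hodd
  subst hq
  have hr' : r.Prime := Fact.out
  have hD := fMinus_nondeg (d - 1) hab
  have hn := (finrank_minus (F := F) (d - 1)).trans (show _ = 2 * d by omega)
  have hP := iff_false_intro (fMinus_not_hasTS (d - 1) hab)
  rw [show d - 1 + 1 = d by omega] at hP
  rw [← fMinus_Q] at hW₀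
  have hE := (nondegOn_iff _ _).1 hW₀.2
  have hm' := hW₀.1
  simp only [← fMinus_Q, quad_model_iso _ hW₀, map_le_iff_inv, ← Nat.card_eq_fintype_card]
    at hrΩ hi hodd ⊢
  refine (om_iff (P := (NDI (fMinus (d - 1) a b) · ((fMinus (d - 1) a b).restrict W₀))) rfl
    (ndi_scalar ⟨_, Iso.refl _⟩)).trans ?_
  have := Nat.odd_iff.1 hm
  have hQ := iff_true_intro (Quad.hasTS_pred hE (m := m / 2) (by omega))
  rcases r_cases (F := F) p hr' with rfl | ⟨rfl, h1, h2⟩ | ⟨h1, h2, h3, h4, h5⟩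
  · have h1 : r ≠ 2 := by rintro rfl; exact h0 CharTwo.two_eq_zero
    rw [om_allE_odd hD (by omega) (hr'.odd_of_ne_two h1) fun _ c h => h.smul c]
    refine iff_of_false (fun H => ?_) (by simp [h1])
    rcases Nat.mod_two_eq_zero_or_one d with h3 | h3
    · exact quad_unip31 r h0 hD hE (by omega) (by omega) (by omega) H
    · obtain ⟨l, C, hC, i⟩ := cp_quad.compl hE hD (by omega)
      have := quad_unip2 r h0 hD hE i H (a := 1) (b := 1) (k := d / 2) (by simp) (by simp)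
        (by omega)
      have := quad_unip2 r h0 hD hE i H (a := 3) (b := 3) (k := d / 2 - 1) (by simp) (by simp)
        (by omega)
      omega
  · have := Nat.odd_iff.1 hodd
    simp only [quad_two_nd h2 hD hE hn hm' (by omega) hP hQ (by omega), Ex, Nat.even_iff, true_iff,
      true_and, lt_irrefl, false_and, and_false, or_false, Nat.odd_iff, false_iff]
    omega
  · rw [om_allE_odd hD (by omega) h4 fun _ c h => h.smul c]
    refine quad_nd2 hD hE hr' h3 h5 hn hm' (Or.inl (even_two_mul d)) (P := False)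
      (by rwa [Nat.mul_div_cancel_left _ two_pos]) hQ hi.symm hc (by omega) (by omega) hrΩ
      fun h6 Y h7 h8 => ?_
    obtain ⟨b, rfl⟩ := prop_nat Y
    have h9 := c_facts hc (2 * d)
    have h10 := c_facts hc m
    rcases Nat.mod_two_eq_zero_or_one i with h | h
    · obtain rfl : i = c := by omega
      simp only [Nat.even_iff, Nat.odd_iff, true_iff, false_iff, h1, h2, h3, ne_eq, not_false_iff,
        true_and, false_and, false_or, h, zero_ne_one] at h8 ⊢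
      clear hc h1
      omega
    · simp only [Nat.even_iff, Nat.odd_iff, true_iff, false_iff, h1, h2, h3, ne_eq, not_false_iff,
        true_and, false_and, false_or, h, one_ne_zero, true_or, or_false, not_true, and_false,
        iff_self, implies_true, and_true, imp_false, iff_true] at h8 ⊢
      omega

end Cfsg.Agent.S5991
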