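import Cfsg.Statements.S5993
import Cfsg.Agent.Lib.Elu.Unp

set_option autoImplicit false
open scoped MatrixGroups
open Cfsg Module Cfsg.Lib.Forms Cfsg.Lib.Forms.Form Cfsg.Lib.Known Cfsg.Lib.Conj Cfsg.Lib.Elu

namespace Cfsg.Agent.S5993

/-- Elements of prime order of Ω_n(q), nq odd, with no fixed elliptic `m`-space. Here `T = Ω_n(F)`, `n = 2d+1 ≥ 7`, `q` odd, realised as the commutator subgroup of the isometry group of `Q = x₀² + Σ xᵢyᵢ` over the field `F` with `q` elements (trivial centre, so its elements of prime order `r` are used directly); a nondegenerate `m`-space (even `m`) is a subspace on which the polar form of `Q` is nondegenerate; it is hyperbolic if it contains an `m/2`-dimensional subspace on which `Q` vanishes, elliptic otherwise. Let `m` be even with `2 ≤ m ≤ n − 1` (no restriction `m < n/2`) and let `r` be a prime dividing the number of elliptic `m`-spaces; for `r ≠ p` let `i` be the multiplicative order of `q` modulo `r`, `c = i` for `i` even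 and `c = 2i` for `i` odd, and write `k = n mod c`, `ℓ' = m mod c`. Then every element of `T` of order `r` fixes some elliptic `m`-space if and only if `r = 2`, or `r ≠ p` is odd and one of: (i) `i` odd, `c ≤ m` and `k > ℓ' > 0`; (ii) `i` even, `i ≤ m`, `k > ℓ'`, and `m/i` odd whenever `ℓ' = 0`. (For `r = p` there is always an element of order `p` fixing no elliptic `m`-space.) -/
theorem result {F : Type*} [Field F] [Fintype F] {p : ℕ} [Fact p.Prime] [CharP F p] {q : ℕ} (hq : Fintype.card F = q) (hqodd : Odd q)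
    (d m : ℕ) (hd : 3 ≤ d) (hm : 2 ≤ m) (hme : Even m) (hmn : m ≤ 2 * d)
    (r : ℕ) [Fact r.Prime]
    (hrΩ : r ∣ Nat.card {W : Submodule F (Unit ⊕ (Fin d ⊕ Fin d) → F) // Module.finrank F ↥W = m ∧ Cfsg.Geo.IsNondegenerateOn (QuadraticMap.polar (Cfsg.quadFormOdd d F)) W ∧ ¬ Cfsg.Geo.IsPlusTypeOn (Cfsg.quadFormOdd d F) W})
    (i c : ℕ) (hi : i = orderOf (q : ZMod r)) (hc : c = if Even i then i else 2 * i) :
    (∀ x : GL (Unit ⊕ (Fin d ⊕ Fin d)) F, x ∈ Cfsg.Geo.omegaGL (Cfsg.quadFormOdd d F) → orderOf x = r →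
      ∃ W : Submodule F (Unit ⊕ (Fin d ⊕ Fin d) → F), (Module.finrank F ↥W = m ∧ Cfsg.Geo.IsNondegenerateOn (QuadraticMap.polar (Cfsg.quadFormOdd d F)) W ∧ ¬ Cfsg.Geo.IsPlusTypeOn (Cfsg.quadFormOdd d F) W) ∧ W.map (Matrix.toLin' (x : Matrix (Unit ⊕ (Fin d ⊕ Fin d)) (Unit ⊕ (Fin d ⊕ Fin d)) F)) ≤ W) ↔
    (r = 2 ∨
     (r ≠ p ∧ 2 < r ∧ Odd i ∧ c ≤ m ∧ 0 < m % c ∧ m % c < (2 * d + 1) % c) ∨
     (r ≠ p ∧ 2 < r ∧ Even i ∧ i ≤ m ∧ m % c < (2 * d + 1) % c ∧ (0 < m % c ∨ Odd (m / i)))) := by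
  have h0 := two_ne_zero_of_odd_card hq hqodd
  subst hq
  have hr : r.Prime := Fact.out
  have hD := fOdd_nondeg h0 d
  have hn := finrank_odd (F := F) d
  obtain ⟨E, hE, hQ, e⟩ := quad_model (fOdd F d) (by omega) hme False
  simp only [iff_false] at e
  have hm' : finrank F (Fin m → F) = m := by simp
  simp only [← fOdd_Q, e, map_le_iff_inv, ← Nat.card_eq_fintype_card] at hrΩ hi ⊢
  refine (om_ord_iff (P := (NDI (fOdd F d) · E)) rfl hr
    (ndi_one (cp_quad.sub hE hD (by omega)))).trans ?_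
  have := Nat.even_iff.1 hme
  rcases r_cases (F := F) p hr with rfl | ⟨rfl, h1, h2⟩ | ⟨h1, h2, h3, h4, h5⟩
  · have h1 : r ≠ 2 := by rintro rfl; exact h0 CharTwo.two_eq_zero
    rw [om_all_odd hD (by omega) (hr.odd_of_ne_two h1)]
    refine iff_of_false (fun H => hQ.1 ?_) (by simp [h1])
    have := (quad_unip1 r h0 hD hE (by omega) H (by omega) (by omega)).2
    rwa [hm'] at this
  · exact iff_of_true (fun y hy h => ndi_inv' cp_quad h2 hD hE hy.isIsometry h (by omega)
      (by omega)) (Or.inl rfl)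
  · rw [om_all_odd hD (by omega) h4, quad_nd hD hE hr h3 h5 hn hm' (Or.inr hme)
      (iff_true_intro (Quad.hasTS_pred hD (by omega))) hQ hi.symm hc (by omega) (by omega) hrΩ]
    have := c_facts hc (2 * d + 1)
    have := c_facts hc m
    simp only [Nat.even_iff, Nat.odd_iff, true_iff, false_iff, h1, h2, h3, ne_eq, not_false_iff,
      true_and, false_or]
    clear hc h1
    omega

end Cfsg.Agent.S5993
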