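import Cfsg.Statements.S5994
import Cfsg.Agent.Lib.Elu.Unp

set_option autoImplicit false
open scoped MatrixGroups
open Cfsg Module Cfsg.Lib.Forms Cfsg.Lib.Forms.Form Cfsg.Lib.Known Cfsg.Lib.Conj Cfsg.Lib.Elu

namespace Cfsg.Agent.S5994

/-- A necessary condition for every element of order p of PΩ⁻_n(q), q odd, to fix an elliptic `m`-space. Here `T = PΩ⁻_n(F)`, `n = 2d ≥ 8`, realised through `Ω⁻_n(q)`, the commutator subgroup of the isometry group of `Q = Σ_{i<d−1} xᵢyᵢ + z₁² + a z₁z₂ + b z₂²` with `z₁² + a z₁z₂ + b z₂²` anisotropic, over the field `F` with `q` elements; an element of `T` of prime order `r` is an element `x` of `Ω⁻_n(q)` with `x^r` scalar and `x` not scalar; `q` is odd; a nondegenerate `m`-space (even `m`) is a subspace on which the polar form of `Q` is nondegenerate; it is hyperbolic if it contains an `m/2`-dimensional subspace on which `Q` vanishes, elliptic otherwise. Let `m` be even with `2 ≤ m ≤ n − 2`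 and suppose `p` divides the number of elliptic `m`-spaces. If every element of `T` of order `p` fixes some elliptic `m`-space, then `n ≡ m (mod 4)` and every partition of `n` into parts of size at most `p` in which every even part has even multiplicity contains (as a sub-multiset) a partition of `m` in which every even part has even multiplicity. -/
theorem result {F : Type*} [Field F] [Fintype F] {p : ℕ} [Fact p.Prime] [CharP F p] {q : ℕ} (hq : Fintype.card F = q) (hqodd : Odd q)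
    (d m : ℕ) (hd : 4 ≤ d) (hm : 2 ≤ m) (hme : Even m) (hmn : m + 2 ≤ 2 * d) (a b : F) (hab : ∀ x y : F, x ^ 2 + a * x * y + b * y ^ 2 = 0 → x = 0 ∧ y = 0)
    (hpΩ : p ∣ Nat.card {W : Submodule F ((Fin (d - 1) ⊕ Fin (d - 1)) ⊕ Fin 2 → F) // Module.finrank F ↥W = m ∧ Cfsg.Geo.IsNondegenerateOn (QuadraticMap.polar (Cfsg.quadFormMinus (d - 1) F a b)) W ∧ ¬ Cfsg.Geo.IsPlusTypeOn (Cfsg.quadFormMinus (d - 1) F a b) W}) :
    (∀ x : GL ((Fin (d - 1) ⊕ Fin (d - 1)) ⊕ Fin 2) F, x ∈ Cfsg.Geo.omegaGL (Cfsg.quadFormMinus (d - 1) F a b) →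
      (∃ z : F, ((x ^ p : GL ((Fin (d - 1) ⊕ Fin (d - 1)) ⊕ Fin 2) F) : Matrix ((Fin (d - 1) ⊕ Fin (d - 1)) ⊕ Fin 2) ((Fin (d - 1) ⊕ Fin (d - 1)) ⊕ Fin 2) F) = z • (1 : Matrix ((Fin (d - 1) ⊕ Fin (d - 1)) ⊕ Fin 2) ((Fin (d - 1) ⊕ Fin (d - 1)) ⊕ Fin 2) F)) →
      (∀ z : F, (x : Matrix ((Fin (d - 1) ⊕ Fin (d - 1)) ⊕ Fin 2) ((Fin (d - 1) ⊕ Fin (d - 1)) ⊕ Fin 2) F) ≠ z • (1 : Matrix ((Fin (d - 1) ⊕ Fin (d - 1)) ⊕ Fin 2) ((Fin (d - 1) ⊕ Fin (d - 1)) ⊕ Fin 2) F)) →
      ∃ W : Submodule F ((Fin (d - 1) ⊕ Fin (d - 1)) ⊕ Fin 2 → F), (Module.finrank F ↥W = m ∧ Cfsg.Geo.IsNondegenerateOn (QuadraticMap.polar (Cfsg.quadFormMinus (d - 1) F a b)) W ∧ ¬ Cfsg.Geo.IsPlusTypeOn (Cfsg.quadFormMinus (d - 1) F a b) W) ∧ W.map (Matrix.toLin' (x : Matrix ((Fin (d - 1) ⊕ Fin (d - 1)) ⊕ Fin 2) ((Fin (d - 1) ⊕ Fin (d - 1)) ⊕ Fin 2) F)) ≤ W) →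
    ((2 * d) % 4 = m % 4 ∧ (∀ μ : Multiset ℕ, (∀ e ∈ μ, 0 < e ∧ e ≤ p) → (∀ e : ℕ, Even e → Even (μ.count e)) → μ.sum = 2 * d →
        ∃ ν : Multiset ℕ, ν ≤ μ ∧ ν.sum = m ∧ ∀ e : ℕ, Even e → Even (ν.count e))) := by
  have h0 := two_ne_zero_of_odd_card hq hqodd
  have hr : p.Prime := Fact.out
  have hD := fMinus_nondeg (d - 1) hab
  have hn := (finrank_minus (F := F) (d - 1)).trans (show _ = 2 * d by omega)
  obtain ⟨E, hE, hQ, e⟩ := quad_model (fMinus (d - 1) a b) (by omega) hme False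
  simp only [iff_false] at e
  have hm' : finrank F (Fin m → F) = m := by simp
  simp only [← fMinus_Q, e, map_le_iff_inv]
  intro H
  have h1 : p ≠ 2 := by rintro rfl; exact h0 CharTwo.two_eq_zero
  have ho := hr.odd_of_ne_two h1
  have H' := (om_allE_odd hD (by omega) ho fun _ c h => h.smul c).1
    ((om_iff (P := (NDI (fMinus (d - 1) a b) · E)) rfl
      (ndi_scalar (cp_quad.sub hE hD (by omega)))).1 H)
  have := Nat.even_iff.1 hme
  refine ⟨?_, fun μ h2 h3 h4 => ?_⟩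
  · obtain ⟨l, C, hC, i⟩ := cp_quad.compl hE hD (by omega)
    have := quad_unip2 p h0 hD hE i H' (a := 1) (b := 3 - 2 * d % 4) (k := (d - 1) / 2)
      (by simp) (by omega) (by omega)
    simp only [hm', hQ, and_false, false_or] at this
    omega
  by_cases h : ∃ j ∈ μ, Odd j
  · exact hm' ▸ quad_nec p h0 hD hE (by omega) H' h2 h3 (h4.trans hn.symm) (Or.inl h)
  obtain ⟨j, hj⟩ := Multiset.exists_mem_of_ne_zero (s := μ) (by rintro rfl; simp at h4; omega)
  have h5 : ∀ j ∈ μ, Even j := fun j hj => Nat.not_odd_iff_even.1 fun e => h ⟨j, hj, e⟩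
  obtain ⟨s, rfl⟩ := Ev.exists_add h3 hj (h5 j hj)
  have h6 := h2 j hj
  have h7 := Nat.even_iff.1 (h5 j hj)
  have h8 := Nat.odd_iff.1 ho
  have h9 : Ev Even s := Ev.of_add h3 ev_self
  have h10 : Ev Even {j + 1, j - 1} := fun a ha => by
    have := Nat.even_iff.1 ha
    rw [Multiset.count_eq_zero.2 (by simp; omega)]; exact Even.zero
  obtain ⟨ν, h11, h12, h13⟩ := quad_nec p h0 hD hE (by omega) H' (t := {j + 1, j - 1} + s)
    (fun a ha => (Multiset.mem_add.1 ha).elim (fun h => by simp at h; omega)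
      fun h => h2 a (by simp [h]))
    (fun a ha => by rw [Multiset.count_add]; exact (h10 a ha).add (h9 a ha))
    (by simp at h4 ⊢; omega) (Or.inl ⟨j + 1, by simp, Nat.odd_iff.2 (by omega)⟩)
  obtain ⟨u, v, h14, h15, rfl⟩ := le_add_split h11
  obtain ⟨w, h16⟩ := Multiset.le_iff_exists_add.1 h14
  have h17 : Ev Even v := h13.of_add fun a ha => by
    have := Nat.even_iff.1 ha
    rw [Multiset.count_eq_zero.2 fun h => by have := Multiset.mem_of_le h14 h; simp at this; omega]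
    exact Even.zero
  have h18 : 2 ∣ v.sum := Multiset.dvd_sum fun a ha =>
    (h5 a (by simp [Multiset.mem_of_le h15 ha])).two_dvd
  rw [Multiset.sum_add, hm'] at h12
  rcases pair_split h16 with rfl | rfl | rfl | rfl
  · exact ⟨v, h15.trans (Multiset.le_add_left _ _), by simpa using h12, h17⟩
  · refine ⟨{j} + {j} + v, by simpa using h15, by simp [← add_zero u ▸ h16] at h12 ⊢; omega,
      fun a ha => ?_⟩
    rw [Multiset.count_add]; exact (ev_self a ha).add (h17 a ha)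
  · simp at h12; omega
  · simp at h12; omega

end Cfsg.Agent.S5994
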