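import Cfsg.Statements.S5995
import Cfsg.Agent.Lib.Elu.Unp

set_option autoImplicit false
open scoped MatrixGroups
open Cfsg Module Cfsg.Lib.Forms Cfsg.Lib.Forms.Form Cfsg.Lib.Known Cfsg.Lib.Conj Cfsg.Lib.Elu

namespace Cfsg.Agent.S5995

/-- A necessary condition for every element of order p of Ω_n(q), nq odd, to fix a hyperbolic `m`-space. Here `T = Ω_n(F)`, `n = 2d+1 ≥ 7`, `q` odd, realised as the commutator subgroup of the isometry group of `Q = x₀² + Σ xᵢyᵢ` over the field `F` with `q` elements (trivial centre, so its elements of prime order `r` are used directly); a nondegenerate `m`-space (even `m`) is a subspace on which the polar form of `Q` is nondegenerate; it is hyperbolic if it contains an `m/2`-dimensional subspace on which `Q` vanishes, elliptic otherwise. Let `m` be even with `2 ≤ m ≤ n − 1` and suppose `p` divides the number of hyperbolic `m`-spaces. If every element of `T` of order `p` fixes some hyperbolic `m`-space, then `m ≡ 0 (mod 4)` and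 every partition of `n` into parts of size at most `p` in which every even part has even multiplicity contains (as a sub-multiset) a partition of `m` in which every even part has even multiplicity. -/
theorem result {F : Type*} [Field F] [Fintype F] {p : ℕ} [Fact p.Prime] [CharP F p] {q : ℕ} (hq : Fintype.card F = q) (hqodd : Odd q)
    (d m : ℕ) (hd : 3 ≤ d) (hm : 2 ≤ m) (hme : Even m) (hmn : m ≤ 2 * d)
    (hpΩ : p ∣ Nat.card {W : Submodule F (Unit ⊕ (Fin d ⊕ Fin d) → F) // Module.finrank F ↥W = m ∧ Cfsg.Geo.IsNondegenerateOn (QuadraticMap.polar (Cfsg.quadFormOdd d F)) W ∧ Cfsg.Geo.IsPlusTypeOn (Cfsg.quadFormOdd d F) W}) :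
    (∀ x : GL (Unit ⊕ (Fin d ⊕ Fin d)) F, x ∈ Cfsg.Geo.omegaGL (Cfsg.quadFormOdd d F) → orderOf x = p →
      ∃ W : Submodule F (Unit ⊕ (Fin d ⊕ Fin d) → F), (Module.finrank F ↥W = m ∧ Cfsg.Geo.IsNondegenerateOn (QuadraticMap.polar (Cfsg.quadFormOdd d F)) W ∧ Cfsg.Geo.IsPlusTypeOn (Cfsg.quadFormOdd d F) W) ∧ W.map (Matrix.toLin' (x : Matrix (Unit ⊕ (Fin d ⊕ Fin d)) (Unit ⊕ (Fin d ⊕ Fin d)) F)) ≤ W) →
    (m % 4 = 0 ∧ (∀ μ : Multiset ℕ, (∀ e ∈ μ, 0 < e ∧ e ≤ p) → (∀ e : ℕ, Even e → Even (μ.count e)) → μ.sum = 2 * d + 1 →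
        ∃ ν : Multiset ℕ, ν ≤ μ ∧ ν.sum = m ∧ ∀ e : ℕ, Even e → Even (ν.count e))) := by
  have h0 := two_ne_zero_of_odd_card hq hqodd
  have hr : p.Prime := Fact.out
  have hD := fOdd_nondeg h0 d
  have hn := finrank_odd (F := F) d
  obtain ⟨E, hE, hQ, e⟩ := quad_model (fOdd F d) (by omega) hme True
  simp only [iff_true] at e
  have hm' : finrank F (Fin m → F) = m := by simp
  simp only [← fOdd_Q, e, map_le_iff_inv]
  intro H
  have h1 : p ≠ 2 := by rintro rfl; exact h0 CharTwo.two_eq_zero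
  have H' := (om_all_odd hD (by omega) (hr.odd_of_ne_two h1)).1
    ((om_ord_iff (P := (NDI (fOdd F d) · E)) rfl hr (ndi_one (cp_quad.sub hE hD (by omega)))).1 H)
  have := Nat.even_iff.1 hme
  refine ⟨hm' ▸ (quad_unip1 p h0 hD hE (by omega) H' (by omega) (by omega)).1, fun μ h2 h3 h4 => ?_⟩
  refine hm' ▸ quad_nec p h0 hD hE (by omega) H' h2 h3 (h4.trans hn.symm) (Or.inl ?_)
  by_contra h
  have : 2 ∣ μ.sum := Multiset.dvd_sum fun a ha =>
    (Nat.not_odd_iff_even.1 fun e => h ⟨a, ha, e⟩).two_dvd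
  omega

end Cfsg.Agent.S5995
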