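import Cfsg.Statements.S5998
import Cfsg.Agent.Lib.Elu.C6d

set_option autoImplicit false
open scoped MatrixGroups
open Cfsg Module Cfsg.Lib.Forms Cfsg.Lib.Forms.Form Cfsg.Lib.Known Cfsg.Lib.Conj Cfsg.Lib.Elu

namespace Cfsg.Agent.S5998

/-- Elements of prime order of PSL_3(p), p ≡ 1 (mod 3), and the normalizer of an extraspecial subgroup of order 27. Here `T = PSL_3(F)` for the field `F` with `p` elements, `p` a prime with `p ≡ 1 (mod 3)`; `R` is a non-abelian subgroup of GL_3(F) of order 27 and exponent 3 (an extraspecial group 3^{1+2}, acting absolutely irreducibly), and `H` is the subgroup of matrices of determinant 1 normalizing `R` — a subgroup of type 3^{1+2}.Sp₂(3) (maximality is not assumed). Ω is the set of cosets of `H` in `T`, so an element of `T` of prime order `r` (a matrix `x` of determinant 1 with `x^r` scalar, `x` not scalar) fixes a point of Ω exactly when some conjugate of `x` by a matrix of determinant 1 normalizes `R`. Let `r` be a prime dividing the index of `H`. Then every element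 of `T` of order `r` fixes a point of Ω if and only if `r = 2`, or `r = 3` and `p ≡ 1 (mod 9)`. -/
theorem result {F : Type*} [Field F] [Fintype F] {p : ℕ} [Fact p.Prime] [CharP F p] (hF : Fintype.card F = p) (hp3 : p % 3 = 1)
    (R : Subgroup (GL (Fin 3) F)) (hR : Nat.card R = 27) (hRe : Monoid.exponent R = 3) (hRna : ¬ IsMulCommutative R)
    (r : ℕ) [Fact r.Prime]
    (hΩ : r ∣ (Cfsg.Geo.subgroupNormalizer R).relIndex (Cfsg.Geo.specialLinear (Fin 3) F)) :
    (∀ x ∈ Cfsg.Geo.specialLinear (Fin 3) F, (∃ z : F, ((x ^ r : GL (Fin 3) F) : Matrix (Fin 3) (Fin 3) F) = z • (1 : Matrix (Fin 3) (Fin 3) F)) →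
      (∀ z : F, (x : Matrix (Fin 3) (Fin 3) F) ≠ z • (1 : Matrix (Fin 3) (Fin 3) F)) →
      ∃ g ∈ Cfsg.Geo.specialLinear (Fin 3) F, g⁻¹ * x * g ∈ Cfsg.Geo.subgroupNormalizer R) ↔ (r = 2 ∨ (r = 3 ∧ p % 9 = 1)) := by
  have hF' := Nat.card_eq_fintype_card.trans hF
  have h3 : (3 : F) ≠ 0 := cast_ne_zero p Nat.prime_three (by grind)
  have h1 : io 3 F = 1 := io_eq_one_iff.2 (by omega)
  have hi := rep_injective R
  rw [glc_iff (inM_nr R) sc_nr]
  refine lin_three hi hR hRe hRna (by simp) h3 h1 (cast_ne_zero p Nat.prime_two (by grind)) Fact.out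
    (fun e => mod_nine_lin hp3 ?_) (exists_sl_order Fact.out hΩ)
  have := mul_dvd_card Subgroup.le_normalizer (fun g hg => Units.ext ((LinearMap.det_toLin' _).symm.trans
    (det_27 hi hR hRe hRna (by simp) h3 h1 ⟨g, hg⟩))) hΩ
  rw [e, hR, ← range_toGL, ← Nat.card_congr (MonoidHom.ofInjective
    Matrix.SpecialLinearGroup.toGL_injective).toEquiv, card_SL' (n := 2) (by simp), hF'] at this
  simpa [Finset.prod_range_succ] using this

end Cfsg.Agent.S5998
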