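import Cfsg.Statements.S5999
import Cfsg.Agent.Lib.Elu.C6d

set_option autoImplicit false
open scoped MatrixGroups
open Cfsg Module Cfsg.Lib.Forms Cfsg.Lib.Forms.Form Cfsg.Lib.Known Cfsg.Lib.Conj Cfsg.Lib.Elu

namespace Cfsg.Agent.S5999

/-- Elements of prime order of PSU_3(p), p ≡ 2 (mod 3), and the normalizer of an extraspecial subgroup of order 27. Here `T = PSU_3(p)` for a prime `p ≥ 5` with `p ≡ 2 (mod 3)`, realised through `SU_3(p)`, the matrices of determinant 1 over the field `F` with `p²` elements preserving the hermitian form `Σ uᵢvᵢ^p`; `R` is a non-abelian subgroup of order 27 and exponent 3 of the full unitary group of that form (an extraspecial group 3^{1+2}, acting absolutely irreducibly), and `H` is the subgroup of `SU_3(p)` normalizing `R` — a subgroup of type 3^{1+2}.Sp₂(3) (maximality is not assumed). Ω is the set of cosets of `H`, so an element of `T` of prime order `r` (`x ∈ SU_3(p)` with `x^r` scalar, `x` not scalar) fixes a point of Ω exactly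 when some `SU_3(p)`-conjugate of `x` normalizes `R`. Let `r` be a prime dividing the index of `H`. Then every element of `T` of order `r` fixes a point of Ω if and only if `r = 2`, or `r = 3` and `p ≡ 8 (mod 9)`. -/
theorem result {F : Type*} [Field F] [Fintype F] {p : ℕ} [Fact p.Prime] [CharP F p] (hF : Fintype.card F = p ^ 2) (hp : 5 ≤ p) (hp3 : p % 3 = 2)
    (R : Subgroup (GL (Fin 3) F)) (hRU : R ≤ Cfsg.GU 3 F p) (hR : Nat.card R = 27) (hRe : Monoid.exponent R = 3) (hRna : ¬ IsMulCommutative R)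
    (r : ℕ) [Fact r.Prime]
    (hΩ : r ∣ (Cfsg.Geo.subgroupNormalizer R).relIndex (Cfsg.GU 3 F p ⊓ Cfsg.Geo.specialLinear (Fin 3) F)) :
    (∀ x ∈ Cfsg.GU 3 F p ⊓ Cfsg.Geo.specialLinear (Fin 3) F, (∃ z : F, ((x ^ r : GL (Fin 3) F) : Matrix (Fin 3) (Fin 3) F) = z • (1 : Matrix (Fin 3) (Fin 3) F)) →
      (∀ z : F, (x : Matrix (Fin 3) (Fin 3) F) ≠ z • (1 : Matrix (Fin 3) (Fin 3) F)) →
      ∃ g ∈ Cfsg.GU 3 F p ⊓ Cfsg.Geo.specialLinear (Fin 3) F, g⁻¹ * x * g ∈ Cfsg.Geo.subgroupNormalizer R) ↔ (r = 2 ∨ (r = 3 ∧ p % 9 = 8)) := by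
  have h := isConj_frob (Nat.card_eq_fintype_card.trans hF)
  have hV := stdHerm_nondeg h (Fin 3)
  have h4 := su_eq h (n := 3) (by omega)
  have h3 : (3 : F) ≠ 0 := cast_ne_zero p Nat.prime_three (by grind)
  have h2 : (2 : F) ≠ 0 := cast_ne_zero p Nat.prime_two (by grind)
  have h1 : io 3 F = 1 := io_eq_one_iff.2 (h.card_sub_one ▸ Dvd.dvd.mul_right (by omega) _)
  have hi := rep_injective R
  have h5 := mul_dvd_card Subgroup.le_normalizer (fun g hg => Subgroup.mem_inf.2 ⟨hRU hg, Units.ext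
    ((LinearMap.det_toLin' _).symm.trans (det_27 hi hR hRe hRna (by simp) h3 h1 ⟨g, hg⟩))⟩) hΩ
  rw [Herm.E_eq hV (by simp)] at h4
  rw [h4, ← Subgroup.relIndex_comap] at hΩ
  rw [h4, hR] at h5
  refine su_ic hV h4 (inM_nr R) sc_nr (herm_three hi hR hRe hRna (by simp) h3 h1 hV
    (fun a u v => (((mem_GU_iff h _).1 (hRU a.2)).B_map u v).trans (one_mul _).symm) h2 Fact.out
    (fun e => mod_nine_herm hp3 ((e ▸ h5).trans (Subgroup.card_dvd_of_surjective _
      (MonoidHom.subgroupMap_surjective _ _))) (by simpa using Herm.card_ker_det hV (by simp)))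
    (hΩ.trans (Subgroup.relIndex_dvd_card _ _))) fun e => cast_ne_zero p Fact.out (by grind)

end Cfsg.Agent.S5999
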